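import Cfsg.Agent.H77.BSW.Basic
import Cfsg.Agent.H49.DihCases
import Cfsg.Agent.H74.CoreGeneration
import Cfsg.Agent.S0514

/-!
# Simple groups with dihedral Sylow 2-subgroups as Brauer–Suzuki–Wall configurations
-/

set_option autoImplicit false

namespace Cfsg.Agent.H77

open Subgroup

/-- A cyclic subgroup of index two of a dihedral group containing a given central involution. -/
theorem dihedral_half {G : Type*} [Group G] [Finite G] (S R : Subgroup G) (n : ℕ) (hn : 2 ≤ n)
    (e : S ≃* DihedralGroup n) (hRS : R ≤ S) (hRi : R.relIndex S = 2) (hR : IsCyclic R) {t : G}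
    (ht : orderOf t = 2) (htR : t ∈ R) :
    (∀ a ∈ R, a * a = 1 → a = 1 ∨ a = t) ∧
      ∀ w ∈ S, w ∉ R → w * w = 1 ∧ ∀ a ∈ R, w * a * w⁻¹ = a⁻¹ := by
  classical
  have hn0 : NeZero n := ⟨by omega⟩
  have htt : t * t = 1 := by
    have := pow_orderOf_eq_one t
    rwa [ht, sq] at this
  refine ⟨fun a ha h2 => ?_, ?_⟩
  · by_contra hne
    rw [not_or] at hne
    have : Fintype R := Fintype.ofFinite _
    have h := hR.card_pow_eq_one_le (show 0 < 2 by norm_num)
    have ht1 : t ≠ 1 := fun e => by simp [e] at ht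
    have h3 : ({⟨1, one_mem R⟩, ⟨t, htR⟩, ⟨a, ha⟩} : Finset R) ⊆
        Finset.univ.filter (fun x : R => x ^ 2 = 1) := by
      intro x hx
      simp only [Finset.mem_insert, Finset.mem_singleton] at hx
      rcases hx with rfl | rfl | rfl <;>
        simp [Subtype.ext_iff, sq, htt, h2]
    have h4 := (Finset.card_le_card h3).trans h
    have h5 : ({⟨1, one_mem R⟩, ⟨t, htR⟩, ⟨a, ha⟩} : Finset R).card = 3 := by
      rw [Finset.card_insert_of_notMem, Finset.card_pair]
      · simp [Subtype.ext_iff, Ne.symm hne.2]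
      · simp [Subtype.ext_iff, Ne.symm ht1, Ne.symm hne.1]
    omega
  · intro w hw hwR
    by_cases hn2 : n = 2
    · subst hn2
      have hsq : ∀ x ∈ S, x * x = 1 := by
        intro x hx
        have h : e ⟨x, hx⟩ * e ⟨x, hx⟩ = 1 := by
          generalize e ⟨x, hx⟩ = y
          revert y
          decide
        rw [← map_mul] at h
        exact congrArg Subtype.val (e.injective (h.trans (map_one e).symm))
      refine ⟨hsq w hw, fun a ha => ?_⟩
      have h1 := hsq (w * a) (mul_mem hw (hRS ha))
      have hw' := inv_eq_of_mul_eq_one_right (hsq w hw)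
      rw [hw']
      calc w * a * w = (w * a) * (w * a) * a⁻¹ := by group
        _ = a⁻¹ := by rw [h1, one_mul]
    · obtain ⟨⟨r, hr⟩, hgen⟩ := hR.exists_generator
      have hcardR : Nat.card R = n := by
        have h := Subgroup.card_mul_index (R.subgroupOf S)
        rw [show (R.subgroupOf S).index = 2 from hRi,
          Nat.card_congr (Subgroup.subgroupOfEquivOfLe hRS).toEquiv, Nat.card_congr e.toEquiv,
          DihedralGroup.nat_card] at h
        omega
      have hor : orderOf (e ⟨r, hRS hr⟩) = n := by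
        rw [MulEquiv.orderOf_eq, Subgroup.orderOf_mk, ← Subgroup.orderOf_mk r hr,
          orderOf_eq_card_of_forall_mem_zpowers hgen, hcardR]
      obtain ⟨i, hi⟩ : ∃ i, e ⟨r, hRS hr⟩ = DihedralGroup.r i := by
        cases h : e ⟨r, hRS hr⟩ with
        | r i => exact ⟨i, rfl⟩
        | sr i =>
          rw [h, DihedralGroup.orderOf_sr] at hor
          omega
      -- the image of `R` is the group of rotations
      let ρ : R →* DihedralGroup n := e.toMonoidHom.comp (Subgroup.inclusion hRS)
      have hρ : ∀ a : R, ∃ j, ρ a = DihedralGroup.r j := by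
        intro a
        obtain ⟨k, hk⟩ := Subgroup.mem_zpowers_iff.1 (hgen a)
        refine ⟨k * i, ?_⟩
        rw [← hk, map_zpow, show ρ ⟨r, hr⟩ = DihedralGroup.r i from hi, DihedralGroup.r_zpow, mul_comm]
      obtain ⟨j, hj⟩ : ∃ j, e ⟨w, hw⟩ = DihedralGroup.sr j := by
        cases h : e ⟨w, hw⟩ with
        | sr j => exact ⟨j, rfl⟩
        | r j =>
          exfalso
          let f : R → ZMod n := fun a => (hρ a).choose
          have hf : Function.Injective f := fun a b hab => by
            have h' : ρ a = ρ b := by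
              rw [(hρ a).choose_spec, (hρ b).choose_spec]
              exact congrArg DihedralGroup.r hab
            exact Subgroup.inclusion_injective hRS (e.injective h')
          have hbij : Function.Bijective f :=
            (Nat.bijective_iff_injective_and_card f).2 ⟨hf, by rw [hcardR, Nat.card_zmod]⟩
          obtain ⟨a, ha⟩ := hbij.2 j
          have h' : ρ a = e ⟨w, hw⟩ := by
            rw [h, (hρ a).choose_spec]
            exact congrArg DihedralGroup.r ha
          have h'' : (a : G) = w := congrArg Subtype.val (e.injective h')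
          exact hwR (h'' ▸ a.2)
      constructor
      · have h : e (⟨w, hw⟩ * ⟨w, hw⟩) = e 1 := by
          rw [map_mul, hj, map_one, DihedralGroup.sr_mul_self]
        exact congrArg Subtype.val (e.injective h)
      · intro a ha
        obtain ⟨k, hk⟩ := hρ ⟨a, ha⟩
        have hk' : e ⟨a, hRS ha⟩ = DihedralGroup.r k := hk
        have h : e (⟨w, hw⟩ * ⟨a, hRS ha⟩ * ⟨w, hw⟩⁻¹) = e (⟨a, hRS ha⟩⁻¹) := by
          rw [map_mul, map_mul, map_inv, map_inv, hj, hk']
          simp
        exact congrArg Subtype.val (e.injective h)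

variable {G : Type*} [Group G] [Finite G] [IsSimpleGroup G]

/-- One class of involutions. -/
theorem isConj_of_dihedral_simple (S : Sylow 2 G) {n : ℕ} (hn : 2 ≤ n)
    (e : (S : Subgroup G) ≃* DihedralGroup n) {x y : G} (hx : orderOf x = 2) (hy : orderOf y = 2) :
    IsConj x y := by
  obtain ⟨N, f, hf, hr⟩ := H49.Dih.exists_embedding S hn e
  have hSyl : H49.IsSylTwo f.range := hr ▸ H49.isSylTwo_sylow S
  have hall : ∀ a, IsConj (f (H49.Dih.dz N)) (f (DihedralGroup.sr a)) := fun a => by
    by_contra ha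
    obtain ⟨H, hH, hH2⟩ := H49.Dih.exists_index_two hf hSyl ha
    rcases hH.eq_bot_or_eq_top with rfl | rfl
    · rw [Subgroup.index_bot] at hH2
      have h4 : Nat.card (S : Subgroup G) ∣ Nat.card G := Subgroup.card_subgroup_dvd_card _
      rw [hH2, Nat.card_congr e.toEquiv, DihedralGroup.nat_card] at h4
      have := Nat.le_of_dvd two_pos h4
      omega
    · rw [Subgroup.index_top] at hH2
      omega
  exact (H49.Dih.one_class hf hSyl hall hx).symm.trans (H49.Dih.one_class hf hSyl hall hy)

/-- The Brauer–Suzuki–Wall configuration. -/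
theorem exists_bsw_of_dihedral (S : Sylow 2 G) (n : ℕ) (hn : 2 ≤ n)
    (e : (S : Subgroup G) ≃* DihedralGroup n) (t : G) (ht : orderOf t = 2)
    (htS : t ∈ (S : Subgroup G)) (htZ : ∀ s ∈ (S : Subgroup G), s * t = t * s) (O : Subgroup G)
    (hO : O = H74.oddCoreIn (Subgroup.centralizer ({t} : Set G)))
    (ha : O ≠ ⊥ → IsCyclic ((S : Subgroup G) ⊓ Subgroup.centralizer (O : Set G) : Subgroup G) ∧
      ((S : Subgroup G) ⊓ Subgroup.centralizer (O : Set G)).relIndex (S : Subgroup G) = 2)
    (hb : ∀ s ∈ (S : Subgroup G), s ∉ Subgroup.centralizer (O : Set G) → ∀ y ∈ O, s * y * s⁻¹ = y⁻¹)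
    (hc : ∀ Y : Subgroup G, Y ≤ O → Y ≠ ⊥ →
      Subgroup.normalizer (Y : Set G) ≤ Subgroup.centralizer ({t} : Set G)) :
    ∃ (K : Subgroup G) (s : G), BSW t K s := by
  classical
  haveI : Fact (Nat.Prime 2) := ⟨Nat.prime_two⟩
  have hn0 : NeZero n := ⟨by omega⟩
  set C := Subgroup.centralizer ({t} : Set G) with hCdef
  have hOC : O ≤ C := hO ▸ H74.oddCoreIn_le C
  have hOodd : Odd (Nat.card O) := hO ▸ H74.odd_card_oddCoreIn C
  have hOmem : ∀ y ∈ O, y * t = t * y := fun y hy =>
    Subgroup.mem_centralizer_singleton_iff.1 (hOC hy)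
  have hSC : (S : Subgroup G) ≤ C := fun x hx =>
    Subgroup.mem_centralizer_singleton_iff.2 (htZ x hx)
  have hyodd : ∀ y ∈ O, Odd (orderOf y) := fun y hy => by
    rw [← Subgroup.orderOf_mk y hy]
    exact Odd.of_dvd_nat hOodd (orderOf_dvd_natCard _)
  have hOS : ∀ y ∈ O, y ∈ (S : Subgroup G) → y = 1 := fun y hy hyS =>
    H74.eq_one_of_odd_of_mem S.2 (hyodd y hy) hyS
  have htCO : t ∈ Subgroup.centralizer (O : Set G) :=
    Subgroup.mem_centralizer_iff.2 fun y hy => hOmem y hy
  -- the cyclic half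
  obtain ⟨R, hRS, hRi, hRcyc, htR, hRC, hRout⟩ : ∃ R : Subgroup G, R ≤ (S : Subgroup G) ∧
      R.relIndex (S : Subgroup G) = 2 ∧ IsCyclic R ∧ t ∈ R ∧
      R ≤ Subgroup.centralizer (O : Set G) ∧
      ∀ w ∈ (S : Subgroup G), w ∉ R → ∀ y ∈ O, w * y * w⁻¹ = y⁻¹ := by
    by_cases hObot : O = ⊥
    · have hcent : ∀ X : Subgroup G, X ≤ Subgroup.centralizer (O : Set G) := fun X x _ =>
        Subgroup.mem_centralizer_iff.2 fun y hy => by
          rw [hObot, SetLike.mem_coe, Subgroup.mem_bot] at hy
          simp [hy]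
      have hinvO : ∀ w : G, ∀ y ∈ O, w * y * w⁻¹ = y⁻¹ := fun w y hy => by
        rw [hObot, Subgroup.mem_bot] at hy
        simp [hy]
      by_cases hn2 : n = 2
      · refine ⟨Subgroup.zpowers t, Subgroup.zpowers_le.2 htS, ?_, inferInstance,
          Subgroup.mem_zpowers t, hcent _, fun w _ _ => hinvO w⟩
        have h := Subgroup.card_mul_index ((Subgroup.zpowers t).subgroupOf (S : Subgroup G))
        rw [Nat.card_congr (Subgroup.subgroupOfEquivOfLe (Subgroup.zpowers_le.2 htS)).toEquiv,
          Nat.card_zpowers, ht, Nat.card_congr e.toEquiv, DihedralGroup.nat_card, hn2] at h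
        show ((Subgroup.zpowers t).subgroupOf (S : Subgroup G)).index = 2
        omega
      · let R := Subgroup.zpowers ((e.symm (DihedralGroup.r 1) : (S : Subgroup G)) : G)
        have hRS : R ≤ (S : Subgroup G) := Subgroup.zpowers_le.2 (e.symm (DihedralGroup.r 1)).2
        refine ⟨R, hRS, ?_, inferInstance, ?_, hcent R, fun w _ _ => hinvO w⟩
        · have h := Subgroup.card_mul_index (R.subgroupOf (S : Subgroup G))
          rw [Nat.card_congr (Subgroup.subgroupOfEquivOfLe hRS).toEquiv, Nat.card_zpowers,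
            Subgroup.orderOf_coe, MulEquiv.orderOf_eq, DihedralGroup.orderOf_r_one,
            Nat.card_congr e.toEquiv, DihedralGroup.nat_card, mul_comm 2 n] at h
          exact Nat.eq_of_mul_eq_mul_left (by omega) h
        · cases h : e ⟨t, htS⟩ with
          | r i =>
            refine Subgroup.mem_zpowers_iff.2 ⟨(i.val : ℤ), ?_⟩
            have h1 : e.symm (DihedralGroup.r 1) ^ i.val = ⟨t, htS⟩ := by
              apply e.injective
              rw [map_pow, e.apply_symm_apply, DihedralGroup.r_one_pow, ZMod.natCast_zmod_val, h]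
            rw [zpow_natCast, ← SubgroupClass.coe_pow, h1]
          | sr i =>
            exfalso
            have hcomm := congrArg e (show (e.symm (DihedralGroup.r 1)) * ⟨t, htS⟩ =
              ⟨t, htS⟩ * e.symm (DihedralGroup.r 1) from Subtype.ext (htZ _ (e.symm (DihedralGroup.r 1)).2))
            rw [map_mul, map_mul, e.apply_symm_apply, h, DihedralGroup.r_mul_sr,
              DihedralGroup.sr_mul_r] at hcomm
            have h2 : ((2 : ℕ) : ZMod n) = 0 := by
              have := DihedralGroup.sr.inj hcomm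
              push_cast
              linear_combination (-1 : ZMod n) * this
            rw [ZMod.natCast_eq_zero_iff] at h2
            have := Nat.le_of_dvd two_pos h2
            omega
    · obtain ⟨hcyc, hidx⟩ := ha hObot
      exact ⟨_, inf_le_left, hidx, hcyc, ⟨htS, htCO⟩, inf_le_right,
        fun w hw hwR => hb w hw fun h => hwR ⟨hw, h⟩⟩
  obtain ⟨hRsq, hRinv⟩ := dihedral_half (S : Subgroup G) R n hn e hRS hRi hRcyc ht htR
  -- an element outside the half
  obtain ⟨s, hsS, hsR⟩ : ∃ s ∈ (S : Subgroup G), s ∉ R := by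
    by_contra h
    push_neg at h
    rw [Subgroup.relIndex_eq_one.2 h] at hRi
    omega
  obtain ⟨hss, hsinvR⟩ := hRinv s hsS hsR
  have hsinvO := hRout s hsS hsR
  have hOcomm : ∀ a ∈ O, ∀ b ∈ O, a * b = b * a := by
    intro a ha b hb
    have h := hsinvO (a * b) (mul_mem ha hb)
    rw [show s * (a * b) * s⁻¹ = (s * a * s⁻¹) * (s * b * s⁻¹) by group, hsinvO a ha, hsinvO b hb,
      ← _root_.mul_inv_rev] at h
    exact (inv_injective h).symm
  have hcommOR : ∀ y ∈ O, ∀ a ∈ R, y * a = a * y := fun y hy a ha =>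
    Subgroup.mem_centralizer_iff.1 (hRC ha) y hy
  have hRcomm : ∀ a ∈ R, ∀ b ∈ R, a * b = b * a := fun a ha b hb => by
    haveI := hRcyc
    exact congrArg Subtype.val (mul_comm' (⟨a, ha⟩ : R) ⟨b, hb⟩)
  let K : Subgroup G :=
    { carrier := {g | ∃ y ∈ O, ∃ a ∈ R, g = y * a}
      one_mem' := ⟨1, one_mem O, 1, one_mem R, (mul_one 1).symm⟩
      mul_mem' := by
        rintro g g' ⟨y, hy, a, ha', rfl⟩ ⟨y', hy', a', ha'', rfl⟩
        refine ⟨y * y', mul_mem hy hy', a * a', mul_mem ha' ha'', ?_⟩
        calc y * a * (y' * a') = y * (a * y') * a' := by group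
          _ = y * (y' * a) * a' := by rw [hcommOR y' hy' a ha']
          _ = _ := by group
      inv_mem' := by
        rintro g ⟨y, hy, a, ha', rfl⟩
        exact ⟨y⁻¹, inv_mem hy, a⁻¹, inv_mem ha', by
          rw [_root_.mul_inv_rev, hcommOR _ (inv_mem hy) _ (inv_mem ha')]⟩ }
  have hKmem : ∀ g, g ∈ K ↔ ∃ y ∈ O, ∃ a ∈ R, g = y * a := fun g => Iff.rfl
  have hKC : K ≤ C := by
    rintro g ⟨y, hy, a, ha', rfl⟩
    exact mul_mem (hOC hy) (hSC (hRS ha'))
  have hKsq : ∀ g ∈ K, g * g = 1 → g = 1 ∨ g = t := by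
    rintro g ⟨y, hy, a, ha', rfl⟩ hg
    have h1 : y * y * (a * a) = 1 := by
      rw [← hg]
      calc y * y * (a * a) = y * (y * a) * a := by group
        _ = y * (a * y) * a := by rw [hcommOR y hy a ha']
        _ = _ := by group
    have h2 : y * y ∈ (S : Subgroup G) := by
      rw [eq_inv_of_mul_eq_one_left h1]
      exact hRS (inv_mem (mul_mem ha' ha'))
    have h3 := hOS _ (mul_mem hy hy) h2
    rw [h3, one_mul] at h1
    have hy1 : y = 1 := by
      have h4 : orderOf y ∣ 2 := orderOf_dvd_of_pow_eq_one (by rw [sq, h3])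
      rcases (Nat.dvd_prime Nat.prime_two).1 h4 with h | h
      · exact orderOf_eq_one_iff.1 h
      · have := hyodd y hy
        rw [h] at this
        exact absurd this (by decide)
    rw [hy1, one_mul]
    exact hRsq a ha' h1
  have hKinv : ∀ g ∈ K, s * g * s⁻¹ = g⁻¹ := by
    rintro g ⟨y, hy, a, ha', rfl⟩
    rw [show s * (y * a) * s⁻¹ = (s * y * s⁻¹) * (s * a * s⁻¹) by group, hsinvO y hy, hsinvR a ha',
      _root_.mul_inv_rev, hcommOR _ (inv_mem hy) _ (inv_mem ha')]
  have hKcomm : ∀ a ∈ K, ∀ b ∈ K, a * b = b * a := by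
    intro a ha' b hb'
    have h := hKinv (a * b) (mul_mem ha' hb')
    rw [show s * (a * b) * s⁻¹ = (s * a * s⁻¹) * (s * b * s⁻¹) by group, hKinv a ha', hKinv b hb',
      ← _root_.mul_inv_rev] at h
    exact (inv_injective h).symm
  have hsK : s ∉ K := by
    rintro ⟨y, hy, a, ha', h⟩
    have hyS : y ∈ (S : Subgroup G) := by
      rw [show y = s * a⁻¹ by rw [h, mul_inv_cancel_right]]
      exact mul_mem hsS (inv_mem (hRS ha'))
    rw [hOS y hy hyS, one_mul] at h
    exact hsR (h ▸ ha')
  have hCdec : ∀ g ∈ C, g ∈ K ∨ g * s ∈ K := by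
    obtain ⟨N, hN, hNodd, k, hk⟩ := S0514.result S n hn ⟨e⟩ t ht
    set N' := N.map C.subtype with hN'
    have hN'card : Nat.card N' = Nat.card N := Subgroup.card_map_of_injective C.subtype_injective
    have hN'le : N' ≤ C := Subgroup.map_subtype_le N
    have hN'O : N' ≤ O := by
      rw [hO]
      refine H74.le_oddCoreIn hN'le ?_ (hN'card.symm ▸ hNodd)
      rw [← Subgroup.normal_subgroupOf_iff_le_normalizer hN'le,
        show N'.subgroupOf C = N from Subgroup.comap_map_eq_self_of_injective C.subtype_injective N]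
      exact hN
    have hdvd : 2 ^ k ∣ Nat.card (S : Subgroup G) := by
      obtain ⟨m, hm⟩ := S.isPGroup'.exists_card_eq
      rw [hm]
      refine pow_dvd_pow 2 ?_
      have h1 : 2 ^ k ∣ Nat.card G := hk ▸ (Subgroup.index_dvd_card N).trans (Subgroup.card_subgroup_dvd_card C)
      rw [S.card_eq_multiplicity] at hm
      rw [← Nat.pow_right_injective le_rfl hm]
      exact (Nat.prime_two.pow_dvd_iff_le_factorization Nat.card_pos.ne').1 h1
    have hbij : Function.Bijective (fun p : ↥N' × ↥(S : Subgroup G) =>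
        (⟨(p.1 : G) * p.2, mul_mem (hN'le p.1.2) (hSC p.2.2)⟩ : C)) := by
      have hd : Disjoint N' (S : Subgroup G) := by
        rw [Subgroup.disjoint_def]
        exact fun hx hxS => hOS _ (hN'O hx) hxS
      have hinj : Function.Injective (fun p : ↥N' × ↥(S : Subgroup G) =>
          (⟨(p.1 : G) * p.2, mul_mem (hN'le p.1.2) (hSC p.2.2)⟩ : C)) :=
        fun p q h => Subgroup.mul_injective_of_disjoint hd (congrArg Subtype.val h)
      refine (Nat.bijective_iff_injective_and_card _).2 ⟨hinj, le_antisymm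
        (Nat.card_le_card_of_injective _ hinj) ?_⟩
      rw [Nat.card_prod, hN'card, ← Subgroup.card_mul_index N, hk]
      exact Nat.mul_le_mul_left _ (Nat.le_of_dvd Nat.card_pos hdvd)
    intro g hg
    obtain ⟨⟨⟨m, hm⟩, ⟨w, hw⟩⟩, hp⟩ := hbij.2 ⟨g, hg⟩
    have hp' : m * w = g := congrArg Subtype.val hp
    by_cases hwR : w ∈ R
    · exact Or.inl ⟨m, hN'O hm, w, hwR, hp'.symm⟩
    · refine Or.inr ⟨m, hN'O hm, w * s, ?_, by rw [← hp', mul_assoc]⟩
      have := (Subgroup.mul_mem_iff_of_index_two (H := R.subgroupOf (S : Subgroup G)) hRi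
        (a := (⟨w, hw⟩ : (S : Subgroup G))) (b := ⟨s, hsS⟩)).2 (iff_of_false hwR hsR)
      exact this
  have hso : orderOf s = 2 :=
    orderOf_eq_prime (by rw [sq, hss]) fun h => hsR (h ▸ one_mem R)
  have htK : t ∈ K := ⟨1, one_mem O, t, htR, (one_mul t).symm⟩
  have hKodd : ∀ g ∈ K, Odd (orderOf g) → g ∈ O := by
    rintro g ⟨y, hy, a, ha', rfl⟩ hodd
    have h := pow_orderOf_eq_one (y * a)
    rw [Commute.mul_pow (hcommOR y hy a ha')] at h
    have h1 : a ^ orderOf (y * a) = 1 := by
      refine hOS _ ?_ (pow_mem (hRS ha') _)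
      rw [eq_inv_of_mul_eq_one_right h]
      exact inv_mem (pow_mem hy _)
    have h2 : a = 1 := by
      refine H74.eq_one_of_odd_of_mem S.2 ?_ (hRS ha')
      exact Odd.of_dvd_nat hodd (orderOf_dvd_of_pow_eq_one h1)
    rw [h2, mul_one]
    exact hy
  refine ⟨K, s, ht, htK, hso, hsK, hKcomm, fun g => ⟨fun h => hCdec g
    (Subgroup.mem_centralizer_singleton_iff.2 h), fun h => ?_⟩, hKinv, hKsq, ?_,
    fun x hx => isConj_of_dihedral_simple S hn e ht hx⟩
  · apply Subgroup.mem_centralizer_singleton_iff.1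
    rcases h with h | h
    · exact hKC h
    · have := mul_mem (hKC h) (inv_mem (hSC hsS))
      rwa [mul_inv_cancel_right] at this
  · intro g a haK ha1 hga
    obtain ⟨r, hr, hrd⟩ := Nat.exists_prime_and_dvd (n := orderOf a) (fun h => ha1 (orderOf_eq_one_iff.1 h))
    set b := a ^ (orderOf a / r) with hb'
    have hbo : orderOf b = r := orderOf_pow_orderOf_div (orderOf_pos a).ne' hrd
    have hbK : b ∈ K := pow_mem haK _
    have hgb : g * b * g⁻¹ ∈ K := by
      rw [hb', ← MulAut.conj_apply, map_pow]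
      exact pow_mem hga _
    have hgbo : orderOf (g * b * g⁻¹) = r := by
      rw [← MulAut.conj_apply, MulEquiv.orderOf_eq, hbo]
    have key : ∀ x ∈ K, orderOf x = 2 → x = t := fun x hx hxo => by
      refine (hKsq x hx ?_).resolve_left fun h => by simp [h] at hxo
      have := pow_orderOf_eq_one x
      rwa [hxo, sq] at this
    by_cases hr2 : r = 2
    · have h1 := key b hbK (hbo.trans hr2)
      have h2 := key _ hgb (hgbo.trans hr2)
      rw [h1, mul_inv_eq_iff_eq_mul] at h2
      exact h2
    · have hodd : Odd r := hr.odd_of_ne_two hr2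
      have hbO := hKodd b hbK (hbo.symm ▸ hodd)
      have hgbO := hKodd _ hgb (hgbo.symm ▸ hodd)
      have hb1 : b ≠ 1 := fun h => by
        rw [h, orderOf_one] at hbo
        exact hr.one_lt.ne hbo
      set c := g * b * g⁻¹ with hc'
      have hc1 : c ≠ 1 := fun h => hb1 (conj_eq_one_iff.1 h)
      have hcent : ∀ {z : G}, z ∈ O → z ≠ 1 → Subgroup.centralizer ({z} : Set G) ≤ C := by
        intro z hz hz1 x hx
        refine hc (Subgroup.zpowers z) (Subgroup.zpowers_le.2 hz)
          (fun h => hz1 (Subgroup.zpowers_eq_bot.1 h)) ?_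
        rw [Subgroup.mem_centralizer_singleton_iff] at hx
        rw [Subgroup.mem_normalizer_iff]
        intro w
        constructor <;> intro hw
        · obtain ⟨i, rfl⟩ := Subgroup.mem_zpowers_iff.1 hw
          rw [(Commute.zpow_right hx i).eq, mul_inv_cancel_right]
          exact hw
        · obtain ⟨i, hi⟩ := Subgroup.mem_zpowers_iff.1 hw
          refine Subgroup.mem_zpowers_iff.2 ⟨i, ?_⟩
          calc z ^ i = x⁻¹ * (x * z ^ i) := by group
            _ = x⁻¹ * (z ^ i * x) := by rw [(Commute.zpow_right hx i).eq]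
            _ = w := by rw [hi]; group
      -- the conjugate of `t` commutes with `c`
      have hu : g * t * g⁻¹ ∈ Subgroup.centralizer ({c} : Set G) := by
        rw [Subgroup.mem_centralizer_singleton_iff]
        calc g * t * g⁻¹ * c = g * (t * b) * g⁻¹ := by rw [hc']; group
          _ = g * (b * t) * g⁻¹ := by rw [hOmem b hbO]
          _ = _ := by rw [hc']; group
      have huC := hcent hgbO hc1 hu
      have huo : orderOf (g * t * g⁻¹) = 2 := by rw [← MulAut.conj_apply, MulEquiv.orderOf_eq, ht]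
      by_cases huK : g * t * g⁻¹ ∈ K
      · have h2 := key _ huK huo
        rw [mul_inv_eq_iff_eq_mul] at h2
        exact h2
      · exfalso
        have hus := (hCdec _ huC).resolve_left huK
        have hcomm := Subgroup.mem_centralizer_singleton_iff.1 hu
        set u := g * t * g⁻¹
        have hsc : s * c * s⁻¹ = c := by
          have h1 : (u * s) * c = c * (u * s) := hKcomm _ hus c hgb
          calc s * c * s⁻¹ = u⁻¹ * ((u * s) * c) * s⁻¹ := by group
            _ = u⁻¹ * (c * (u * s)) * s⁻¹ := by rw [h1]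
            _ = u⁻¹ * (c * u) := by group
            _ = u⁻¹ * (u * c) := by rw [hcomm]
            _ = c := by group
        rw [hKinv c hgb] at hsc
        have h2 : c * c = 1 := by
          nth_rewrite 1 [← hsc]
          exact inv_mul_cancel c
        have h3 : orderOf c ∣ 2 := orderOf_dvd_of_pow_eq_one (by rw [sq, h2])
        rw [hgbo] at h3
        exact hr2 ((Nat.prime_dvd_prime_iff_eq hr Nat.prime_two).1 h3)

end Cfsg.Agent.H77
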