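import Cfsg.Agent.H77.BSW.Plus
import Cfsg.Agent.H77.BSW.Tools

/-!
# The case `|G| = 2n(2n-1)(n-1)` of the Brauer–Suzuki–Wall theorem
-/

set_option autoImplicit false

namespace Cfsg.Agent.H77

open Subgroup

/-- An element with no real power in an odd-order group has no real conjugate. -/
theorem eq_one_of_sq_of_odd {G : Type*} [Group G] (x : G) (h : x * x = 1) (hodd : Odd (orderOf x)) :
    x = 1 := by
  have h1 : orderOf x ∣ 2 := orderOf_dvd_of_pow_eq_one (by rw [sq, h])
  rcases (Nat.dvd_prime Nat.prime_two).1 h1 with h2 | h2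
  · exact orderOf_eq_one_iff.1 h2
  · rw [h2] at hodd; exact absurd hodd (by decide)

variable {G : Type*} [Group G] [Finite G] {t s : G} {K : Subgroup G} (d : BSW t K s)
include d

/-- Some element without a conjugate in `K` is a product of two involutions, if there are enough
involutions. -/
theorem BSW.exists_real_free
    (hlt : (Nat.card K + 1) * Nat.card K < Nat.card {x : G // IsConj t x}) :
    ∃ x : G, ¬ConjInto K x ∧ 0 < d.inv2 x := by
  classical
  by_contra hcon
  push_neg at hcon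
  refine absurd hlt (not_lt.2 ?_)
  let W := {i : G // IsConj t i ∧ i * t = t * i}
  have hW : Nat.card W ≤ Nat.card K + 1 := by
    have h := Nat.card_le_card_of_injective
      (fun i : W => if h : (i.1 * s) ∈ K then some (⟨i.1 * s, h⟩ : K) else none) ?_
    · rwa [Finite.card_option] at h
    intro i j hij
    have key : ∀ i : W, (i.1 * s) ∉ K → i.1 = t := by
      intro i hi
      have hK := ((d.mem_cases i.1).1 i.2.2).resolve_right hi
      have h1 : orderOf i.1 = 2 := d.isConj_t_iff.1 i.2.1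
      refine (d.sq_one _ hK ?_).resolve_left fun e => by simp [e] at h1
      have := pow_orderOf_eq_one i.1
      rwa [h1, sq] at this
    simp only at hij
    split_ifs at hij with hi hj
    · exact Subtype.ext (mul_right_cancel (congrArg Subtype.val (Option.some.inj hij)))
    · exact Subtype.ext ((key i hi).trans (key j (by assumption)).symm)
  choose gi hgi using fun i : W => isConj_iff.1 i.2.1
  have hsurj : ∀ u : {x : G // IsConj t x}, ∃ p : W × K,
      t * (gi p.1 * (p.2 : G) * (gi p.1)⁻¹) = u.1 := by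
    rintro ⟨u, hu⟩
    have huu : u * u = 1 := by
      have := pow_orderOf_eq_one u
      rwa [d.isConj_t_iff.1 hu, sq] at this
    set y := t * u with hy
    by_cases hy1 : y = 1
    · refine ⟨(⟨t, IsConj.refl t, rfl⟩, 1), ?_⟩
      simp only [OneMemClass.coe_one, mul_one, mul_inv_cancel]
      exact inv_eq_of_mul_eq_one_right hy1 ▸ (inv_eq_of_mul_eq_one_right d.t_sq).symm
    have hin : ConjInto K y := by
      by_contra hfree
      have h0 := hcon y hfree
      have : 0 < d.inv2 y :=
        Nat.card_pos_iff.2 ⟨⟨⟨(t, u), IsConj.refl t, hu, rfl⟩⟩, inferInstance⟩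
      omega
    obtain ⟨g, hg⟩ := hin
    have hyinv : t * y * t⁻¹ = y⁻¹ := by
      rw [hy, _root_.mul_inv_rev, ← mul_assoc, d.t_sq, one_mul, inv_eq_of_mul_eq_one_right huu]
    have ht' : (g * t * g⁻¹) * t = t * (g * t * g⁻¹) := by
      refine d.ti _ (g * y * g⁻¹) hg (fun e => hy1 (conj_eq_one_iff.1 e)) ?_
      have e : g * t * g⁻¹ * (g * y * g⁻¹) * (g * t * g⁻¹)⁻¹ = (g * y * g⁻¹)⁻¹ := by
        calc _ = g * (t * y * t⁻¹) * g⁻¹ := by group
          _ = g * y⁻¹ * g⁻¹ := by rw [hyinv]
          _ = _ := by group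
      rw [e]; exact inv_mem hg
    have hit : (g⁻¹ * t * g) * t = t * (g⁻¹ * t * g) := by
      calc (g⁻¹ * t * g) * t = g⁻¹ * (t * (g * t * g⁻¹)) * g := by group
        _ = g⁻¹ * ((g * t * g⁻¹) * t) * g := by rw [ht']
        _ = _ := by group
    let i : W := ⟨g⁻¹ * t * g, isConj_iff.2 ⟨g⁻¹, by group⟩, hit⟩
    have hh : (g * gi i) * t = t * (g * gi i) := by
      have e : gi i * t * (gi i)⁻¹ = g⁻¹ * t * g := hgi i
      calc (g * gi i) * t = g * (gi i * t * (gi i)⁻¹) * gi i := by group
        _ = g * (g⁻¹ * t * g) * gi i := by rw [e]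
        _ = _ := by group
    refine ⟨(i, ⟨(g * gi i)⁻¹ * (g * y * g⁻¹) * ((g * gi i)⁻¹)⁻¹,
      d.conj_mem hg (Commute.inv_left hh).eq⟩), ?_⟩
    show t * (gi i * ((g * gi i)⁻¹ * (g * y * g⁻¹) * ((g * gi i)⁻¹)⁻¹) * (gi i)⁻¹) = u
    calc _ = t * y := by group
      _ = u := by rw [hy, ← mul_assoc, d.t_sq, one_mul]
  choose F hF using hsurj
  have h := Nat.card_le_card_of_injective F (fun a b e => Subtype.ext (by rw [← hF a, ← hF b, e]))
  rw [Nat.card_prod] at h
  exact h.trans (Nat.mul_le_mul_right _ hW)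

/-- The case `|G| = 2n(2n-1)(n-1)`. -/
theorem BSW.concl_minus (hn4 : 4 ≤ Nat.card K)
    (hN : (Nat.card {x : G // IsConj t x} : ℤ) =
      (2 * (Nat.card K : ℤ) - 1) * ((Nat.card K : ℤ) - 1))
    (hnum : ∀ x : G, ¬ConjInto K x → ∃ k : ℤ,
      (d.inv2 x : ℤ) = ((Nat.card K : ℤ) - 1) * (1 + k) ∧
      2 + 2 * ((1 + k) * (1 + k)) + ((Nat.card K : ℤ) - 1) * (k * k) ≤
        2 * Nat.card ↥(Subgroup.centralizer ({x} : Set G))) : BSWConcl G := by
  classical
  have : Fintype G := Fintype.ofFinite G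
  obtain ⟨m, hm⟩ : ∃ m, Nat.card K = m + 1 := ⟨_, (Nat.sub_add_cancel Nat.card_pos).symm⟩
  obtain ⟨q, hq⟩ : ∃ q, q = 2 * m + 1 := ⟨_, rfl⟩
  have hNm : Nat.card {x : G // IsConj t x} = q * m := by
    rw [hm] at hN
    push_cast at hN
    have : ((Nat.card {x : G // IsConj t x} : ℕ) : ℤ) = ((q * m : ℕ) : ℤ) := by
      rw [hN, hq]; push_cast; ring
    exact_mod_cast this
  have hg : Nat.card G = 2 * (m + 1) * (q * m) := by rw [d.card_eq, hm, hNm]
  have hmodd : Odd m := by
    have h := d.odd_class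
    rw [hNm, Nat.odd_mul] at h
    exact h.2
  have hm3 : 3 ≤ m := by omega
  -- step one: real elements
  have hreal : ∀ z : G, ¬ConjInto K z → t * z * t⁻¹ = z⁻¹ →
      Nat.card ↥(Subgroup.centralizer ({z} : Set G)) = m ∧ Nat.card ↥(d.normPart z) = 2 := by
    intro z hz hinv
    obtain ⟨k, hk, hb⟩ := hnum z hz
    rw [d.inv2_eq_card hz hinv, hm] at hk
    rw [hm] at hb
    push_cast at hk hb
    obtain ⟨c, hc⟩ : ∃ c, Nat.card ↥(Subgroup.centralizer ({z} : Set G)) = c := ⟨_, rfl⟩
    rw [hc] at hk hb ⊢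
    have hc0 : 0 < c := hc ▸ Nat.card_pos
    have hk0 : 0 ≤ k := by
      by_contra h
      nlinarith
    have hk2 : k ≤ 2 := by
      by_contra h
      nlinarith
    obtain ⟨e, he⟩ : ∃ e, Nat.card ↥(d.normPart z) = e := ⟨_, rfl⟩
    have he1 : e ∣ m + 1 := he ▸ hm ▸ Subgroup.card_dvd_of_le (d.normPart_le hz hinv)
    have he2 : e ∣ c - 1 := he ▸ hc ▸ d.normPart_dvd_sub_one hz hinv
    have he3 : 2 ∣ e := he ▸ d.two_dvd_normPart hz hinv
    have hodd : Odd c := hc ▸ d.odd_centralizer hz
    rw [he]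
    interval_cases k
    · have hcm : c = m := by omega
      refine ⟨hcm, ?_⟩
      have h2 : e ∣ (m + 1) - (c - 1) := Nat.dvd_sub he1 he2
      rw [show (m + 1) - (c - 1) = 2 by omega] at h2
      have := Nat.le_of_dvd (by norm_num) h2
      have : e ≠ 0 := fun h => by simp [h] at h2
      omega
    · exfalso
      have hcm : c = 2 * m := by omega
      rw [hcm] at hodd
      exact Nat.not_even_iff_odd.2 hodd (even_two_mul m)
    · exfalso
      have hcm : c = 3 * m := by omega
      have h4 : e ∣ 4 := by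
        have h2 : e ∣ 3 * (m + 1) - (c - 1) := Nat.dvd_sub (he1.mul_left 3) he2
        rwa [show 3 * (m + 1) - (c - 1) = 4 by omega] at h2
      have hco : Nat.Coprime c e :=
        Nat.Coprime.coprime_dvd_right (h4.trans (dvd_refl (2 ^ 2)))
          (Nat.Coprime.pow_right 2 (Nat.coprime_two_right.2 hodd))
      obtain ⟨r, hr⟩ := d.index_normalizer_mod hz hinv (by rwa [hc, he])
      rw [hc] at hr
      have hidx := Subgroup.index_mul_card
        (Subgroup.normalizer (Subgroup.centralizer ({z} : Set G) : Set G))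
      rw [d.card_normalizer hz hinv, hc, he, hg] at hidx
      have hi0 : 0 < (Subgroup.normalizer (Subgroup.centralizer ({z} : Set G) : Set G)).index :=
        Nat.pos_of_ne_zero Subgroup.index_ne_zero_of_finite
      obtain ⟨i, hi⟩ : ∃ i,
          (Subgroup.normalizer (Subgroup.centralizer ({z} : Set G) : Set G)).index = i + 1 :=
        ⟨_, (Nat.sub_add_cancel hi0).symm⟩
      rw [hi, Nat.add_sub_cancel] at hr
      rw [hi, hr, hcm, hq] at hidx
      have hz' : ((3 * m * r + 1) * 3 * e : ℤ) = 2 * (m + 1) * (2 * m + 1) := by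
        have h' : (((3 * m * r + 1) * (3 * m * e) : ℕ) : ℤ) =
            ((2 * (m + 1) * ((2 * m + 1) * m) : ℕ) : ℤ) := by rw [hidx]
        push_cast at h'
        apply mul_right_cancel₀ (show (m : ℤ) ≠ 0 by omega)
        linear_combination h'
      have hdvd : (m : ℤ) ∣ 3 * e - 2 := ⟨4 * m + 6 - 9 * r * e, by linear_combination hz'⟩
      have he4 := Nat.le_of_dvd (by norm_num) h4
      interval_cases e
      all_goals (first | omega | skip)
      · have h' := Int.le_of_dvd (by norm_num) hdvd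
        norm_num at hdvd h'
        interval_cases m <;> omega
      · have h' := Int.le_of_dvd (by norm_num) hdvd
        norm_num at hdvd h'
        interval_cases m <;> omega
  -- the subgroup `D`
  obtain ⟨x₀, hx₀, hf₀⟩ := d.exists_real_free (by rw [hm, hNm, hq]; nlinarith)
  obtain ⟨g₀, hinv⟩ := d.exists_inverted hf₀
  set x := g₀ * x₀ * g₀⁻¹
  have hfree : ¬ConjInto K x := fun h => hx₀ ((conjInto_conj_iff g₀).1 h)
  obtain ⟨hDcard, hnp⟩ := hreal x hfree hinv
  set D := Subgroup.centralizer ({x} : Set G) with hD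
  have hnpt : d.normPart x = Subgroup.zpowers t := by
    refine (Subgroup.eq_of_le_of_card_ge ((Subgroup.zpowers_le).2 (d.t_mem_normPart hfree hinv)) ?_).symm
    rw [hnp, Nat.card_zpowers, d.t_order]
  have hDab : IsMulCommutative D :=
    ⟨⟨fun a b => Subtype.ext (d.comm_centralizer hfree hinv a.2 b.2)⟩⟩
  have hDC : ∀ a ∈ D, a ≠ 1 → Subgroup.centralizer ({a} : Set G) = D :=
    fun a ha ha1 => d.centralizer_eq hfree hinv ha ha1
  have htD : t ∉ D := fun h =>
    hfree (d.conjInto_of_comm d.t_order (Subgroup.mem_centralizer_singleton_iff.1 h).symm)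
  set ND := Subgroup.normalizer (D : Set G) with hND
  have hNDeq : ND = D ⊔ Subgroup.zpowers t := by rw [hND, hD, d.normalizer_eq_sup hfree hinv, hnpt]
  have hNDcases : ∀ h ∈ ND, h ∈ D ∨ h * t ∈ D := by
    intro h hh
    obtain ⟨c, hc, e, he, rfl⟩ := d.normalizer_cases hfree hinv hh
    rw [hnpt, Subgroup.mem_zpowers_iff] at he
    obtain ⟨i, rfl⟩ := he
    rcases Int.even_or_odd i with ⟨r, rfl⟩ | ⟨r, rfl⟩
    · left
      rw [_root_.zpow_add, ← (Commute.refl t).mul_zpow, d.t_sq, one_zpow, mul_one]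
      exact hc
    · right
      rw [_root_.zpow_add, two_mul, _root_.zpow_add, ← (Commute.refl t).mul_zpow, d.t_sq, one_zpow,
        one_mul, zpow_one, mul_assoc, d.t_sq, mul_one]
      exact hc
  -- every element of `N(D) ∖ D` is an involution
  have hNDodd : ∀ h ∈ ND, Odd (orderOf h) → h ∈ D := by
    intro h hh hodd
    rcases hNDcases h hh with h1 | h1
    · exact h1
    · by_contra hne
      refine hne ?_
      have hi := d.t_inverts_centralizer hfree hinv h1
      have h2 : h * h = 1 := by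
        rw [inv_eq_of_mul_eq_one_right d.t_sq] at hi
        calc h * h = (h * t) * (t * (h * t) * t) := by
              simp only [mul_assoc, d.t_sq, mul_one, ← mul_assoc t t, one_mul]
          _ = 1 := by rw [hi, mul_inv_cancel]
      rw [eq_one_of_sq_of_odd h h2 hodd]
      exact one_mem D
  have hDindex : D.index = 2 * (m + 1) * q := by
    have h := Subgroup.index_mul_card D
    rw [hDcard, hg] at h
    apply Nat.eq_of_mul_eq_mul_right (show 0 < m by omega)
    rw [h]; ring
  have hKindex : K.index = 2 * (q * m) := by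
    have h := Subgroup.index_mul_card K
    rw [hm, hg] at h
    apply Nat.eq_of_mul_eq_mul_right (show 0 < m + 1 by omega)
    rw [h]; ring
  have hprime : ∀ r : ℕ, r.Prime → r ≠ 2 → r ∣ m → ¬ r ∣ 2 * (m + 1) * q := by
    intro r hr hr2 hrm h
    rcases (Nat.Prime.dvd_mul hr).1 h with h | h
    · rcases (Nat.Prime.dvd_mul hr).1 h with h | h
      · exact hr2 ((Nat.prime_dvd_prime_iff_eq hr Nat.prime_two).1 h)
      · exact hr.one_lt.ne' (Nat.dvd_one.1 ((Nat.dvd_add_right hrm).1 h))
    · exact hr.one_lt.ne' (Nat.dvd_one.1 ((Nat.dvd_add_right (hrm.mul_left 2)).1 (hq ▸ h)))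
  have hprime' : ∀ r : ℕ, r.Prime → r ≠ 2 → r ∣ m + 1 → ¬ r ∣ 2 * (q * m) := by
    intro r hr hr2 hrn h
    rcases (Nat.Prime.dvd_mul hr).1 h with h | h
    · exact hr2 ((Nat.prime_dvd_prime_iff_eq hr Nat.prime_two).1 h)
    rcases (Nat.Prime.dvd_mul hr).1 h with h | h
    · have h' : r ∣ 2 * (m + 1) - q := Nat.dvd_sub (hrn.mul_left 2) h
      rw [show 2 * (m + 1) - q = 1 by omega] at h'
      exact hr.one_lt.ne' (Nat.dvd_one.1 h')
    · exact hr.one_lt.ne' (Nat.dvd_one.1 ((Nat.dvd_add_right h).1 hrn))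
  -- R: the elements with no conjugate in `K` or `D`
  have hodd_r : ∀ {y z : G}, ¬ConjInto K y → z ∈ Subgroup.centralizer ({y} : Set G) → Odd (orderOf z) :=
    fun {y z} hy hz => by
      rw [← Subgroup.orderOf_mk z hz]
      exact Odd.of_dvd_nat (d.odd_centralizer hy) (orderOf_dvd_natCard _)
  -- an odd prime order element whose prime divides `m(m+1)`
  have habs : ∀ (z : G) (r : ℕ), r.Prime → r ≠ 2 → r ∣ (m + 1) * m → orderOf z = r →
      ∃ g : G, ∃ A : Subgroup G, (A = K ∨ A = D) ∧ g * z * g⁻¹ ∈ A ∧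
        ∀ w : G, w * z = z * w → g * w * g⁻¹ ∈ A := by
    intro z r hr hr2 hrd hz
    have hconj : ∀ g w : G, w * z = z * w →
        g * w * g⁻¹ * (g * z * g⁻¹) = g * z * g⁻¹ * (g * w * g⁻¹) := by
      intro g w h
      calc g * w * g⁻¹ * (g * z * g⁻¹) = g * (w * z) * g⁻¹ := by group
        _ = g * (z * w) * g⁻¹ := by rw [h]
        _ = _ := by group
    have hz1 : z ≠ 1 := fun e => by simp [e] at hz; exact hr.one_lt.ne hz
    rcases (Nat.Prime.dvd_mul hr).1 hrd with h | h
    · obtain ⟨g, hg'⟩ := exists_conj_mem_of_not_dvd_index K hr hz (by rw [hKindex]; exact hprime' r hr hr2 h)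
      refine ⟨g, K, Or.inl rfl, hg', fun w hw => d.mem_of_comm_odd hg' (fun e => hz1 (conj_eq_one_iff.1 e))
        ?_ (hconj g w hw)⟩
      rw [← MulAut.conj_apply, MulEquiv.orderOf_eq, hz]
      exact hr.odd_of_ne_two hr2
    · obtain ⟨g, hg'⟩ := exists_conj_mem_of_not_dvd_index D hr hz (by rw [hDindex]; exact hprime r hr hr2 h)
      refine ⟨g, D, Or.inr rfl, hg', fun w hw => ?_⟩
      rw [← hDC _ hg' (fun e => hz1 (conj_eq_one_iff.1 e))]
      exact Subgroup.mem_centralizer_singleton_iff.2 (hconj g w hw)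
  have hCR : ∀ y : G, y ≠ 1 → ¬ConjInto K y → ¬ConjInto D y →
      Nat.card ↥(Subgroup.centralizer ({y} : Set G)) ∣ q := by
    intro y hy1 hyK hyD
    have hco : Nat.Coprime (Nat.card ↥(Subgroup.centralizer ({y} : Set G))) (2 * (m + 1) * m) := by
      refine Nat.coprime_of_dvd fun r hr h1 h2 => ?_
      haveI : Fact r.Prime := ⟨hr⟩
      obtain ⟨z, hz⟩ := exists_prime_orderOf_dvd_card' r h1
      have hr2 : r ≠ 2 := fun e => by
        have := hodd_r hyK z.2
        rw [Subgroup.orderOf_coe, hz, e] at this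
        exact absurd this (by decide)
      have hrd : r ∣ (m + 1) * m := by
        rcases (Nat.Prime.dvd_mul hr).1 h2 with h | h
        · rcases (Nat.Prime.dvd_mul hr).1 h with h | h
          · exact absurd ((Nat.prime_dvd_prime_iff_eq hr Nat.prime_two).1 h) hr2
          · exact h.mul_right _
        · exact h.mul_left _
      obtain ⟨g, A, hA, -, hall⟩ := habs (z : G) r hr hr2 hrd (by rw [Subgroup.orderOf_coe, hz])
      have := hall y (Subgroup.mem_centralizer_singleton_iff.1 z.2).symm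
      rcases hA with rfl | rfl
      · exact hyK ⟨g, this⟩
      · exact hyD ⟨g, this⟩
    refine hco.dvd_of_dvd_mul_left ?_
    rw [show 2 * (m + 1) * m * q = Nat.card G by rw [hg]; ring]
    exact Subgroup.card_subgroup_dvd_card _
  have hnonreal : ∀ y : G, y ≠ 1 → ¬ConjInto K y → ¬ConjInto D y → ¬IsConj y y⁻¹ := by
    intro y hy1 hyK hyD hreal'
    obtain ⟨h, hh⟩ := isConj_iff.1 hreal'
    have hh' : h * y = y⁻¹ * h := mul_inv_eq_iff_eq_mul.1 hh
    have hh2' : h * y⁻¹ = y * h := by
      calc h * y⁻¹ = y * (y⁻¹ * h) * y⁻¹ := by group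
        _ = y * (h * y) * y⁻¹ := by rw [hh']
        _ = y * h := by group
    have hh2 : h * h ∈ Subgroup.centralizer ({y} : Set G) := by
      rw [Subgroup.mem_centralizer_singleton_iff, mul_assoc, hh', ← mul_assoc, hh2', mul_assoc]
    have hodd := hodd_r hyK hh2
    obtain ⟨j, hj⟩ := hodd
    set w := h ^ (2 * j + 1) with hw
    have hcomm : Commute (h * h) y := Subgroup.mem_centralizer_singleton_iff.1 hh2
    have hwy : w * y = y⁻¹ * w := by
      have e : w = (h * h) ^ j * h := by rw [hw, pow_succ, ← sq, ← pow_mul]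
      rw [e, mul_assoc, hh', ← mul_assoc, ((hcomm.inv_right).pow_left j).eq, mul_assoc]
    have hww : w * w = 1 := by
      rw [hw, ← (Commute.refl h).mul_pow, ← hj, pow_orderOf_eq_one]
    have hwinv : w⁻¹ = w := inv_eq_of_mul_eq_one_right hww
    have hyodd := hodd_r hyK (Subgroup.mem_centralizer_singleton_iff.2 rfl : y ∈ _)
    have hw1 : w ≠ 1 := fun e => by
      rw [e, one_mul, mul_one] at hwy
      exact hy1 (eq_one_of_sq_of_odd y (by nth_rewrite 1 [hwy]; exact inv_mul_cancel y) hyodd)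
    have hwo : orderOf w = 2 := orderOf_eq_prime (by rw [sq, hww]) hw1
    have hwyo : orderOf (w * y) = 2 := by
      refine orderOf_eq_prime ?_ fun e => ?_
      · rw [sq]
        calc w * y * (w * y) = (w * y) * w * y := by group
          _ = y⁻¹ * (w * w) * y := by rw [hwy]; group
          _ = 1 := by rw [hww, mul_one, inv_mul_cancel]
      · have ey : y = w := by rw [← inv_eq_of_mul_eq_one_right e, hwinv]
        exact hyK (ey ▸ d.conjInto_of_involution hwo)
    have hpos : 0 < d.inv2 y := Nat.card_pos_iff.2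
      ⟨⟨⟨(w, w * y), d.conj_t w hwo, d.conj_t _ hwyo, by rw [← mul_assoc, hww, one_mul]⟩⟩, inferInstance⟩
    obtain ⟨g, hgi⟩ := d.exists_inverted hpos
    have hfz : ¬ConjInto K (g * y * g⁻¹) := fun h => hyK ((conjInto_conj_iff g).1 h)
    obtain ⟨hc, -⟩ := hreal _ hfz hgi
    have hc' := hCR (g * y * g⁻¹) (ne_one_of_not_conjInto hfz) hfz (fun h => hyD ((conjInto_conj_iff g).1 h))
    rw [hc, hq] at hc'
    have : m ∣ 1 := (Nat.dvd_add_right (dvd_mul_left m 2)).1 hc'
    have := Nat.le_of_dvd one_pos this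
    omega
  -- counting
  set R := Finset.univ.filter (fun y : G => y ≠ 1 ∧ ¬ConjInto K y ∧ ¬ConjInto D y) with hR
  have hcardR : R.card = 4 * (m + 1) * m ∧ ∀ y ∈ R, y⁻¹ ∈ R := by
    constructor
    swap
    · intro y hy
      simp only [hR, Finset.mem_filter, Finset.mem_univ, true_and] at hy ⊢
      refine ⟨inv_ne_one.2 hy.1, fun ⟨g, h⟩ => hy.2.1 ⟨g, ?_⟩, fun ⟨g, h⟩ => hy.2.2 ⟨g, ?_⟩⟩ <;>
        simpa [mul_assoc] using inv_mem h
    have hK' := card_conjInto K (Subgroup.centralizer ({t} : Set G))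
      (fun g h hh hh1 hg' => Subgroup.mem_centralizer_singleton_iff.2 (d.ti g h hh hh1 hg'))
      (fun g hg' h hh => d.conj_mem hh (Subgroup.mem_centralizer_singleton_iff.1 hg'))
    have hD' := card_conjInto D ND
      (fun g h hh hh1 hg' => d.mem_normalizer_of_meet hfree hinv hh hh1 hg')
      (fun g hg' h hh => (Subgroup.mem_normalizer_iff.1 hg' h).1 hh)
    have hKidx : (Subgroup.centralizer ({t} : Set G)).index = q * m := by
      rw [← H28.card_isConj_eq_index, hNm]
    have hNDcard : Nat.card ND = m * 2 := by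
      rw [hND, hD, d.card_normalizer hfree hinv, ← hD, hDcard, hnp]
    have hNDidx : ND.index = (m + 1) * q := by
      have h := Subgroup.index_mul_card ND
      rw [hNDcard, hg] at h
      apply Nat.eq_of_mul_eq_mul_right (show 0 < m * 2 by omega)
      rw [h]; ring
    rw [hKidx, hm, Nat.add_sub_cancel, Nat.card_eq_fintype_card, Fintype.card_subtype] at hK'
    rw [hNDidx, hDcard, Nat.card_eq_fintype_card, Fintype.card_subtype] at hD'
    set FK := Finset.univ.filter (fun y : G => y ≠ 1 ∧ ConjInto K y) with hFK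
    set FD := Finset.univ.filter (fun y : G => y ≠ 1 ∧ ConjInto D y) with hFD
    have hdisj : Disjoint FK FD := by
      rw [Finset.disjoint_left]
      intro y h1 h2
      simp only [hFK, hFD, Finset.mem_filter, Finset.mem_univ, true_and] at h1 h2
      have a1 : orderOf y ∣ m + 1 := hm ▸ d.orderOf_dvd h1.2
      have a2 : orderOf y ∣ m := by
        obtain ⟨g, hg'⟩ := h2.2
        rw [← MulEquiv.orderOf_eq (MulAut.conj g) y, ← Subgroup.orderOf_mk (MulAut.conj g y) hg',
          ← hDcard]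
        exact orderOf_dvd_natCard _
      exact h1.1 (orderOf_eq_one_iff.1 (Nat.dvd_one.1 ((Nat.dvd_add_right a2).1 a1)))
    have hsplit : (Finset.univ.erase (1 : G)) = (FK ∪ FD) ∪ R := by
      ext y
      simp only [hFK, hFD, hR, Finset.mem_erase, Finset.mem_union, Finset.mem_filter,
        Finset.mem_univ, true_and, and_true]
      tauto
    have hd2 : Disjoint (FK ∪ FD) R := by
      rw [Finset.disjoint_left]
      intro y h1 h2
      simp only [hFK, hFD, hR, Finset.mem_union, Finset.mem_filter, Finset.mem_univ, true_and] at h1 h2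
      tauto
    have h := congrArg Finset.card hsplit
    rw [Finset.card_erase_of_mem (Finset.mem_univ _), Finset.card_univ, ← Nat.card_eq_fintype_card,
      Finset.card_union_of_disjoint hd2, Finset.card_union_of_disjoint hdisj, hK', hD', hg] at h
    have hpos : 0 < 2 * (m + 1) * (q * m) :=
      Nat.mul_pos (by omega) (Nat.mul_pos (by omega) (by omega))
    have h' : ((q * m * m + (m + 1) * q * (m - 1) + R.card + 1 : ℕ) : ℤ) =
        ((2 * (m + 1) * (q * m) : ℕ) : ℤ) := by
      rw [show q * m * m + (m + 1) * q * (m - 1) + R.card + 1 = 2 * (m + 1) * (q * m) by omega]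
    push_cast at h'
    rw [show ((m - 1 : ℕ) : ℤ) = (m : ℤ) - 1 by omega] at h'
    rw [hq] at h'
    push_cast at h'
    have : (R.card : ℤ) = ((4 * (m + 1) * m : ℕ) : ℤ) := by push_cast; linear_combination h'
    exact_mod_cast this
  obtain ⟨hRcard, hRinv⟩ := hcardR
  obtain ⟨y₀, hy₀⟩ : R.Nonempty := Finset.card_pos.1 (by
    rw [hRcard]; exact Nat.mul_pos (by omega) (by omega))
  have hRmem : ∀ {y}, y ∈ R ↔ y ≠ 1 ∧ ¬ConjInto K y ∧ ¬ConjInto D y := fun {y} => by
    simp [hR]
  have hqpos : 0 < q := by omega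
  have hclass : ∀ y ∈ R, Nat.card ↥(Subgroup.centralizer ({y} : Set G)) = q ∧
      ∀ z ∈ R, IsConj y z ∨ IsConj y⁻¹ z := by
    intro y hy
    obtain ⟨hy1, hyK, hyD⟩ := hRmem.1 hy
    have hconjR : ∀ {y z : G}, y ∈ R → IsConj y z → z ∈ R := by
      intro y z hy hc
      obtain ⟨g, rfl⟩ := isConj_iff.1 hc
      obtain ⟨a, b, c⟩ := hRmem.1 hy
      exact hRmem.2 ⟨fun e => a (conj_eq_one_iff.1 e), fun h => b ((conjInto_conj_iff g).1 h),
        fun h => c ((conjInto_conj_iff g).1 h)⟩
    set C1 := Finset.univ.filter (IsConj y)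
    set C2 := Finset.univ.filter (IsConj y⁻¹)
    have hsub : C1 ∪ C2 ⊆ R := by
      intro z hz
      simp only [C1, C2, Finset.mem_union, Finset.mem_filter, Finset.mem_univ, true_and] at hz
      exact hz.elim (hconjR hy) (hconjR (hRinv y hy))
    have hdisj : Disjoint C1 C2 := by
      rw [Finset.disjoint_left]
      intro z h1 h2
      simp only [C1, C2, Finset.mem_filter, Finset.mem_univ, true_and] at h1 h2
      exact hnonreal y hy1 hyK hyD (h1.trans h2.symm)
    have hC2 : C2.card = C1.card := by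
      refine Finset.card_equiv (Equiv.inv G) fun z => ?_
      simp only [C1, C2, Finset.mem_filter, Finset.mem_univ, true_and, Equiv.inv_apply]
      constructor <;> intro h <;> obtain ⟨g, hg'⟩ := isConj_iff.1 h <;> refine isConj_iff.2 ⟨g, ?_⟩
      · rw [← hg']; group
      · rw [← inv_inv z, ← hg']; group
    obtain ⟨c, hc⟩ : ∃ c, Nat.card ↥(Subgroup.centralizer ({y} : Set G)) = c := ⟨_, rfl⟩
    have hcd : c ∣ q := hc ▸ hCR y hy1 hyK hyD
    have hsize : C1.card * c = Nat.card G := by
      have h := H28.card_isConj_mul_card_centralizer y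
      rwa [hc, Nat.card_eq_fintype_card (α := {z : G // IsConj y z}), Fintype.card_subtype] at h
    have hle : C1.card + C1.card ≤ 4 * (m + 1) * m := by
      have h := Finset.card_le_card hsub
      rwa [Finset.card_union_of_disjoint hdisj, hC2, hRcard] at h
    have hcq : c = q := by
      have hcle := Nat.le_of_dvd hqpos hcd
      refine le_antisymm hcle ?_
      rw [hg] at hsize
      by_contra hlt
      have h1 : C1.card * c ≤ 2 * (m + 1) * m * c := Nat.mul_le_mul_right _ (by linarith)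
      have h2 : 2 * (m + 1) * m * c < 2 * (m + 1) * m * q :=
        Nat.mul_lt_mul_of_pos_left (by omega) (Nat.mul_pos (by omega) (by omega))
      nlinarith
    refine ⟨hc.trans hcq, fun z hz => ?_⟩
    have heq : C1 ∪ C2 = R := by
      refine Finset.eq_of_subset_of_card_le hsub ?_
      rw [Finset.card_union_of_disjoint hdisj, hC2, hRcard]
      have h3 : C1.card * q = 2 * (m + 1) * m * q := by rw [← hcq, hsize, hg, hcq]; ring
      have := Nat.eq_of_mul_eq_mul_right hqpos h3
      linarith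
    rw [← heq] at hz
    simpa [C1, C2] using hz
  -- one prime
  have hordq : ∀ y ∈ R, orderOf y ∣ q := fun y hy => by
    rw [← (hclass y hy).1,
      ← Subgroup.orderOf_mk y (Subgroup.mem_centralizer_singleton_iff.2 rfl : y ∈ Subgroup.centralizer {y})]
    exact orderOf_dvd_natCard _
  have hcopq : ∀ r : ℕ, r.Prime → r ∣ q → ¬ r ∣ m + 1 ∧ ¬ r ∣ m := by
    intro r hr hrq
    constructor <;> intro h
    · have h' : r ∣ 2 * (m + 1) - q := Nat.dvd_sub (h.mul_left 2) hrq
      rw [show 2 * (m + 1) - q = 1 by omega] at h'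
      exact hr.one_lt.ne' (Nat.dvd_one.1 h')
    · exact hr.one_lt.ne' (Nat.dvd_one.1 ((Nat.dvd_add_right (h.mul_left 2)).1 (hq ▸ hrq)))
  have hpelem : ∀ (z : G) (r : ℕ), r.Prime → r ∣ q → r ∣ orderOf z → z ∈ R := by
    intro z r hr hrq hz
    refine hRmem.2 ⟨fun e => ?_, fun h => (hcopq r hr hrq).1 (hm ▸ hz.trans (d.orderOf_dvd h)),
      fun ⟨g, h⟩ => (hcopq r hr hrq).2 ?_⟩
    · rw [e, orderOf_one] at hz
      exact hr.one_lt.ne' (Nat.dvd_one.1 hz)
    · refine hDcard ▸ hz.trans ?_
      rw [← MulEquiv.orderOf_eq (MulAut.conj g) z, ← Subgroup.orderOf_mk (MulAut.conj g z) h]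
      exact orderOf_dvd_natCard _
  have hsameord : ∀ y ∈ R, ∀ z ∈ R, orderOf y = orderOf z := by
    intro y hy z hz
    rcases (hclass y hy).2 z hz with h | h <;> obtain ⟨g, rfl⟩ := isConj_iff.1 h
    · exact (MulEquiv.orderOf_eq (MulAut.conj g) y).symm
    · exact ((MulEquiv.orderOf_eq (MulAut.conj g) y⁻¹).trans (orderOf_inv y)).symm
  obtain ⟨p, hp, hpq⟩ := Nat.exists_prime_and_dvd (n := q) (by omega)
  haveI : Fact p.Prime := ⟨hp⟩
  have hqg : q ∣ Nat.card G := hg ▸ ⟨2 * (m + 1) * m, by ring⟩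
  obtain ⟨z₀, hz₀⟩ := exists_prime_orderOf_dvd_card' (G := G) p (hpq.trans hqg)
  have hz₀R : z₀ ∈ R := hpelem z₀ p hp hpq (by rw [hz₀])
  have hordp : ∀ y ∈ R, orderOf y = p := fun y hy => (hsameord y hy z₀ hz₀R).trans hz₀
  obtain ⟨k, hqk⟩ : ∃ k, q = p ^ k := by
    refine ⟨_, Nat.eq_prime_pow_of_unique_prime_dvd hqpos.ne' fun {r} hr hrq => ?_⟩
    haveI : Fact r.Prime := ⟨hr⟩
    obtain ⟨z, hz⟩ := exists_prime_orderOf_dvd_card' (G := G) r (hrq.trans hqg)
    rw [← hz]
    exact hordp z (hpelem z r hr hrq (by rw [hz]))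
  -- nontrivial `p`-subgroups
  have hpR : ∀ (W : Subgroup G), IsPGroup p W → ∀ w ∈ W, w ≠ 1 → w ∈ R := by
    intro W hW w hw hw1
    obtain ⟨j, hj⟩ := (IsPGroup.iff_orderOf.1 hW) ⟨w, hw⟩
    rw [Subgroup.orderOf_mk] at hj
    refine hpelem w p hp hpq (hj ▸ dvd_pow_self p fun e => hw1 ?_)
    rw [e, pow_zero] at hj
    exact orderOf_eq_one_iff.1 hj
  have hoddN : ∀ W : Subgroup G, IsPGroup p W → W ≠ ⊥ →
      Odd (Nat.card ↥(Subgroup.normalizer (W : Set G))) := by
    intro W hW hne
    rw [← Nat.not_even_iff_odd, even_iff_two_dvd]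
    intro h2
    obtain ⟨⟨i, hiN⟩, hi⟩ := exists_prime_orderOf_dvd_card' 2 h2
    rw [Subgroup.orderOf_mk] at hi
    let φ : W →* W :=
      { toFun := fun a => ⟨i * (a : G) * i⁻¹, (Subgroup.mem_normalizer_iff.1 hiN a).1 a.2⟩
        map_one' := Subtype.ext (by simp)
        map_mul' := fun a b => Subtype.ext (by simp [mul_assoc]) }
    have hii : i * i = 1 := by
      have := pow_orderOf_eq_one i
      rwa [hi, sq] at this
    have hfp : MonoidHom.FixedPointFree φ := by
      intro a ha
      by_contra ha1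
      have h1 : i * (a : G) * i⁻¹ = a := congrArg Subtype.val ha
      rw [mul_inv_eq_iff_eq_mul] at h1
      exact (hRmem.1 (hpR W hW a a.2 fun e => ha1 (Subtype.ext e))).2.1 (d.conjInto_of_comm hi h1.symm)
    have hinvW := hfp.coe_eq_inv_of_involutive (fun a => Subtype.ext (by
      simp [φ, inv_eq_of_mul_eq_one_right hii, mul_assoc, hii, ← mul_assoc i i]))
    obtain ⟨w, hw, hw1⟩ := W.bot_or_exists_ne_one.resolve_left hne
    obtain ⟨a, b, c⟩ := hRmem.1 (hpR W hW w hw hw1)
    exact hnonreal w a b c (isConj_iff.2 ⟨i, congrArg Subtype.val (congrFun hinvW ⟨w, hw⟩)⟩)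
  have hcentral : ∀ M : Subgroup G, Odd (Nat.card M) → ∀ r : ℕ, r.Prime → r ≠ p → ∀ R' : Sylow r M,
      Subgroup.normalizer ((R' : Subgroup M) : Set M) ≤ Subgroup.centralizer ((R' : Subgroup M) : Set M) := by
    intro M hM r hr hrp R'
    haveI : Fact r.Prime := ⟨hr⟩
    by_cases hbot : (R' : Subgroup M) = ⊥
    · intro h _
      rw [Subgroup.mem_centralizer_iff]
      intro a ha
      rw [hbot, SetLike.mem_coe, Subgroup.mem_bot] at ha
      simp [ha]
    haveI : Nontrivial (R' : Subgroup M) := (Subgroup.nontrivial_iff_ne_bot _).2 hbot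
    haveI := IsPGroup.center_nontrivial R'.2
    obtain ⟨z, hz⟩ : ∃ z : Subgroup.center (R' : Subgroup M), orderOf z = r := by
      obtain ⟨j, hj0, hj⟩ := (IsPGroup.nontrivial_iff_card
        (R'.2.to_subgroup (Subgroup.center (R' : Subgroup M)))).1 inferInstance
      exact exists_prime_orderOf_dvd_card' r (hj ▸ dvd_pow_self r hj0.ne')
    set z' : G := (((z : (R' : Subgroup M)) : M) : G) with hz'
    have hzo : orderOf z' = r := by
      rw [hz', Subgroup.orderOf_coe, Subgroup.orderOf_coe, Subgroup.orderOf_coe, hz]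
    have hrM : r ∣ Nat.card M := by
      rw [← hzo, hz', Subgroup.orderOf_coe]
      exact orderOf_dvd_natCard _
    have hr2 : r ≠ 2 := fun e => Nat.not_even_iff_odd.2 hM (even_iff_two_dvd.2 (e ▸ hrM))
    have hrd : r ∣ (m + 1) * m := by
      have h := hrM.trans (Subgroup.card_subgroup_dvd_card M)
      rw [hg] at h
      rcases (Nat.Prime.dvd_mul hr).1 h with h | h
      · rcases (Nat.Prime.dvd_mul hr).1 h with h | h
        · exact absurd ((Nat.prime_dvd_prime_iff_eq hr Nat.prime_two).1 h) hr2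
        · exact h.mul_right _
      · rcases (Nat.Prime.dvd_mul hr).1 h with h | h
        · exact absurd ((Nat.prime_dvd_prime_iff_eq hr hp).1 (hr.dvd_of_dvd_pow (hqk ▸ h))) hrp
        · exact h.mul_left _
    obtain ⟨g, A, hA, hgz, hall⟩ := habs z' r hr hr2 hrd hzo
    have hRA : ∀ a : M, a ∈ (R' : Subgroup M) → g * (a : G) * g⁻¹ ∈ A := fun a ha =>
      hall _ (congrArg Subtype.val (congrArg Subtype.val (Subgroup.mem_center_iff.1 z.2 ⟨a, ha⟩)))
    have hz1 : g * z' * g⁻¹ ≠ 1 := fun e => by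
      rw [conj_eq_one_iff] at e
      rw [e, orderOf_one] at hzo
      exact hr.one_lt.ne hzo
    intro h hh
    have hodd : Odd (orderOf (g * (h : G) * g⁻¹)) := by
      rw [← MulAut.conj_apply, MulEquiv.orderOf_eq, Subgroup.orderOf_coe]
      exact Odd.of_dvd_nat hM (orderOf_dvd_natCard _)
    have hmv : (g * (h : G) * g⁻¹) * (g * z' * g⁻¹) * (g * (h : G) * g⁻¹)⁻¹ ∈ A := by
      have h1 := hRA _ ((Subgroup.mem_normalizer_iff.1 hh ((z : (R' : Subgroup M)) : M)).1
        (z : (R' : Subgroup M)).2)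
      have e : g * (h : G) * g⁻¹ * (g * z' * g⁻¹) * (g * (h : G) * g⁻¹)⁻¹ =
          g * ((h * ((z : (R' : Subgroup M)) : M) * h⁻¹ : M) : G) * g⁻¹ := by
        simp only [hz']
        push_cast
        group
      rw [e]; exact h1
    have hhA : g * (h : G) * g⁻¹ ∈ A ∧ ∀ a ∈ A, ∀ b ∈ A, a * b = b * a := by
      rcases hA with e | e <;> rw [e] at hgz hmv ⊢
      · refine ⟨?_, d.comm⟩
        have ht' := d.ti _ _ hgz hz1 hmv
        by_contra hne
        exact hne (by rw [eq_one_of_sq_of_odd _ (d.outside ht' hne).1 hodd]; exact one_mem _)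
      · exact ⟨hNDodd _ (d.mem_normalizer_of_meet hfree hinv hgz hz1 hmv) hodd,
          fun a ha b hb => d.comm_centralizer hfree hinv ha hb⟩
    rw [Subgroup.mem_centralizer_iff]
    intro a ha
    apply Subtype.ext
    show (a : G) * h = h * a
    have := hhA.2 _ (hRA a ha) _ hhA.1
    calc (a : G) * h = g⁻¹ * ((g * a * g⁻¹) * (g * h * g⁻¹)) * g := by group
      _ = g⁻¹ * ((g * h * g⁻¹) * (g * a * g⁻¹)) * g := by rw [this]
      _ = _ := by group
  -- `p`-closed normalizers
  have hclosed : ∀ W : Subgroup G, IsPGroup p W → W ≠ ⊥ → ∃ T : Subgroup G, IsPGroup p T ∧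
      ∀ a ∈ Subgroup.normalizer (W : Set G), (∃ j, orderOf a = p ^ j) → a ∈ T := by
    intro W hW hne
    obtain ⟨M0, -, hM0, hmem, -⟩ := exists_normal_pgroup_of_central_sylow
      (G := Subgroup.normalizer (W : Set G)) p (hcentral _ (hoddN W hW hne))
    refine ⟨M0.map (Subgroup.normalizer (W : Set G)).subtype, hM0.map _, fun a ha ⟨j, hj⟩ => ?_⟩
    exact ⟨⟨a, ha⟩, hmem ⟨a, ha⟩ j (by rw [Subgroup.orderOf_mk, hj]), rfl⟩
  have hlt : ∀ (P : Sylow p G) (W : Subgroup G), W < (P : Subgroup G) →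
      ∃ a ∈ (P : Subgroup G), a ∈ Subgroup.normalizer (W : Set G) ∧ a ∉ W := by
    intro P W hlt
    haveI : Group.IsNilpotent (P : Subgroup G) := P.2.isNilpotent
    have h := Group.normalizerCondition_of_isNilpotent (G := (P : Subgroup G))
      (W.subgroupOf (P : Subgroup G)) (lt_top_iff_ne_top.2 fun e => hlt.not_ge
        (Subgroup.subgroupOf_eq_top.1 e))
    obtain ⟨a, ha, haW⟩ := SetLike.exists_of_lt h
    refine ⟨a, a.2, ?_, fun e => haW (Subgroup.mem_subgroupOf.2 e)⟩
    rw [Subgroup.mem_normalizer_iff]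
    intro b
    by_cases hb : b ∈ (P : Subgroup G)
    · have := Subgroup.mem_normalizer_iff.1 ha ⟨b, hb⟩
      simpa [Subgroup.mem_subgroupOf] using this
    · refine ⟨fun h' => absurd (hlt.le h') hb, fun h' => absurd ?_ hb⟩
      have := mul_mem (mul_mem (inv_mem a.2) (hlt.le h')) a.2
      simpa [mul_assoc] using this
  have hTI : ∀ P P' : Sylow p G, P ≠ P' → (P : Subgroup G) ⊓ (P' : Subgroup G) = ⊥ := by
    by_contra hcon
    push_neg at hcon
    obtain ⟨P₁, P₁', hne₁, hne₁'⟩ := hcon
    haveI : Finite (Sylow p G × Sylow p G) := inferInstance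
    haveI : Nonempty {PP : Sylow p G × Sylow p G // PP.1 ≠ PP.2} := ⟨⟨(P₁, P₁'), hne₁⟩⟩
    obtain ⟨⟨⟨P, P'⟩, hPP⟩, hmax⟩ := Finite.exists_max
      (fun PP : {PP : Sylow p G × Sylow p G // PP.1 ≠ PP.2} =>
        Nat.card ↥((PP.1.1 : Subgroup G) ⊓ (PP.1.2 : Subgroup G)))
    set W : Subgroup G := (P : Subgroup G) ⊓ (P' : Subgroup G) with hW
    have hWne : W ≠ ⊥ := by
      intro e
      have h := hmax ⟨(P₁, P₁'), hne₁⟩
      rw [show Nat.card W = 1 by rw [e]; exact Subgroup.card_bot] at h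
      exact hne₁' ((Subgroup.eq_bot_iff_card _).2 (le_antisymm h Nat.card_pos))
    have hWp : IsPGroup p W := P.2.to_le inf_le_left
    obtain ⟨T, hT, hmem⟩ := hclosed W hWp hWne
    obtain ⟨P'', hP''⟩ := hT.exists_le_sylow
    have key : ∀ S : Sylow p G, W ≤ (S : Subgroup G) → W ≠ (S : Subgroup G) → S = P'' := by
      intro S hle hne
      by_contra hS
      obtain ⟨a, haS, haN, haW⟩ := hlt S W (lt_of_le_of_ne hle hne)
      have hmemP : ∀ b ∈ (S : Subgroup G), b ∈ Subgroup.normalizer (W : Set G) →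
          b ∈ (P'' : Subgroup G) := fun b hb hbN => hP'' (hmem b hbN (by
        obtain ⟨j, hj⟩ := IsPGroup.iff_orderOf.1 S.2 ⟨b, hb⟩
        exact ⟨j, by rwa [Subgroup.orderOf_mk] at hj⟩))
      have hlt' : W < (S : Subgroup G) ⊓ (P'' : Subgroup G) := by
        refine lt_of_le_of_ne (le_inf hle fun b hb => hmemP b (hle hb) (Subgroup.le_normalizer hb))
          fun e => haW ?_
        rw [e]; exact ⟨haS, hmemP a haS haN⟩
      exact absurd (hmax ⟨(S, P''), hS⟩) (not_le.2
        (Set.Finite.card_lt_card (Set.toFinite _) (SetLike.coe_ssubset_coe.2 hlt')))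
    have hneP : W ≠ (P : Subgroup G) := fun e => hPP (Sylow.ext (P.3 P'.2 (e ▸ inf_le_right)).symm)
    have hneP' : W ≠ (P' : Subgroup G) := fun e => hPP (Sylow.ext (P'.3 P.2 (e ▸ inf_le_left)))
    exact hPP ((key P inf_le_left hneP).trans (key P' inf_le_right hneP').symm)
  have hfact : Nat.factorization (Nat.card G) p = k := by
    have h1 : ¬ p ∣ 2 * (m + 1) * m := by
      intro h
      rcases (Nat.Prime.dvd_mul hp).1 h with h | h
      · rcases (Nat.Prime.dvd_mul hp).1 h with h | h
        · have := (Nat.prime_dvd_prime_iff_eq hp Nat.prime_two).1 h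
          rw [this] at hpq
          omega
        · exact (hcopq p hp hpq).1 h
      · exact (hcopq p hp hpq).2 h
    rw [show Nat.card G = 2 * (m + 1) * m * p ^ k by rw [hg, ← hqk]; ring,
      Nat.factorization_mul (fun e => h1 (by rw [e]; exact dvd_zero p)) (pow_ne_zero _ hp.ne_zero)]
    simp [Nat.factorization_eq_zero_of_not_dvd h1, hp.factorization_pow]
  have hPcard : ∀ P : Sylow p G, Nat.card (P : Subgroup G) = q := fun P => by
    rw [P.card_eq_multiplicity, hfact, hqk]
  have hCP : ∀ P : Sylow p G, ∀ w ∈ (P : Subgroup G), w ≠ 1 →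
      Subgroup.centralizer ({w} : Set G) = (P : Subgroup G) := by
    intro P w hw hw1
    have hcw := (hclass w (hpR _ P.2 w hw hw1)).1
    let S : Sylow p G := Sylow.ofCard (Subgroup.centralizer ({w} : Set G)) (by rw [hcw, hfact, hqk])
    have hwS : w ∈ (S : Subgroup G) := Subgroup.mem_centralizer_singleton_iff.2 rfl
    by_contra hne
    have hne' : S ≠ P := fun e => hne (congrArg (fun T : Sylow p G => (T : Subgroup G)) e)
    exact hw1 (Subgroup.mem_bot.1 (hTI S P hne' ▸ ⟨hwS, hw⟩))
  have hfus : ∀ (P : Sylow p G) (g : G), ∀ w ∈ (P : Subgroup G), w ≠ 1 → g * w * g⁻¹ ∈ (P : Subgroup G) →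
      g ∈ Subgroup.normalizer ((P : Subgroup G) : Set G) := by
    intro P g w hw hw1 hgw
    have e1 := hCP P w hw hw1
    have e2 := hCP P _ hgw (fun e => hw1 (conj_eq_one_iff.1 e))
    rw [Subgroup.mem_normalizer_iff]
    intro a
    conv_lhs => rw [← e1]
    conv_rhs => rw [← e2]
    rw [Subgroup.mem_centralizer_singleton_iff, Subgroup.mem_centralizer_singleton_iff]
    constructor <;> intro h
    · calc g * a * g⁻¹ * (g * w * g⁻¹) = g * (a * w) * g⁻¹ := by group
        _ = g * (w * a) * g⁻¹ := by rw [h]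
        _ = _ := by group
    · calc a * w = g⁻¹ * (g * a * g⁻¹ * (g * w * g⁻¹)) * g := by group
        _ = g⁻¹ * (g * w * g⁻¹ * (g * a * g⁻¹)) * g := by rw [h]
        _ = _ := by group
  have hNP : ∀ P : Sylow p G,
      Nat.card ↥(Subgroup.normalizer ((P : Subgroup G) : Set G)) = m * q := by
    intro P
    have hne : (P : Subgroup G) ≠ ⊥ := fun e => by
      have := hPcard P
      rw [e, Subgroup.card_bot] at this
      omega
    obtain ⟨y, hy, hy1⟩ := (P : Subgroup G).bot_or_exists_ne_one.resolve_left hne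
    rw [← card_mul_card_eq_of_fusion (P : Subgroup G) y hy (hCP P y hy hy1) (fun g => hfus P g y hy hy1),
      hPcard P]
    congr 1
    set C1 := Finset.univ.filter (fun z : G => z ∈ (P : Subgroup G) ∧ IsConj y z) with hC1
    set C2 := Finset.univ.filter (fun z : G => z ∈ (P : Subgroup G) ∧ IsConj y⁻¹ z) with hC2
    rw [Nat.card_eq_fintype_card, Fintype.card_subtype, ← hC1]
    have hyR := hpR _ P.2 y hy hy1
    obtain ⟨-, hyK, hyD⟩ := hRmem.1 hyR
    have hC2c : C2.card = C1.card := by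
      refine Finset.card_equiv (Equiv.inv G) fun z => ?_
      simp only [hC1, hC2, Finset.mem_filter, Finset.mem_univ, true_and, Equiv.inv_apply, inv_mem_iff]
      refine and_congr_right fun _ => ?_
      constructor <;> intro h <;> obtain ⟨g, hg'⟩ := isConj_iff.1 h <;> refine isConj_iff.2 ⟨g, ?_⟩
      · rw [← hg']; group
      · rw [← inv_inv z, ← hg']; group
    have hdisj : Disjoint C1 C2 := by
      rw [Finset.disjoint_left]
      intro z h1 h2
      simp only [hC1, hC2, Finset.mem_filter, Finset.mem_univ, true_and] at h1 h2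
      exact hnonreal y hy1 hyK hyD (h1.2.trans h2.2.symm)
    have hun : C1 ∪ C2 = (Finset.univ.filter (fun z : G => z ∈ (P : Subgroup G))).erase 1 := by
      ext z
      simp only [hC1, hC2, Finset.mem_union, Finset.mem_filter, Finset.mem_univ, true_and,
        Finset.mem_erase]
      constructor
      · rintro (⟨h, hc⟩ | ⟨h, hc⟩) <;> refine ⟨?_, h⟩ <;> rintro rfl
        · exact hy1 (isConj_one_right.1 hc.symm)
        · exact hy1 (inv_eq_one.1 (isConj_one_right.1 hc.symm))
      · rintro ⟨hz1, hz⟩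
        exact ((hclass y hyR).2 z (hpR _ P.2 z hz hz1)).imp (⟨hz, ·⟩) (⟨hz, ·⟩)
    have h := congrArg Finset.card hun
    have hPf : (Finset.univ.filter (fun z : G => z ∈ (P : Subgroup G))).card = q := by
      rw [← Fintype.card_subtype, ← Nat.card_eq_fintype_card]; exact hPcard P
    rw [Finset.card_union_of_disjoint hdisj, hC2c, Finset.card_erase_of_mem (by simp), hPf] at h
    omega
  -- a complement and its conjugate `D`
  obtain ⟨P₀⟩ : Nonempty (Sylow p G) := inferInstance
  set M := Subgroup.normalizer ((P₀ : Subgroup G) : Set G) with hM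
  haveI : ((P₀ : Subgroup G).subgroupOf M).Normal := Subgroup.normal_in_normalizer
  have hcardPM : Nat.card ((P₀ : Subgroup G).subgroupOf M) = q := by
    rw [Nat.card_congr (Subgroup.subgroupOfEquivOfLe Subgroup.le_normalizer).toEquiv, hPcard P₀]
  have hidxPM : ((P₀ : Subgroup G).subgroupOf M).index = m := by
    have h := Subgroup.index_mul_card ((P₀ : Subgroup G).subgroupOf M)
    rw [hcardPM, hNP P₀] at h
    exact Nat.eq_of_mul_eq_mul_right hqpos h
  have hcopm : Nat.Coprime q m := by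
    refine Nat.coprime_of_dvd fun r hr h1 h2 => (hcopq r hr h1).2 h2
  obtain ⟨E₀, hE₀⟩ := Subgroup.exists_right_complement'_of_coprime
    (N := (P₀ : Subgroup G).subgroupOf M) (by rwa [hcardPM, hidxPM])
  set E := E₀.map M.subtype with hE
  have hEcard : Nat.card E = m := by
    rw [hE, Subgroup.card_map_of_injective M.subtype_injective, ← hidxPM,
      hE₀.symm.index_eq_card]
  have hEle : E ≤ M := Subgroup.map_subtype_le _
  have hPne : (P₀ : Subgroup G) ≠ ⊥ := fun e => by
    have := hPcard P₀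
    rw [e, Subgroup.card_bot] at this
    omega
  have hEodd : Odd (Nat.card E) := Odd.of_dvd_nat (hoddN _ P₀.2 hPne) (Subgroup.card_dvd_of_le hEle)
  obtain ⟨M0, -, hM0, -, hcomm0⟩ :=
    exists_normal_pgroup_of_central_sylow (G := E) p (hcentral E hEodd)
  have hM0bot : M0 = ⊥ := by
    rcases hM0.card_eq_or_dvd with h | h
    · exact (Subgroup.eq_bot_iff_card M0).2 h
    · exact absurd (hEcard ▸ h.trans (Subgroup.card_subgroup_dvd_card M0)) (hcopq p hp hpq).2
  have hEab : ∀ a ∈ E, ∀ b ∈ E, a * b = b * a := by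
    intro a ha b hb
    have h := hcomm0 ⟨a, ha⟩ ⟨b, hb⟩
    rw [hM0bot, Subgroup.mem_bot] at h
    have h' : a * b * a⁻¹ * b⁻¹ = 1 := congrArg Subtype.val h
    rw [mul_inv_eq_one, mul_inv_eq_iff_eq_mul] at h'
    exact h'
  obtain ⟨r, hr, hrm⟩ := Nat.exists_prime_and_dvd (n := m) (by omega)
  haveI : Fact r.Prime := ⟨hr⟩
  obtain ⟨⟨e, heE⟩, he⟩ := exists_prime_orderOf_dvd_card' (G := E) r (hEcard ▸ hrm)
  rw [Subgroup.orderOf_mk] at he
  have hr2 : r ≠ 2 := fun h => Nat.not_even_iff_odd.2 hmodd (even_iff_two_dvd.2 (h ▸ hrm))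
  have he1 : e ≠ 1 := fun h => by rw [h, orderOf_one] at he; exact hr.one_lt.ne he
  obtain ⟨g, hge⟩ := exists_conj_mem_of_not_dvd_index D hr he
    (by rw [hDindex]; exact hprime r hr hr2 hrm)
  have hEg : E.map (MulAut.conj g).toMonoidHom = D := by
    refine Subgroup.eq_of_le_of_card_ge ?_ ?_
    · rintro _ ⟨a, ha, rfl⟩
      rw [← hDC _ hge fun h => he1 (conj_eq_one_iff.1 h)]
      refine Subgroup.mem_centralizer_singleton_iff.2 ?_
      show g * a * g⁻¹ * (g * e * g⁻¹) = g * e * g⁻¹ * (g * a * g⁻¹)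
      calc g * a * g⁻¹ * (g * e * g⁻¹) = g * (a * e) * g⁻¹ := by group
        _ = g * (e * a) * g⁻¹ := by rw [hEab a ha e heE]
        _ = _ := by group
    · rw [hDcard, Subgroup.card_map_of_injective (f := (MulAut.conj g).toMonoidHom)
        (MulAut.conj g).injective, hEcard]
  let Q : Sylow p G := Sylow.ofCard ((P₀ : Subgroup G).map (MulAut.conj g).toMonoidHom) (by
    rw [Subgroup.card_map_of_injective (f := (MulAut.conj g).toMonoidHom) (MulAut.conj g).injective,
      hPcard P₀, hfact, hqk])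
  have hDQ : D ≤ Subgroup.normalizer ((Q : Subgroup G) : Set G) := by
    rw [← hEg]
    refine (Subgroup.map_mono hEle).trans (le_of_eq ?_)
    exact Subgroup.map_equiv_normalizer_eq _ (MulAut.conj g)
  have hQD : Disjoint (Q : Subgroup G) D := by
    refine disjoint_iff.2 (Subgroup.inf_eq_bot_of_coprime ?_)
    rw [hPcard Q, hDcard]
    exact hcopm
  refine ⟨(Q : Subgroup G), D, ?_, hCP Q, hDab, by rw [hDcard, hPcard Q, hq], disjoint_iff.1 hQD, ?_, ?_⟩
  · rw [hPcard Q, hg, hq, show 2 * m + 1 - 1 = 2 * m by omega]; ring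
  · refine (Subgroup.eq_of_le_of_card_ge (sup_le Subgroup.le_normalizer hDQ) ?_).symm
    rw [hNP Q]
    have hle := Nat.card_le_card_of_injective
      (fun z : ↥(Q : Subgroup G) × ↥D => (⟨(z.1 : G) * z.2, mul_mem (Subgroup.mem_sup_left z.1.2)
        (Subgroup.mem_sup_right z.2.2)⟩ : ↥((Q : Subgroup G) ⊔ D)))
      (fun a b h => Subgroup.mul_injective_of_disjoint hQD (congrArg Subtype.val h))
    rw [Nat.card_prod, hPcard Q, hDcard, mul_comm] at hle
    exact hle
  · intro X hX hne
    refine ⟨?_, t, d.t_order, htD, fun a ha => d.t_inverts_centralizer hfree hinv ha, ?_⟩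
    · apply le_antisymm
      · intro h hh
        obtain ⟨a, ha, ha1⟩ := X.bot_or_exists_ne_one.resolve_left hne
        exact d.mem_normalizer_of_meet hfree hinv (hX ha) ha1 (hX ((Subgroup.mem_normalizer_iff.1 hh a).1 ha))
      · rw [← hND, hNDeq]
        refine sup_le ?_ (Subgroup.zpowers_le.2 ?_)
        · intro c hc
          rw [Subgroup.mem_normalizer_iff]
          intro a
          constructor <;> intro ha
          · rwa [d.comm_centralizer hfree hinv hc (hX ha), mul_inv_cancel_right]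
          · have h1 := d.comm_centralizer hfree hinv hc (hX ha)
            have h2 : c * a * c⁻¹ = a := by
              have h3 : c * (c * a * c⁻¹) = c * a := h1.trans (by group)
              exact mul_left_cancel h3
            rwa [h2] at ha
        · have key : ∀ a ∈ X, t * a * t⁻¹ ∈ X := fun a ha => by
            rw [d.t_inverts_centralizer hfree hinv (hX ha)]; exact inv_mem ha
          rw [Subgroup.mem_normalizer_iff]
          refine fun a => ⟨key a, fun ha => ?_⟩
          have := key _ ha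
          rw [show t * (t * a * t⁻¹) * t⁻¹ = (t * t) * a * (t * t)⁻¹ by group, d.t_sq] at this
          simpa using this
    · exact hNDeq

end Cfsg.Agent.H77
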