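import Cfsg.Agent.H77.BSW.Plus
import Cfsg.Agent.H50.InvolutionCAField
import Cfsg.Agent.S0252

/-!
# The Brauer–Suzuki–Wall theorem for an abelian half of order two
-/

set_option autoImplicit false

namespace Cfsg.Agent.H77

open Subgroup

universe u

variable {G : Type u} [Group G] [Finite G] {t s : G} {K : Subgroup G} (d : BSW t K s)
include d

/-- The case `|K| = 2`. -/
theorem BSW.concl_small (hK2 : Nat.card K = 2) : BSWConcl G := by
  classical
  have : Fintype G := Fintype.ofFinite G
  obtain ⟨N, hN⟩ : ∃ N, Nat.card {x : G // IsConj t x} = N := ⟨_, rfl⟩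
  have hNodd : Odd N := hN ▸ d.odd_class
  have hg : Nat.card G = 4 * N := by rw [d.card_eq, hK2, hN]
  have hKeq : Subgroup.zpowers t = K :=
    Subgroup.eq_of_le_of_card_ge (Subgroup.zpowers_le.2 d.t_mem)
      (by rw [hK2, Nat.card_zpowers, d.t_order])
  have hsqK : ∀ a ∈ K, a * a = 1 := by
    intro a ha
    rw [← hKeq, Subgroup.mem_zpowers_iff] at ha
    obtain ⟨i, rfl⟩ := ha
    rw [← (Commute.refl t).mul_zpow, d.t_sq, one_zpow]
  have hsq : ∀ c : G, c * t = t * c → c * c = 1 := by
    intro c hc
    by_cases hcK : c ∈ K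
    · exact hsqK c hcK
    · exact (d.outside hc hcK).1
  have hcent : ∀ i : G, orderOf i = 2 → ∀ c : G, c * i = i * c → c * c = 1 := by
    intro i hi c hc
    obtain ⟨g, rfl⟩ := isConj_iff.1 (d.conj_t i hi)
    have h := hsq (g⁻¹ * c * g) (by
      calc (g⁻¹ * c * g) * t = g⁻¹ * (c * (g * t * g⁻¹)) * g := by group
        _ = g⁻¹ * ((g * t * g⁻¹) * c) * g := by rw [hc]
        _ = _ := by group)
    calc c * c = g * ((g⁻¹ * c * g) * (g⁻¹ * c * g)) * g⁻¹ := by group
      _ = 1 := by rw [h, mul_one, mul_inv_cancel]
  have hcomm : ∀ i : G, orderOf i = 2 → ∀ a b : G, a * i = i * a → b * i = i * b → a * b = b * a := by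
    intro i hi a b ha hb
    have h1 := hcent i hi (a * b) (Commute.mul_left ha hb).eq
    have e1 := inv_eq_of_mul_eq_one_right h1
    rw [_root_.mul_inv_rev, inv_eq_of_mul_eq_one_right (hcent i hi a ha),
      inv_eq_of_mul_eq_one_right (hcent i hi b hb)] at e1
    exact e1.symm
  have hcardC : ∀ i : G, orderOf i = 2 → Nat.card ↥(Subgroup.centralizer ({i} : Set G)) = 4 := by
    intro i hi
    rw [← H26.card_centralizer_eq_of_isConj (d.conj_t i hi), d.card_centralizer, hK2]
  have hfact : Nat.factorization (Nat.card G) 2 = 2 := by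
    have h1 : ¬ 2 ∣ N := fun h => Nat.not_even_iff_odd.2 hNodd (even_iff_two_dvd.2 h)
    rw [hg, Nat.factorization_mul (by norm_num) (fun e => h1 (by rw [e]; exact dvd_zero 2)),
      show (4 : ℕ) = 2 ^ 2 by norm_num, Nat.prime_two.factorization_pow]
    simp [Nat.factorization_eq_zero_of_not_dvd h1]
  haveI : Fact (Nat.Prime 2) := ⟨Nat.prime_two⟩
  let T : Sylow 2 G := Sylow.ofCard (Subgroup.centralizer ({t} : Set G))
    (by rw [hcardC t d.t_order, hfact]; norm_num)
  by_cases hnorm : (T : Subgroup G).Normal
  · -- `G ≅ A₄`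
    have hInT : ∀ i : G, orderOf i = 2 → i ∈ (T : Subgroup G) := by
      intro i hi
      obtain ⟨g, rfl⟩ := isConj_iff.1 (d.conj_t i hi)
      exact hnorm.conj_mem t (Subgroup.mem_centralizer_singleton_iff.2 rfl) g
    have hst : s ≠ t := fun e => d.s_notMem (e ▸ d.t_mem)
    have hN3 : N = 3 := by
      have hle : N ≤ 3 := by
        rw [← hN]
        have h := Nat.card_le_card_of_injective
          (fun x : {x : G // IsConj t x} => (⟨⟨x.1, hInT x.1 (d.isConj_t_iff.1 x.2)⟩, fun e => by
            have h' := d.isConj_t_iff.1 x.2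
            rw [show x.1 = 1 from congrArg Subtype.val e, orderOf_one] at h'
            omega⟩ : {a : (T : Subgroup G) // a ≠ 1}))
          (fun a b e => Subtype.ext (congrArg
            (fun z : {a : (T : Subgroup G) // a ≠ 1} => (z.1 : G)) e))
        have hT4 : Nat.card (T : Subgroup G) = 4 := hcardC t d.t_order
        have : Fintype (T : Subgroup G) := Fintype.ofFinite _
        rwa [show Nat.card {a : (T : Subgroup G) // a ≠ 1} = 3 by
          rw [Nat.card_eq_fintype_card, Fintype.card_subtype_compl, Fintype.card_subtype_eq,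
            ← Nat.card_eq_fintype_card, hT4]] at h
      have hge : 2 ≤ N := by
        rw [← hN]
        have : Finite {x : G // IsConj t x} := inferInstance
        haveI : Nontrivial {x : G // IsConj t x} :=
          ⟨⟨s, d.conj_t s d.s_order⟩, ⟨t, IsConj.refl t⟩, fun e => hst (congrArg Subtype.val e)⟩
        exact Finite.one_lt_card
      rcases hNodd with ⟨j, hj⟩
      omega
    rw [hN3] at hg
    haveI : Fact (Nat.Prime 3) := ⟨Nat.prime_three⟩
    obtain ⟨x, hx⟩ := exists_prime_orderOf_dvd_card' (G := G) 3 (by rw [hg]; norm_num)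
    have hfree : ∀ y : G, orderOf y = 3 → ¬ConjInto K y := fun y hy h => by
      have := d.orderOf_dvd h
      rw [hy, hK2] at this
      norm_num at this
    have hC : ∀ y : G, orderOf y = 3 → Subgroup.centralizer ({y} : Set G) = Subgroup.zpowers y := by
      intro y hy
      refine (Subgroup.eq_of_le_of_card_ge (Subgroup.zpowers_le.2
        (Subgroup.mem_centralizer_singleton_iff.2 rfl)) ?_).symm
      have hdvd := Subgroup.card_subgroup_dvd_card (Subgroup.centralizer ({y} : Set G))
      have hodd := d.odd_centralizer (hfree y hy)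
      rw [hg] at hdvd
      rw [Nat.card_zpowers, hy]
      have hle := Nat.le_of_dvd (by norm_num) hdvd
      obtain ⟨c, hc⟩ : ∃ c, Nat.card ↥(Subgroup.centralizer ({y} : Set G)) = c := ⟨_, rfl⟩
      rw [hc] at hdvd hodd hle ⊢
      interval_cases c <;> revert hdvd hodd <;> decide
    set Q := Subgroup.zpowers x with hQ
    have hQcard : Nat.card Q = 3 := by rw [hQ, Nat.card_zpowers, hx]
    have hNQ : Subgroup.normalizer (Q : Set G) = Q := by
      refine (Subgroup.eq_of_le_of_card_ge Subgroup.le_normalizer ?_).symm
      have hodd : Odd (Nat.card ↥(Subgroup.normalizer (Q : Set G))) := by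
        rw [← Nat.not_even_iff_odd, even_iff_two_dvd]
        intro h2
        obtain ⟨⟨i, hiN⟩, hi⟩ := exists_prime_orderOf_dvd_card' 2 h2
        rw [Subgroup.orderOf_mk] at hi
        have h1 : i * x * i⁻¹ ∈ Q := (Subgroup.mem_normalizer_iff.1 hiN x).1 (Subgroup.mem_zpowers x)
        have h2 : i * x * i⁻¹ * x⁻¹ ∈ (T : Subgroup G) := by
          have := mul_mem (hInT i hi) (hnorm.conj_mem i⁻¹ (inv_mem (hInT i hi)) x)
          simpa [mul_assoc] using this
        have h3 : i * x * i⁻¹ * x⁻¹ ∈ Q := mul_mem h1 (inv_mem (Subgroup.mem_zpowers x))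
        have h4 : i * x * i⁻¹ * x⁻¹ = 1 := by
          have hTQ : (T : Subgroup G) ⊓ Q = ⊥ := Subgroup.inf_eq_bot_of_coprime (by
            rw [show Nat.card (T : Subgroup G) = 4 from hcardC t d.t_order, hQcard]; norm_num)
          exact Subgroup.mem_bot.1 (hTQ ▸ ⟨h2, h3⟩)
        rw [mul_inv_eq_one, mul_inv_eq_iff_eq_mul] at h4
        exact hfree x hx (d.conjInto_of_comm hi h4.symm)
      have hdvd := Subgroup.card_subgroup_dvd_card (Subgroup.normalizer (Q : Set G))
      rw [hg] at hdvd
      rw [hQcard]
      have hle := Nat.le_of_dvd (by norm_num) hdvd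
      obtain ⟨c, hc⟩ : ∃ c, Nat.card ↥(Subgroup.normalizer (Q : Set G)) = c := ⟨_, rfl⟩
      rw [hc] at hdvd hodd hle ⊢
      interval_cases c <;> revert hdvd hodd <;> decide
    refine ⟨Q, ⊥, by rw [hg, hQcard], fun y hy hy1 => ?_, inferInstance,
      by rw [hQcard, Subgroup.card_bot], inf_bot_eq _, by rw [hNQ, sup_bot_eq],
      fun X hX hne => absurd (le_bot_iff.1 hX) hne⟩
    have hy3 : orderOf y = 3 := by
      have h := orderOf_dvd_natCard (⟨y, hy⟩ : Q)
      rw [Subgroup.orderOf_mk, hQcard] at h
      rcases (Nat.dvd_prime Nat.prime_three).1 h with h' | h'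
      · exact absurd (orderOf_eq_one_iff.1 h') hy1
      · exact h'
    rw [hC y hy3]
    exact Subgroup.eq_of_le_of_card_ge (Subgroup.zpowers_le.2 hy)
      (by rw [hQcard, Nat.card_zpowers, hy3])
  · -- `G ≅ A₅`
    have hCA : H50.InvolutionCA T :=
      { not_cyclic := fun hc => by
          obtain ⟨a, ha⟩ := hc.exists_generator
          have h1 : orderOf a = 4 :=
            (orderOf_eq_card_of_forall_mem_zpowers ha).trans (hcardC t d.t_order)
          have h2 : orderOf a ∣ 2 := orderOf_dvd_of_pow_eq_one
            (Subtype.ext (by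
              have := hsq (a : G) (Subgroup.mem_centralizer_singleton_iff.1 a.2)
              simpa [sq] using this))
          rw [h1] at h2
          norm_num at h2
        not_normal := hnorm
        central := fun i hi => ⟨⟨⟨fun a b => Subtype.ext (hcomm i hi a b
            (Subgroup.mem_centralizer_singleton_iff.1 a.2) (Subgroup.mem_centralizer_singleton_iff.1 b.2))⟩⟩,
          fun c hc => by rw [sq]; exact hcent i hi c (Subgroup.mem_centralizer_singleton_iff.1 hc)⟩ }
    obtain ⟨F, iF, jF, hF, ⟨e⟩⟩ := hCA.is_psl_two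
    have hF4 : Fintype.card F = 4 := hF.trans (hcardC t d.t_order)
    obtain ⟨e'⟩ := S0252.result hF4
    let E : G ≃* alternatingGroup (Fin 5) := e.trans e'
    have hg60 : Nat.card G = 60 := by
      rw [Nat.card_congr E.toEquiv, nat_card_alternatingGroup]
      simp [Nat.factorial]
    haveI : IsSimpleGroup G :=
      haveI : IsSimpleGroup (alternatingGroup (Fin 5)) := alternatingGroup.isSimpleGroup_five
      haveI : Nontrivial G := E.toEquiv.nontrivial
      IsSimpleGroup.isSimpleGroup_of_surjective E.symm.toMonoidHom E.symm.surjective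
    haveI : Fact (Nat.Prime 5) := ⟨by norm_num⟩
    have hfree : ∀ y : G, orderOf y = 5 → ¬ConjInto K y := fun y hy h => by
      have := d.orderOf_dvd h
      rw [hy, hK2] at this
      norm_num at this
    have hfact5 : Nat.factorization (Nat.card G) 5 = 1 := by
      rw [hg60, show (60 : ℕ) = 12 * 5 ^ 1 by norm_num, Nat.factorization_mul (by norm_num) (by norm_num)]
      simp [Nat.factorization_eq_zero_of_not_dvd (show ¬ 5 ∣ 12 by norm_num),
        (show Nat.Prime 5 by norm_num).factorization_self]
    have hC : ∀ y : G, orderOf y = 5 → Subgroup.centralizer ({y} : Set G) = Subgroup.zpowers y ∧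
        Nat.card ↥(Subgroup.normalizer (Subgroup.zpowers y : Set G)) = 10 := by
      intro y hy
      let P : Sylow 5 G := Sylow.ofCard (Subgroup.zpowers y) (by rw [Nat.card_zpowers, hy, hfact5, pow_one])
      have hPidx : Nat.card (Sylow 5 G) = (Subgroup.normalizer (Subgroup.zpowers y : Set G)).index :=
        P.card_eq_index_normalizer
      have hidx := Subgroup.index_mul_card (Subgroup.normalizer (Subgroup.zpowers y : Set G))
      have hmod := card_sylow_modEq_one 5 G
      rw [hPidx] at hmod
      have hne1 : (Subgroup.normalizer (Subgroup.zpowers y : Set G)).index ≠ 1 := by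
        intro h1
        have htop := Subgroup.index_eq_one.1 h1
        rcases ((Subgroup.normalizer_eq_top_iff).1 htop).eq_bot_or_eq_top with h | h
        · rw [Subgroup.zpowers_eq_bot] at h
          rw [h, orderOf_one] at hy
          norm_num at hy
        · have := Nat.card_zpowers y
          rw [h, Subgroup.card_top, hg60, hy] at this
          norm_num at this
      have h5 : 5 ∣ Nat.card ↥(Subgroup.normalizer (Subgroup.zpowers y : Set G)) := by
        rw [← hy, ← Nat.card_zpowers]
        exact Subgroup.card_dvd_of_le Subgroup.le_normalizer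
      obtain ⟨a, ha⟩ : ∃ a, (Subgroup.normalizer (Subgroup.zpowers y : Set G)).index = a := ⟨_, rfl⟩
      obtain ⟨b, hb⟩ : ∃ b, Nat.card ↥(Subgroup.normalizer (Subgroup.zpowers y : Set G)) = b := ⟨_, rfl⟩
      rw [ha, hb, hg60] at hidx
      rw [ha] at hmod hne1
      rw [hb] at h5 ⊢
      have hb10 : b = 10 := by
        obtain ⟨b', rfl⟩ := h5
        have h12 : a * b' = 12 := by linarith
        have : a ≤ 12 := Nat.le_of_dvd (by norm_num) ⟨b', h12.symm⟩
        unfold Nat.ModEq at hmod
        interval_cases a <;> omega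
      refine ⟨(Subgroup.eq_of_le_of_card_ge (Subgroup.zpowers_le.2
        (Subgroup.mem_centralizer_singleton_iff.2 rfl)) ?_).symm, hb10⟩
      have hle : Subgroup.centralizer ({y} : Set G) ≤ Subgroup.normalizer (Subgroup.zpowers y : Set G) := by
        intro c hc
        rw [Subgroup.mem_centralizer_singleton_iff] at hc
        rw [Subgroup.mem_normalizer_iff]
        intro z
        constructor <;> intro hz
        · obtain ⟨i, rfl⟩ := Subgroup.mem_zpowers_iff.1 hz
          rw [(Commute.zpow_right hc i).eq, mul_inv_cancel_right]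
          exact hz
        · obtain ⟨i, hi⟩ := Subgroup.mem_zpowers_iff.1 hz
          refine Subgroup.mem_zpowers_iff.2 ⟨i, ?_⟩
          calc y ^ i = c⁻¹ * (c * y ^ i) := by group
            _ = c⁻¹ * (y ^ i * c) := by rw [(Commute.zpow_right hc i).eq]
            _ = z := by rw [hi]; group
      have hdvd := Subgroup.card_dvd_of_le hle
      rw [hb, hb10] at hdvd
      have hodd := d.odd_centralizer (hfree y hy)
      rw [Nat.card_zpowers, hy]
      have hle' := Nat.le_of_dvd (by norm_num) hdvd
      obtain ⟨c, hc⟩ : ∃ c, Nat.card ↥(Subgroup.centralizer ({y} : Set G)) = c := ⟨_, rfl⟩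
      rw [hc] at hdvd hodd hle' ⊢
      interval_cases c <;> revert hdvd hodd <;> decide
    obtain ⟨x, hx⟩ := exists_prime_orderOf_dvd_card' (G := G) 5 (by rw [hg60]; norm_num)
    set Q := Subgroup.zpowers x with hQ
    have hQcard : Nat.card Q = 5 := by rw [hQ, Nat.card_zpowers, hx]
    obtain ⟨⟨i, hiN⟩, hi⟩ := exists_prime_orderOf_dvd_card'
      (G := Subgroup.normalizer (Q : Set G)) 2 (by rw [(hC x hx).2]; norm_num)
    rw [Subgroup.orderOf_mk] at hi
    set D := Subgroup.zpowers i with hD
    have hDcard : Nat.card D = 2 := by rw [hD, Nat.card_zpowers, hi]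
    have hii : i * i = 1 := by
      have := pow_orderOf_eq_one i
      rwa [hi, sq] at this
    have hQD : Disjoint Q D := disjoint_iff.2 (Subgroup.inf_eq_bot_of_coprime (by
      rw [hQcard, hDcard]; norm_num))
    have hDmem : ∀ z ∈ D, z = 1 ∨ z = i := by
      intro z hz
      obtain ⟨j, rfl⟩ := Subgroup.mem_zpowers_iff.1 hz
      rcases Int.even_or_odd j with ⟨r, rfl⟩ | ⟨r, rfl⟩
      · left; rw [_root_.zpow_add, ← (Commute.refl i).mul_zpow, hii, one_zpow]
      · right
        rw [_root_.zpow_add, two_mul, _root_.zpow_add, ← (Commute.refl i).mul_zpow, hii, one_zpow,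
          one_mul, zpow_one]
    have hDab : IsMulCommutative D := ⟨⟨fun a b => Subtype.ext (by
      rcases hDmem a a.2 with h | h <;> rcases hDmem b b.2 with h' | h' <;> simp [h, h'])⟩⟩
    refine ⟨Q, D, by rw [hg60, hQcard], fun y hy hy1 => ?_, hDab, by rw [hQcard, hDcard],
      disjoint_iff.1 hQD, ?_, fun X hX hne => ?_⟩
    · have hy5 : orderOf y = 5 := by
        have h := orderOf_dvd_natCard (⟨y, hy⟩ : Q)
        rw [Subgroup.orderOf_mk, hQcard] at h
        rcases (Nat.dvd_prime (show Nat.Prime 5 by norm_num)).1 h with h' | h'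
        · exact absurd (orderOf_eq_one_iff.1 h') hy1
        · exact h'
      rw [(hC y hy5).1]
      exact Subgroup.eq_of_le_of_card_ge (Subgroup.zpowers_le.2 hy)
        (by rw [hQcard, Nat.card_zpowers, hy5])
    · refine (Subgroup.eq_of_le_of_card_ge (sup_le Subgroup.le_normalizer (Subgroup.zpowers_le.2 hiN)) ?_).symm
      rw [(hC x hx).2]
      have hle := Nat.card_le_card_of_injective
        (fun z : ↥Q × ↥D => (⟨(z.1 : G) * z.2, mul_mem (Subgroup.mem_sup_left z.1.2)
          (Subgroup.mem_sup_right z.2.2)⟩ : ↥(Q ⊔ D)))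
        (fun a b h => Subgroup.mul_injective_of_disjoint hQD (congrArg Subtype.val h))
      rw [Nat.card_prod, hQcard, hDcard] at hle
      exact hle
    · have hXD : X = D := by
        refine le_antisymm hX (Subgroup.zpowers_le.2 ?_)
        obtain ⟨a, ha, ha1⟩ := X.bot_or_exists_ne_one.resolve_left hne
        exact ((hDmem a (hX ha)).resolve_left ha1) ▸ ha
      rw [hXD]
      have hNC : Subgroup.normalizer (D : Set G) = Subgroup.centralizer ({i} : Set G) := by
        ext c
        rw [Subgroup.mem_centralizer_singleton_iff, Subgroup.mem_normalizer_iff]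
        constructor
        · intro hc
          have hcc : c * i * c⁻¹ = i := (hDmem _ ((hc i).1 (Subgroup.mem_zpowers i))).resolve_left
            fun e => by
              rw [conj_eq_one_iff] at e
              rw [e, orderOf_one] at hi
              omega
          exact mul_inv_eq_iff_eq_mul.1 hcc
        · intro hc z
          constructor <;> intro hz
          · obtain rfl | rfl := hDmem z hz
            · simp
            · rwa [hc, mul_inv_cancel_right]
          · obtain h | h := hDmem _ hz
            · rw [conj_eq_one_iff.1 h]; exact one_mem _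
            · have : z = i := by
                have h' : c * z * c⁻¹ = c * i * c⁻¹ := by rw [h, hc, mul_inv_cancel_right]
                exact mul_left_cancel (mul_right_cancel h')
              rw [this]; exact Subgroup.mem_zpowers i
      refine ⟨rfl, ?_⟩
      rw [hNC]
      obtain ⟨u, huC, huD⟩ : ∃ u ∈ Subgroup.centralizer ({i} : Set G), u ∉ D := by
        by_contra h
        push_neg at h
        have := Subgroup.card_le_of_le (H := Subgroup.centralizer ({i} : Set G)) (K := D) h
        rw [hcardC i hi, hDcard] at this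
        omega
      have hcu := Subgroup.mem_centralizer_singleton_iff.1 huC
      have huu : u * u = 1 := hcent i hi u hcu
      have hu1 : u ≠ 1 := fun e => huD (e ▸ one_mem D)
      refine ⟨u, orderOf_eq_prime (by rw [sq, huu]) hu1, huD, fun z hz => ?_, ?_⟩
      · rcases hDmem z hz with rfl | rfl
        · simp
        · rw [hcu, mul_inv_cancel_right, inv_eq_of_mul_eq_one_right hii]
      · refine (Subgroup.eq_of_le_of_card_ge (sup_le ?_ (Subgroup.zpowers_le.2 huC)) ?_).symm
        · exact Subgroup.zpowers_le.2 (Subgroup.mem_centralizer_singleton_iff.2 rfl)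
        · rw [hcardC i hi]
          have hlt : Nat.card D < Nat.card ↥(D ⊔ Subgroup.zpowers u) :=
            Set.Finite.card_lt_card (Set.toFinite _) (SetLike.coe_ssubset_coe.2
              (lt_of_le_of_ne le_sup_left fun e => huD (by
                rw [e]; exact Subgroup.mem_sup_right (Subgroup.mem_zpowers u))))
          have hdvd : Nat.card ↥(D ⊔ Subgroup.zpowers u) ∣ 4 := hcardC i hi ▸
            Subgroup.card_dvd_of_le (sup_le
              (Subgroup.zpowers_le.2 (Subgroup.mem_centralizer_singleton_iff.2 rfl))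
              (Subgroup.zpowers_le.2 huC))
          rw [hDcard] at hlt
          obtain ⟨c, hc⟩ : ∃ c, Nat.card ↥(D ⊔ Subgroup.zpowers u) = c := ⟨_, rfl⟩
          rw [hc] at hlt hdvd ⊢
          have := Nat.le_of_dvd (by norm_num) hdvd
          interval_cases c
          · norm_num at hdvd
          · rfl

end Cfsg.Agent.H77
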