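import Cfsg.Agent.H77.BSW.Plus
import Cfsg.Agent.H7.ZassIdent
import Cfsg.Agent.H25.Burnside

/-!
# From the structure given by the Brauer–Suzuki–Wall theorem to `PSL₂(q)`
-/

set_option autoImplicit false

namespace Cfsg.Agent.H77

open Subgroup MulAction

universe u

variable {G : Type u} [Group G] [Finite G] [IsSimpleGroup G]

/-- A simple group with the Brauer–Suzuki–Wall structure and one class of involutions is
`PSL₂(q)`. -/
theorem exists_psl_of_concl (h : BSWConcl G)
    (hconj : ∀ a b : G, orderOf a = 2 → orderOf b = 2 → IsConj a b)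
    (hnc : ¬ ∀ a b : G, a * b = b * a) :
    ∃ (F : Type) (_ : Field F) (_ : Fintype F), Odd (Fintype.card F) ∧
      Nonempty (G ≃* Matrix.ProjectiveSpecialLinearGroup (Fin 2) F) := by
  classical
  have : Fintype G := Fintype.ofFinite G
  obtain ⟨Q, D, hord, hC, hDab, hDQ, hinf, hNQ, hX⟩ := h
  obtain ⟨d, hd⟩ : ∃ d, Nat.card D = d := ⟨_, rfl⟩
  obtain ⟨q, hq⟩ : ∃ q, Nat.card Q = q := ⟨_, rfl⟩
  rw [hq, hd] at hDQ
  rw [hq, ← hDQ, Nat.add_sub_cancel] at hord
  have hd0 : 0 < d := hd ▸ Nat.card_pos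
  have hQne : Q ≠ ⊥ := fun e => by
    rw [e, Subgroup.card_bot] at hq
    omega
  -- `D` is nontrivial
  have hd2 : 2 ≤ d := by
    by_contra hlt
    have hd1 : d = 1 := by omega
    rw [hd1] at hord
    exact hnc fun a b => IsSimpleGroup.comm_iff_isSolvable.2
      (H25.isSolvable_of_card_eq_mul_pow (p := 2) (q := 3) (a := 2) (b := 1)
        Nat.prime_two Nat.prime_three (by norm_num at hord ⊢; omega)) a b
  have hDne : D ≠ ⊥ := fun e => by
    rw [e, Subgroup.card_bot] at hd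
    omega
  obtain ⟨-, u, hu2, huD, huinv, hND⟩ := hX D le_rfl hDne
  set M := Subgroup.normalizer (Q : Set G) with hM
  have hDM : D ≤ M := hNQ ▸ le_sup_right
  have hQM : Q ≤ M := Subgroup.le_normalizer
  have hQD : Disjoint Q D := disjoint_iff.2 hinf
  have hMdec : ∀ g ∈ M, ∃ c ∈ Q, ∃ e ∈ D, g = c * e := by
    intro g hg
    rw [hNQ, ← SetLike.mem_coe, Subgroup.sup_eq_closure] at hg
    refine Subgroup.closure_induction (p := fun g _ => ∃ c ∈ Q, ∃ e ∈ D, g = c * e) ?_ ?_ ?_ ?_ hg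
    · rintro x (hx | hx)
      · exact ⟨x, hx, 1, one_mem D, (mul_one x).symm⟩
      · exact ⟨1, one_mem Q, x, hx, (one_mul x).symm⟩
    · exact ⟨1, one_mem Q, 1, one_mem D, (mul_one 1).symm⟩
    · rintro x y _ _ ⟨c, hc, e, he, rfl⟩ ⟨c', hc', e', he', rfl⟩
      exact ⟨c * (e * c' * e⁻¹), mul_mem hc ((Subgroup.mem_normalizer_iff.1 (hDM he) c').1 hc'),
        e * e', mul_mem he he', by group⟩
    · rintro x _ ⟨c, hc, e, he, rfl⟩
      exact ⟨e⁻¹ * c⁻¹ * e, by
        simpa using (Subgroup.mem_normalizer_iff.1 (hDM (inv_mem he)) c⁻¹).1 (inv_mem hc),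
        e⁻¹, inv_mem he, by group⟩
  have hMcard : Nat.card M = q * d := by
    rw [← hq, ← hd, ← Nat.card_prod]
    symm
    refine Nat.card_eq_of_bijective (fun p : ↥Q × ↥D => (⟨(p.1 : G) * p.2,
      mul_mem (hQM p.1.2) (hDM p.2.2)⟩ : M)) ⟨?_, ?_⟩
    · exact fun a b e => Subgroup.mul_injective_of_disjoint hQD (congrArg Subtype.val e)
    · rintro ⟨g, hg⟩
      obtain ⟨c, hc, e, he, rfl⟩ := hMdec g hg
      exact ⟨(⟨c, hc⟩, ⟨e, he⟩), rfl⟩
  have hidx : M.index = q + 1 := by
    have h1 := Subgroup.index_mul_card M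
    rw [hMcard] at h1
    apply Nat.eq_of_mul_eq_mul_right (show 0 < q * d * 2 from Nat.mul_pos (Nat.mul_pos (by omega) hd0) two_pos)
    rw [hDQ] at hord
    calc M.index * (q * d * 2) = 2 * (M.index * (q * d)) := by ring
      _ = 2 * Nat.card G := by rw [h1]
      _ = _ := by rw [hord]; ring
  -- a `Q`-element in `M`
  have hmemQ : ∀ g ∈ M, g ^ q = 1 → g ∈ Q := by
    intro g hg hgq
    obtain ⟨c, hc, e, he, rfl⟩ := hMdec g hg
    haveI : (Q.subgroupOf M).Normal := Subgroup.normal_in_normalizer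
    let π := QuotientGroup.mk' (Q.subgroupOf M)
    have h1 : π ⟨c * e, hg⟩ = π ⟨e, hDM he⟩ := by
      rw [show (⟨c * e, hg⟩ : M) = ⟨c, hQM hc⟩ * ⟨e, hDM he⟩ from rfl, map_mul,
        show π ⟨c, hQM hc⟩ = 1 from (QuotientGroup.eq_one_iff _).2 hc, one_mul]
    have h2 : π ⟨c * e, hg⟩ ^ q = 1 := by
      rw [← map_pow, show (⟨c * e, hg⟩ : M) ^ q = 1 from Subtype.ext hgq, map_one]
    have h3 : π ⟨c * e, hg⟩ ^ d = 1 := by
      have he' : e ^ d = 1 := by
        rw [← hd, ← orderOf_dvd_iff_pow_eq_one, ← Subgroup.orderOf_mk e he]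
        exact orderOf_dvd_natCard _
      rw [h1, ← map_pow, show (⟨e, hDM he⟩ : M) ^ d = 1 from Subtype.ext he', map_one]
    have h4 := pow_gcd_eq_one.2 ⟨h2, h3⟩
    rw [show Nat.gcd q d = 1 by
      rw [← hDQ, mul_comm 2 d, Nat.gcd_mul_left_add_left, Nat.gcd_one_left], pow_one] at h4
    exact Subgroup.mem_subgroupOf.1 ((QuotientGroup.eq_one_iff _).1 h4)
  have hpowQ : ∀ y ∈ Q, y ^ q = 1 := fun y hy => by
    rw [← hq, ← orderOf_dvd_iff_pow_eq_one, ← Subgroup.orderOf_mk y hy]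
    exact orderOf_dvd_natCard _
  have hfus : ∀ g y : G, y ∈ Q → y ≠ 1 → g * y * g⁻¹ ∈ Q → g ∈ M := by
    intro g y hy hy1 hgy
    have e1 := hC y hy hy1
    have e2 := hC _ hgy (fun e => hy1 (conj_eq_one_iff.1 e))
    rw [hM, Subgroup.mem_normalizer_iff]
    intro a
    conv_lhs => rw [← e1]
    conv_rhs => rw [← e2]
    rw [Subgroup.mem_centralizer_singleton_iff, Subgroup.mem_centralizer_singleton_iff]
    constructor <;> intro h
    · calc g * a * g⁻¹ * (g * y * g⁻¹) = g * (a * y) * g⁻¹ := by group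
        _ = g * (y * a) * g⁻¹ := by rw [h]
        _ = _ := by group
    · calc a * y = g⁻¹ * (g * a * g⁻¹ * (g * y * g⁻¹)) * g := by group
        _ = g⁻¹ * (g * y * g⁻¹ * (g * a * g⁻¹)) * g := by rw [h]
        _ = _ := by group
  -- the action
  set o : G ⧸ M := ((1 : G) : G ⧸ M) with ho
  have hstab : MulAction.stabilizer G o = M := MulAction.stabilizer_quotient M
  have hfix : ∀ g : G, g • o = o ↔ g ∈ M := fun g => by
    rw [← MulAction.mem_stabilizer_iff, hstab]
  have hfree : ∀ y ∈ Q, ∀ x : G ⧸ M, x ≠ o → y • x = x → y = 1 := by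
    intro y hy x hx hyx
    induction x using QuotientGroup.induction_on with
    | H g =>
      by_contra hy1
      rw [MulAction.Quotient.smul_coe, QuotientGroup.eq] at hyx
      have h1 : g⁻¹ * y * g ∈ M := by
        have := inv_mem hyx
        simpa [mul_assoc] using this
      have h2 : g⁻¹ * y * g ∈ Q := hmemQ _ h1 (by
        rw [show g⁻¹ * y * g = MulAut.conj g⁻¹ y by simp, ← map_pow, hpowQ y hy, map_one])
      have h3 := hfus g⁻¹ y hy hy1 (by rwa [inv_inv])
      exact hx (QuotientGroup.eq.2 (by simpa using h3))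
  haveI : Fintype (G ⧸ M) := Fintype.ofFinite _
  have hcardΩ : Fintype.card (G ⧸ M) = q + 1 := by
    rw [← Nat.card_eq_fintype_card, ← Subgroup.index_eq_card, hidx]
  have hreg : ∀ y y' : G ⧸ M, y ≠ o → y' ≠ o → ∃! c : Q, (c : G) • y = y' := by
    intro y y' hy hy'
    have hmove : ∀ c : Q, (c : G) • y ≠ o := fun c e => hy (by
      have := congrArg ((c : G)⁻¹ • ·) e
      simp only [inv_smul_smul] at this
      rw [this]
      exact (hfix _).2 (hQM (inv_mem c.2)))
    have hbij : Function.Bijective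
        (fun c : Q => (⟨(c : G) • y, hmove c⟩ : {z : G ⧸ M // z ≠ o})) := by
      rw [Fintype.bijective_iff_injective_and_card]
      refine ⟨fun c c' e => ?_, ?_⟩
      · have e' : (c : G) • y = (c' : G) • y := congrArg Subtype.val e
        have := hfree ((c' : G)⁻¹ * c) (mul_mem (inv_mem c'.2) c.2) y hy
          (by rw [mul_smul, e', inv_smul_smul])
        exact Subtype.ext (inv_mul_eq_one.1 this).symm
      · rw [← Nat.card_eq_fintype_card, hq, Fintype.card_subtype_compl, Fintype.card_subtype_eq, hcardΩ,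
          Nat.add_sub_cancel]
    obtain ⟨c, hc, huniq⟩ := hbij.existsUnique ⟨y', hy'⟩
    exact ⟨c, congrArg Subtype.val hc, fun c' hc' => huniq c' (Subtype.ext hc')⟩
  -- the element `u` moves `o`
  have huM : u ∉ M := by
    intro huM
    obtain ⟨c, hc, e, he, hce⟩ := hMdec u huM
    have hcD : ∀ a ∈ D, c * a * c⁻¹ ∈ D := by
      intro a ha
      have hcu : c = u * e⁻¹ := by rw [hce, mul_inv_cancel_right]
      have hmemD : e⁻¹ * a * e ∈ D := mul_mem (mul_mem (inv_mem he) ha) he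
      rw [hcu, show u * e⁻¹ * a * (u * e⁻¹)⁻¹ = u * (e⁻¹ * a * e) * u⁻¹ by group, huinv _ hmemD]
      exact inv_mem hmemD
    obtain ⟨a, ha, ha1⟩ := D.bot_or_exists_ne_one.resolve_left hDne
    have h1 : c * a * c⁻¹ * a⁻¹ ∈ Q ⊓ D := by
      refine Subgroup.mem_inf.2 ⟨?_, mul_mem (hcD a ha) (inv_mem ha)⟩
      rw [show c * a * c⁻¹ * a⁻¹ = c * (a * c⁻¹ * a⁻¹) by group]
      exact mul_mem hc ((Subgroup.mem_normalizer_iff.1 (hDM ha) c⁻¹).1 (inv_mem hc))
    rw [hinf, Subgroup.mem_bot, mul_inv_eq_one, mul_inv_eq_iff_eq_mul] at h1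
    have hc1 : c = 1 := by
      by_contra hc1
      have : a ∈ Q := hC c hc hc1 ▸ Subgroup.mem_centralizer_singleton_iff.2 h1.symm
      exact ha1 (Subgroup.disjoint_def.1 hQD this ha)
    rw [hce, hc1, one_mul] at huD
    exact huD he
  set b := u • o with hb
  have hbo : b ≠ o := fun e => huM ((hfix u).1 e)
  have huu : u * u = 1 := by
    have := pow_orderOf_eq_one u
    rwa [hu2, sq] at this
  have hub : u • b = o := by rw [hb, smul_smul, huu, one_smul]
  have hDb : ∀ e ∈ D, e • b = b := by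
    intro e he
    have h1 := huinv e⁻¹ (inv_mem he)
    rw [inv_inv] at h1
    have h2 : e * u = u * e⁻¹ := by
      conv_lhs => rw [← h1]
      rw [inv_mul_cancel_right]
    rw [hb, smul_smul, h2, ← smul_smul, (hfix _).2 (hDM (inv_mem he))]
  have hH : MulAction.stabilizer G o ⊓ MulAction.stabilizer G b = D := by
    refine le_antisymm (fun g hg => ?_) (fun e he => ⟨(hfix e).2 (hDM he), hDb e he⟩)
    obtain ⟨c, hc, e, he, rfl⟩ := hMdec g ((hfix g).1 hg.1)
    have h2 : (c * e) • b = b := hg.2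
    rw [mul_smul, hDb e he] at h2
    rw [hfree c hc b hbo h2, one_mul]
    exact he
  -- two-transitivity
  have hto : ∀ {x y : G ⧸ M}, x ≠ y → ∃ g : G, g • o = x ∧ g • b = y := by
    intro x y hxy
    obtain ⟨g, rfl⟩ := MulAction.exists_smul_eq G o x
    have hy : g⁻¹ • y ≠ o := fun e => hxy (by rw [← e, smul_inv_smul])
    obtain ⟨c, hc, -⟩ := hreg b _ hbo hy
    exact ⟨g * c, by rw [mul_smul, (hfix _).2 (hQM c.2)], by rw [mul_smul, hc, smul_inv_smul]⟩
  have hfaith : FaithfulSMul G (G ⧸ M) := by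
    constructor
    intro g₁ g₂ hg
    have hker : (MulAction.toPermHom G (G ⧸ M)).ker = ⊥ := by
      rcases (MonoidHom.normal_ker (MulAction.toPermHom G (G ⧸ M))).eq_bot_or_eq_top with e | e
      · exact e
      · exfalso
        have h1 : u ∈ (MulAction.toPermHom G (G ⧸ M)).ker := e ▸ Subgroup.mem_top u
        exact hbo (congrFun (congrArg DFunLike.coe h1) o)
    exact (MonoidHom.ker_eq_bot_iff _).1 hker (Equiv.ext hg)
  have Z : H7.ZHyp G (G ⧸ M) :=
    { faithful := hfaith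
      two := fun {a b' c e} hab hce => by
        obtain ⟨g, h1, h2⟩ := hto hab
        obtain ⟨g', h1', h2'⟩ := hto hce
        exact ⟨g' * g⁻¹, by rw [← h1, mul_smul, inv_smul_smul, h1'],
          by rw [← h2, mul_smul, inv_smul_smul, h2']⟩
      three := by
        intro g x y z hxy hyz hxz hgx hgy hgz
        obtain ⟨g₀, rfl, rfl⟩ := hto hxy
        set e := g₀⁻¹ * g * g₀ with he
        have hsm : ∀ w : G ⧸ M, g • (g₀ • w) = g₀ • w → e • w = w := fun w hw => by
          rw [he, mul_smul, mul_smul, hw, inv_smul_smul]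
        have heD : e ∈ D := hH ▸ ⟨hsm o hgx, hsm b hgy⟩
        have hez : e • (g₀⁻¹ • z) = g₀⁻¹ • z := hsm _ (by rwa [smul_inv_smul])
        have hw : g₀⁻¹ • z ≠ o := fun e' => hxz (by rw [← e', smul_inv_smul])
        obtain ⟨c, hc, -⟩ := hreg b _ hbo hw
        have hec : e * (c : G) * e⁻¹ ∈ Q := (Subgroup.mem_normalizer_iff.1 (hDM heD) _).1 c.2
        have h1 : (e * (c : G) * e⁻¹) • b = g₀⁻¹ • z := by
          rw [mul_smul, hDb _ (inv_mem heD), mul_smul, hc, hez]
        have h2 : (⟨_, hec⟩ : Q) = c := (hreg b _ hbo hw).unique h1 hc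
        have h3 : e * (c : G) * e⁻¹ = c := congrArg Subtype.val h2
        have hc1 : (c : G) ≠ 1 := fun e' => by
          rw [e', one_smul] at hc
          exact hyz (by rw [hc, smul_inv_smul])
        rw [mul_inv_eq_iff_eq_mul] at h3
        have he1 : e = 1 := Subgroup.disjoint_def.1 hQD
          (hC _ c.2 hc1 ▸ Subgroup.mem_centralizer_singleton_iff.2 h3) heD
        rw [he] at he1
        calc g = g₀ * (g₀⁻¹ * g * g₀) * g₀⁻¹ := by group
          _ = 1 := by rw [he1, mul_one, mul_inv_cancel]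
      fix := by
        obtain ⟨a, ha, ha1⟩ := D.bot_or_exists_ne_one.resolve_left hDne
        exact ⟨a, ha1, o, b, hbo.symm, (hfix a).2 (hDM ha), hDb a ha⟩ }
  have K : H7.ZK G o b Q :=
    { z := Z
      ne := hbo.symm
      le := hstab.symm ▸ hQM
      conj := fun g hg c hc => (Subgroup.mem_normalizer_iff.1 ((hfix g).1 hg) c).1 hc
      reg := hreg }
  obtain ⟨F, iF, jF, -, hF, hiso⟩ := K.psl_of_half (by rw [hH, hd, hcardΩ, ← hDQ])
    (fun a ha c hc => by
      rw [hH] at ha hc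
      exact congrArg Subtype.val (hDab.is_comm.comm (⟨a, ha⟩ : D) ⟨c, hc⟩))
    ⟨u, huu, hb.symm, hub, fun a ha => by
      rw [hH] at ha
      have := huinv a ha
      rwa [inv_eq_of_mul_eq_one_right huu] at this⟩
    (fun heven w hw hwab => by
      rw [hH] at heven
      obtain ⟨i, hi⟩ := exists_prime_orderOf_dvd_card' 2 (even_iff_two_dvd.1 heven)
      have hwne : w ≠ 1 := fun e => by
        rw [e, one_smul] at hwab
        exact hbo hwab.symm
      have hw2 : orderOf w = 2 := orderOf_eq_prime (by rw [sq, hw]) hwne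
      obtain ⟨g, hg⟩ := isConj_iff.1 (hconj (i : G) w (by rw [Subgroup.orderOf_coe, hi]) hw2)
      exact ⟨g • o, by rw [← hg, mul_smul, mul_smul, inv_smul_smul, (hfix _).2 (hDM i.2)]⟩)
  refine ⟨F, iF, jF, ⟨d, ?_⟩, hiso⟩
  rw [hcardΩ] at hF
  omega

end Cfsg.Agent.H77
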