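import Mathlib

/-!
# Groups with a generalized dihedral involution centralizer whose abelian half is a TI subgroup

The setting of the abstract Brauer–Suzuki–Wall theorem.
-/

set_option autoImplicit false

namespace Cfsg.Agent.H77

/-- `C(t) = K⟨s⟩`, `K` abelian TI, inverted by `s`, with a single involution; one class of
involutions. -/
structure BSW {G : Type*} [Group G] (t : G) (K : Subgroup G) (s : G) : Prop where
  t_order : orderOf t = 2
  t_mem : t ∈ K
  s_order : orderOf s = 2
  s_notMem : s ∉ K
  comm : ∀ a ∈ K, ∀ b ∈ K, a * b = b * a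
  mem_cases : ∀ g : G, g * t = t * g ↔ g ∈ K ∨ g * s ∈ K
  inv : ∀ a ∈ K, s * a * s⁻¹ = a⁻¹
  sq_one : ∀ a ∈ K, a * a = 1 → a = 1 ∨ a = t
  ti : ∀ g : G, ∀ a ∈ K, a ≠ 1 → g * a * g⁻¹ ∈ K → g * t = t * g
  conj_t : ∀ x : G, orderOf x = 2 → IsConj t x

variable {G : Type*} [Group G] {t s : G} {K : Subgroup G}

/-- The hypotheses of the abstract theorem give the setting. -/
theorem BSW.of_hyps (ht : orderOf t = 2) (hKab : IsMulCommutative ↥K)
    (hKH : K ≤ Subgroup.centralizer ({t} : Set G)) (htK : t ∈ K) (hs : orderOf s = 2)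
    (hsH : s ∈ Subgroup.centralizer ({t} : Set G)) (hsK : s ∉ K)
    (hH : K ⊔ Subgroup.zpowers s = Subgroup.centralizer ({t} : Set G))
    (hCK : K ⊓ Subgroup.centralizer ({s} : Set G) = Subgroup.zpowers t)
    (hinv : ∀ x ∈ K, s * x * s⁻¹ = x⁻¹)
    (hTI : ∀ g : G, g ∉ Subgroup.centralizer ({t} : Set G) → K ⊓ K.map (MulAut.conj g).toMonoidHom = ⊥)
    (hconj : ∀ x y : G, orderOf x = 2 → orderOf y = 2 → IsConj x y) : BSW t K s := by
  have hss : s * s = 1 := by rw [← sq, ← hs]; exact pow_orderOf_eq_one s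
  have htt : t * t = 1 := by rw [← sq, ← ht]; exact pow_orderOf_eq_one t
  have hcm : ∀ a ∈ K, ∀ b ∈ K, a * b = b * a := fun a ha b hb =>
    congrArg Subtype.val (hKab.is_comm.comm ⟨a, ha⟩ ⟨b, hb⟩)
  refine ⟨ht, htK, hs, hsK, hcm, fun g => ?_, hinv, fun a ha h2 => ?_, fun g a ha ha1 hga => ?_,
    fun x hx => hconj t x ht hx⟩
  · constructor
    · intro hg
      have hg' : g ∈ K ⊔ Subgroup.zpowers s := hH ▸ Subgroup.mem_centralizer_singleton_iff.2 hg
      let H : Subgroup G :=
        { carrier := {g | g ∈ K ∨ g * s ∈ K}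
          one_mem' := Or.inl (one_mem _)
          mul_mem' := by
            have hsn : ∀ a ∈ K, s * a * s ∈ K := fun a ha => by
              have h := hinv a ha
              rw [inv_eq_of_mul_eq_one_right hss] at h
              rw [h]; exact inv_mem ha
            rintro a b (ha | ha) (hb | hb)
            · exact Or.inl (mul_mem ha hb)
            · exact Or.inr (by rw [mul_assoc]; exact mul_mem ha hb)
            · refine Or.inr ?_
              have : a * b * s = (a * s) * (s * b * s) := by
                simp only [mul_assoc]; rw [← mul_assoc s s, hss, one_mul]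
              rw [this]; exact mul_mem ha (hsn b hb)
            · refine Or.inl ?_
              have : a * b = (a * s) * (s * (b * s) * s) := by
                simp only [mul_assoc]; rw [← mul_assoc s s, hss, mul_one, one_mul]
              rw [this]; exact mul_mem ha (hsn _ hb)
          inv_mem' := by
            rintro a (ha | ha)
            · exact Or.inl (inv_mem ha)
            · refine Or.inr ?_
              have h := hinv _ (inv_mem ha)
              rw [inv_inv] at h
              have : a⁻¹ * s = (a * s) := by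
                rw [← h, _root_.mul_inv_rev]
                simp only [← mul_assoc, inv_eq_of_mul_eq_one_right hss, hss, one_mul]
              rw [this]; exact ha }
      have hle : K ⊔ Subgroup.zpowers s ≤ H := sup_le (fun a ha => Or.inl ha)
        (Subgroup.zpowers_le.2 (Or.inr (hss.symm ▸ one_mem K)))
      exact hle hg'
    · intro h
      apply Subgroup.mem_centralizer_singleton_iff.1
      rcases h with h | h
      · exact hKH h
      · have := mul_mem (hKH h) (inv_mem hsH)
        rwa [mul_inv_cancel_right] at this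
  · have hmem : a ∈ Subgroup.zpowers t := by
      rw [← hCK]
      refine ⟨ha, Subgroup.mem_centralizer_singleton_iff.2 ?_⟩
      have h := hinv a ha
      rw [inv_eq_of_mul_eq_one_right h2, mul_inv_eq_iff_eq_mul] at h
      exact h.symm
    obtain ⟨i, rfl⟩ := Subgroup.mem_zpowers_iff.1 hmem
    rcases Int.even_or_odd i with ⟨r, rfl⟩ | ⟨r, rfl⟩
    · left; rw [_root_.zpow_add, ← (Commute.refl t).mul_zpow, htt, one_zpow]
    · right
      rw [_root_.zpow_add, two_mul, _root_.zpow_add, ← (Commute.refl t).mul_zpow, htt, one_zpow,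
        one_mul, zpow_one]
  · by_contra hg
    have hmem : g * a * g⁻¹ ∈ K ⊓ K.map (MulAut.conj g).toMonoidHom := ⟨hga, a, ha, rfl⟩
    rw [hTI g (fun h => hg (Subgroup.mem_centralizer_singleton_iff.1 h)), Subgroup.mem_bot,
      conj_eq_one_iff] at hmem
    exact ha1 hmem

variable (d : BSW t K s)
include d

theorem BSW.t_sq : t * t = 1 := by
  have := pow_orderOf_eq_one t
  rwa [d.t_order, sq] at this

theorem BSW.s_sq : s * s = 1 := by
  have := pow_orderOf_eq_one s
  rwa [d.s_order, sq] at this

theorem BSW.t_ne_one : t ≠ 1 := fun h => by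
  have := d.t_order
  simp [h] at this

theorem BSW.inv' {a : G} (ha : a ∈ K) : s * a * s = a⁻¹ := by
  have := d.inv a ha
  rwa [inv_eq_of_mul_eq_one_right d.s_sq] at this

/-- An element of `C(t)` outside `K` is an involution inverting `K`. -/
theorem BSW.outside {g : G} (hg : g * t = t * g) (hgK : g ∉ K) :
    g * g = 1 ∧ orderOf g = 2 ∧ ∀ a ∈ K, g * a * g⁻¹ = a⁻¹ := by
  have hgs : g * s ∈ K := ((d.mem_cases g).1 hg).resolve_left hgK
  have hgg : g * g = 1 := by
    calc g * g = (g * s) * (s * (g * s) * s) := by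
          simp only [mul_assoc, ← mul_assoc s s, d.s_sq, one_mul, mul_one]
      _ = 1 := by rw [d.inv' hgs, mul_inv_cancel]
  refine ⟨hgg, orderOf_eq_prime (by rw [sq, hgg]) (fun h => hgK (h ▸ one_mem K)), fun a ha => ?_⟩
  have e : g * a * g⁻¹ = (g * s) * (s * a * s⁻¹) * (g * s)⁻¹ := by
    rw [_root_.mul_inv_rev, inv_eq_of_mul_eq_one_right d.s_sq]
    simp only [mul_assoc, ← mul_assoc s s, d.s_sq, one_mul]
  rw [e, d.inv a ha, d.comm _ hgs _ (inv_mem ha), mul_inv_cancel_right]

/-- The centralizer of a nontrivial element of `K` lies in `C(t)`. -/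
theorem BSW.comm_t_of_comm {a g : G} (ha : a ∈ K) (ha1 : a ≠ 1) (h : g * a = a * g) : g * t = t * g :=
  d.ti g a ha ha1 (by rw [h, mul_inv_cancel_right]; exact ha)

/-- `C(a) = K` for `a ∈ K` of order greater than two. -/
theorem BSW.mem_of_comm {a g : G} (ha : a ∈ K) (ha1 : a ≠ 1) (hat : a ≠ t) (h : g * a = a * g) : g ∈ K := by
  by_contra hg
  obtain ⟨-, -, hinv⟩ := d.outside (d.comm_t_of_comm ha ha1 h) hg
  have h2 := hinv a ha
  rw [h, mul_inv_cancel_right] at h2
  have : a * a = 1 := by
    nth_rewrite 2 [h2]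
    rw [mul_inv_cancel]
  rcases d.sq_one a ha this with e | e
  exacts [ha1 e, hat e]

/-- An element normalizing `K` centralizes `t`. -/
theorem BSW.comm_t_of_normalizes {g : G} (h : g * t * g⁻¹ ∈ K) : g * t = t * g :=
  d.ti g t d.t_mem d.t_ne_one h

/-- `K` has index two in `C(t)`. -/
theorem BSW.relIndex_eq_two : K.relIndex (Subgroup.centralizer ({t} : Set G)) = 2 := by
  rw [Subgroup.relIndex, Subgroup.index_eq_two_iff]
  have hsC : s ∈ Subgroup.centralizer ({t} : Set G) :=
    Subgroup.mem_centralizer_singleton_iff.2 ((d.mem_cases s).2 (Or.inr (d.s_sq ▸ one_mem K)))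
  refine ⟨⟨s, hsC⟩, fun b => ?_⟩
  simp only [Subgroup.mem_subgroupOf, Subgroup.coe_mul]
  rcases (d.mem_cases b).1 (Subgroup.mem_centralizer_singleton_iff.1 b.2) with h | h
  · refine Or.inr ⟨h, fun h' => d.s_notMem ?_⟩
    simpa using mul_mem (inv_mem h) h'
  · refine Or.inl ⟨h, fun h' => d.s_notMem ?_⟩
    simpa using mul_mem (inv_mem h') h

/-- The cardinality of `C(t)`. -/
theorem BSW.card_centralizer [Finite G] :
    Nat.card ↥(Subgroup.centralizer ({t} : Set G)) = 2 * Nat.card K := by
  have hle : K ≤ Subgroup.centralizer ({t} : Set G) := fun a ha =>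
    Subgroup.mem_centralizer_singleton_iff.2 ((d.mem_cases a).2 (Or.inl ha))
  rw [← Subgroup.relIndex_bot_left, ← Subgroup.relIndex_mul_relIndex ⊥ K _ bot_le hle,
    Subgroup.relIndex_bot_left, d.relIndex_eq_two, mul_comm]

end Cfsg.Agent.H77
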