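import Cfsg.Agent.H77.BSW.Group
import Cfsg.Agent.H25.CharInd
import Cfsg.Agent.H26.CharOrtho
import Cfsg.Agent.H27.Dual
import Cfsg.Agent.H38.ClassCoeff

/-!
# The induced virtual characters of the Brauer–Suzuki–Wall setting
-/

set_option autoImplicit false

open scoped ComplexConjugate

namespace Cfsg.Agent.H77

variable {G : Type*} [Group G]

/-- The sum of the values of a linear character, as an indicator. -/
theorem sum_linear_indicator {C : Type*} [Group C] [Fintype C] (μ : C →* ℂˣ)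
    [Decidable (μ = 1)] :
    ∑ k : C, ((μ k : ℂˣ) : ℂ) = if μ = 1 then (Nat.card C : ℂ) else 0 := by
  split_ifs with h
  · subst h
    simp [Nat.card_eq_fintype_card]
  · exact H27.sum_apply_linear h

variable [Fintype G] {K : Subgroup G}

/-- The multiplicity of a linear character of `K` in an irreducible character of `G`. -/
theorem exists_mult (K : Subgroup G) (χ : Cfsg.IrrCharacter G) (μ : K →* ℂˣ) [Fintype K] :
    ∃ m : ℕ, (Nat.card K : ℂ)⁻¹ * ∑ y : K, χ.1 y * ((μ y⁻¹ : ℂˣ) : ℂ) = (m : ℂ) := by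
  obtain ⟨n, ρ, -, e⟩ := χ.2
  have h := H27.exists_nat_inner_linear (C := K) (ρ.comp K.subtype) μ
  have e' : ∀ y : K, Representation.character (ρ.comp K.subtype) y = χ.1 y := fun y => by
    rw [← e]; rfl
  simpa only [e'] using h

/-- The multiplicity of a linear character of `K` in an irreducible character of `G`. -/
noncomputable def mult (K : Subgroup G) (χ : Cfsg.IrrCharacter G) (μ : K →* ℂˣ) : ℕ :=
  (@exists_mult G _ _ K χ μ (Fintype.ofFinite K)).choose

/-- The coefficient of an irreducible character in the function induced from `1 - μ`. -/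
noncomputable def coef (K : Subgroup G) (χ : Cfsg.IrrCharacter G) (μ : K →* ℂˣ) : ℤ :=
  (mult K χ 1 : ℤ) - mult K χ μ

/-- The function induced from `1 - μ`. -/
noncomputable def phi (K : Subgroup G) (μ : K →* ℂˣ) : G → ℂ :=
  Cfsg.indFun K fun k => 1 - ((μ k : ℂˣ) : ℂ)

theorem mult_spec (χ : Cfsg.IrrCharacter G) (μ : K →* ℂˣ) [Fintype K] :
    (mult K χ μ : ℂ) = (Nat.card K : ℂ)⁻¹ * ∑ y : K, χ.1 y * ((μ y⁻¹ : ℂˣ) : ℂ) := by
  rename_i inst
  obtain rfl := Subsingleton.elim inst (Fintype.ofFinite K)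
  exact (@exists_mult G _ _ K χ μ (Fintype.ofFinite K)).choose_spec.symm

theorem coef_one (χ : Cfsg.IrrCharacter G) : coef K χ 1 = 0 := sub_self _

theorem phi_one (μ : K →* ℂˣ) : phi K μ 1 = 0 := by
  simp [phi, H25.indFun_one]

theorem phi_eq_zero (μ : K →* ℂˣ) {x : G} (hx : ¬ConjInto K x) : phi K μ x = 0 :=
  H25.indFun_eq_zero _ _ fun g h => hx ⟨g⁻¹, by simpa using h⟩

theorem isClassFunction_phi (μ : K →* ℂˣ) : Cfsg.IsClassFunction G (phi K μ) :=
  H25.isClassFunction_indFun _ _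

/-- The coefficient is the inner product. -/
theorem classInner_phi (χ : Cfsg.IrrCharacter G) (μ : K →* ℂˣ) :
    Cfsg.classInner (phi K μ) χ.1 = (coef K χ μ : ℂ) := by
  classical
  have : Fintype K := Fintype.ofFinite _
  rw [phi, H25.classInner_indFun_left K _ _ (H26.irr_isClassFunction χ), Cfsg.classInner, coef]
  push_cast
  rw [mult_spec χ 1, mult_spec χ μ, ← mul_sub, ← Finset.sum_sub_distrib]
  congr 1
  refine Fintype.sum_equiv (Equiv.inv K) _ _ fun y => ?_
  simp only [Equiv.inv_apply, MonoidHom.one_apply, Units.val_one, inv_inv, mul_one,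
    Subgroup.coe_inv, H26.irr_inv]
  ring

/-- The expansion of `phi`. -/
theorem phi_expand (μ : K →* ℂˣ) (x : G) :
    phi K μ x = ∑ χ : Cfsg.IrrCharacter G, (coef K χ μ : ℂ) * χ.1 x := by
  rw [congrFun (H26.class_function_expansion _ (isClassFunction_phi μ)) x]
  simp [Finset.sum_apply, classInner_phi]

theorem sum_coef_degree (μ : K →* ℂˣ) :
    ∑ χ : Cfsg.IrrCharacter G, (coef K χ μ : ℂ) * χ.1 1 = 0 := by
  rw [← phi_expand, phi_one]

theorem coef_oneIrr {μ : K →* ℂˣ} (hμ : μ ≠ 1) : coef K (H26.oneIrr G) μ = 1 := by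
  classical
  have : Fintype K := Fintype.ofFinite _
  have h1 : (mult K (H26.oneIrr G) 1 : ℂ) = 1 := by
    rw [mult_spec]
    simp [H26.oneIrr_val, Nat.card_eq_fintype_card]
  have h2 : (mult K (H26.oneIrr G) μ : ℂ) = 0 := by
    rw [mult_spec]
    simp only [H26.oneIrr_val, one_mul]
    rw [show (∑ y : K, ((μ y⁻¹ : ℂˣ) : ℂ)) = ∑ y : K, ((μ y : ℂˣ) : ℂ) from
      Fintype.sum_equiv (Equiv.inv K) _ _ fun y => rfl, H27.sum_apply_linear hμ, mul_zero]
  rw [coef, show mult K (H26.oneIrr G) 1 = 1 by exact_mod_cast h1,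
    show mult K (H26.oneIrr G) μ = 0 by exact_mod_cast h2]
  norm_num

variable {t s : G} (d : BSW t K s)
include d

omit [Fintype G] in
theorem BSW.isMulCommutative : IsMulCommutative K :=
  ⟨⟨fun a b => Subtype.ext (d.comm a a.2 b b.2)⟩⟩

/-- Characters of `G` are real on `K`. -/
theorem BSW.irr_inv_apply (χ : Cfsg.IrrCharacter G) {k : G} (hk : k ∈ K) : χ.1 k⁻¹ = χ.1 k := by
  rw [← d.inv k hk, H26.irr_conj]

theorem BSW.mult_inv (χ : Cfsg.IrrCharacter G) (μ : K →* ℂˣ) : mult K χ μ⁻¹ = mult K χ μ := by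
  classical
  have : Fintype K := Fintype.ofFinite _
  apply Nat.cast_injective (R := ℂ)
  rw [mult_spec, mult_spec]
  congr 1
  refine Fintype.sum_equiv (Equiv.inv K) _ _ fun y => ?_
  simp [d.irr_inv_apply χ y.2]

theorem BSW.coef_inv (χ : Cfsg.IrrCharacter G) (μ : K →* ℂˣ) : coef K χ μ⁻¹ = coef K χ μ := by
  simp [coef, d.mult_inv]

/-- The values of `χ` on `K`. -/
theorem BSW.irr_apply (χ : Cfsg.IrrCharacter G) (k : K) :
    χ.1 k = ∑ μ : K →* ℂˣ, (mult K χ μ : ℂ) * ((μ k : ℂˣ) : ℂ) := by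
  haveI := d.isMulCommutative
  have : Fintype K := Fintype.ofFinite _
  rw [H27.fourier_inversion (fun y : K => χ.1 y) k]
  simp only [mult_spec]

/-- The values of `χ` on `K` away from `1`. -/
theorem BSW.irr_apply_ne (χ : Cfsg.IrrCharacter G) {k : K} (hk : k ≠ 1) :
    χ.1 k = -∑ μ : K →* ℂˣ, (coef K χ μ : ℂ) * ((μ k : ℂˣ) : ℂ) := by
  classical
  haveI := d.isMulCommutative
  rw [d.irr_apply χ k]
  simp only [coef, Int.cast_sub, Int.cast_natCast, sub_mul, Finset.sum_sub_distrib, ← Finset.mul_sum,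
    H27.sum_linear_apply, if_neg hk, mul_zero, zero_sub, neg_neg]

/-- The degree of `χ`. -/
theorem BSW.irr_one (χ : Cfsg.IrrCharacter G) :
    χ.1 1 = ∑ μ : K →* ℂˣ, (mult K χ μ : ℂ) := by
  simpa using d.irr_apply χ 1

/-- The values of `phi` on `K` away from `1`. -/
theorem BSW.phi_apply (μ : K →* ℂˣ) {k : K} (hk : k ≠ 1) :
    phi K μ k = 2 - ((μ k : ℂˣ) : ℂ) - ((μ k⁻¹ : ℂˣ) : ℂ) := by
  classical
  set θ : K → ℂ := fun a => 1 - ((μ a : ℂˣ) : ℂ) with hθ
  have hk1 : (k : G) ≠ 1 := fun e => hk (Subtype.ext e)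
  have hF : ∀ x : G, Cfsg.extendByZero K θ (x⁻¹ * k * x) =
      (if x ∈ K then θ k else 0) + (if x * s ∈ K then θ k⁻¹ else 0) := by
    intro x
    by_cases hmem : x⁻¹ * (k : G) * x ∈ K
    · rw [H25.extendByZero_of_mem _ _ hmem]
      have hgt : x⁻¹ * t = t * x⁻¹ := d.ti x⁻¹ k k.2 hk1 (by simpa using hmem)
      by_cases hxK : x ∈ K
      · have : x * s ∉ K := fun h => d.s_notMem (by simpa using mul_mem (inv_mem hxK) h)
        rw [if_pos hxK, if_neg this, add_zero]
        congr 1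
        refine Subtype.ext ?_
        show x⁻¹ * (k : G) * x = k
        rw [d.comm x⁻¹ (inv_mem hxK) k k.2, inv_mul_cancel_right]
      · have hx't : x * t = t * x := by
          calc x * t = x * (t * x⁻¹) * x := by group
            _ = x * (x⁻¹ * t) * x := by rw [hgt]
            _ = t * x := by group
        have hxs := ((d.mem_cases x).1 hx't).resolve_left hxK
        rw [if_neg hxK, if_pos hxs, zero_add]
        congr 1
        refine Subtype.ext ?_
        show x⁻¹ * (k : G) * x = (k : G)⁻¹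
        obtain ⟨h2, -, hinv⟩ := d.outside hx't hxK
        conv_lhs => rw [inv_eq_of_mul_eq_one_right h2]
        have := hinv k k.2
        rwa [inv_eq_of_mul_eq_one_right h2] at this
    · rw [H25.extendByZero_of_notMem _ _ hmem, if_neg, if_neg, add_zero]
      · intro hxs
        exact hmem (by simpa using d.conj_mem (g := x⁻¹) k.2 (by
          have h : x * t = t * x := (d.mem_cases x).2 (Or.inr hxs)
          exact (Commute.inv_left h).eq))
      · intro hxK
        exact hmem (mul_mem (mul_mem (inv_mem hxK) k.2) hxK)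
  have c1 : (Finset.univ.filter fun x : G => x ∈ K).card = Nat.card K := by
    rw [Nat.card_eq_fintype_card, Fintype.card_subtype]
  have c2 : (Finset.univ.filter fun x : G => x * s ∈ K).card = Nat.card K := by
    rw [← c1]
    refine Finset.card_equiv (Equiv.mulRight s) fun x => ?_
    simp
  rw [phi, H25.indFun_apply, Finset.sum_congr rfl fun x _ => hF x, Finset.sum_add_distrib,
    ← Finset.sum_filter, ← Finset.sum_filter, Finset.sum_const, Finset.sum_const, c1, c2]
  have hK : (Nat.card K : ℂ) ≠ 0 := Nat.cast_ne_zero.2 Nat.card_pos.ne'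
  simp only [hθ, nsmul_eq_mul]
  field_simp
  ring

open Classical in
/-- The Gram matrix of the functions `phi`. -/
theorem BSW.sum_coef_mul {μ ν : K →* ℂˣ} (hμ : μ ≠ 1) (hν : ν ≠ 1) :
    ∑ χ : Cfsg.IrrCharacter G, coef K χ μ * coef K χ ν =
      2 + (if μ = ν then 1 else 0) + (if μ * ν = 1 then 1 else 0) := by
  have : Fintype K := Fintype.ofFinite _
  have h := H26.classInner_eq_sum (phi K μ) (phi K ν) (isClassFunction_phi μ)
  simp only [classInner_phi, map_intCast] at h
  have hg : Cfsg.classInner (phi K μ) (phi K ν) =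
      (2 : ℂ) + (if μ = ν then 1 else 0) + (if μ * ν = 1 then 1 else 0) := by
    rw [phi, H25.classInner_indFun_left K _ _ (isClassFunction_phi ν), Cfsg.classInner]
    have e : ∀ k : K, (1 - ((μ k : ℂˣ) : ℂ)) * conj (phi K ν k) =
        2 - 2 * ((μ k : ℂˣ) : ℂ) - ((ν⁻¹ k : ℂˣ) : ℂ) - ((ν k : ℂˣ) : ℂ) +
          (((μ * ν⁻¹) k : ℂˣ) : ℂ) + (((μ * ν) k : ℂˣ) : ℂ) := by
      intro k
      by_cases hk : k = 1
      · subst hk; simp
      · rw [d.phi_apply ν hk]
        simp only [map_sub, H27.conj_linear, inv_inv, map_ofNat]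
        simp only [MonoidHom.mul_apply, MonoidHom.inv_apply, map_inv, Units.val_mul]
        ring
    have hν' : ν⁻¹ ≠ 1 := fun h => hν (MonoidHom.ext fun k => inv_eq_one.1 (DFunLike.congr_fun h k))
    have hiff : μ * ν⁻¹ = 1 ↔ μ = ν :=
      ⟨fun h => MonoidHom.ext fun k => mul_inv_eq_one.1 (DFunLike.congr_fun h k),
        fun h => MonoidHom.ext fun k => by rw [h]; exact mul_inv_cancel _⟩
    rw [Finset.sum_congr rfl fun k _ => e k]
    simp only [Finset.sum_add_distrib, Finset.sum_sub_distrib, ← Finset.mul_sum,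
      sum_linear_indicator, if_neg hμ, if_neg hν, if_neg hν', hiff]
    have hK : (Nat.card K : ℂ) ≠ 0 := Nat.cast_ne_zero.2 Nat.card_pos.ne'
    rw [Finset.sum_const, Finset.card_univ, ← Nat.card_eq_fintype_card, nsmul_eq_mul]
    split_ifs <;> field_simp <;> ring
  rw [hg] at h
  have h' := h.symm
  norm_cast at h'
  exact_mod_cast h.symm

/-- The number of factorizations of an element of `K` into two involutions. -/
theorem BSW.inv2_K {k : G} (hk : k ∈ K) (hk1 : k ≠ 1) : d.inv2 k = Nat.card K := by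
  have hp : ∀ c : K, IsConj t (s * (c : G)) ∧ IsConj t (s * (c : G) * k) := by
    have key : ∀ b ∈ K, orderOf (s * b) = 2 := by
      intro b hb
      refine orderOf_eq_prime ?_ fun e => ?_
      · rw [sq, ← mul_assoc, d.inv' hb, inv_mul_cancel]
      · exact d.s_notMem (eq_inv_of_mul_eq_one_left e ▸ inv_mem hb)
    refine fun c => ⟨d.conj_t _ (key c c.2), d.conj_t _ ?_⟩
    rw [mul_assoc]
    exact key _ (mul_mem c.2 hk)
  symm
  refine Nat.card_congr (Equiv.ofBijective (fun c : K => (⟨(s * (c : G), s * (c : G) * k),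
    (hp c).1, (hp c).2, ?_⟩ :
      {p : G × G // IsConj t p.1 ∧ IsConj t p.2 ∧ p.1 * p.2 = k})) ⟨?_, ?_⟩)
  · have h : (s * (c : G)) * (s * (c : G)) = 1 := by
      rw [← mul_assoc, d.inv' c.2, inv_mul_cancel]
    show s * (c : G) * (s * (c : G) * k) = k
    rw [← mul_assoc, h, one_mul]
  · intro c c' h
    exact Subtype.ext (mul_left_cancel (congrArg (fun p => p.1.1) h))
  · rintro ⟨⟨a, b⟩, ha, hb, rfl⟩
    have haa : a * a = 1 := by
      have := pow_orderOf_eq_one a
      rwa [d.isConj_t_iff.1 ha, sq] at this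
    have hbb : b * b = 1 := by
      have := pow_orderOf_eq_one b
      rwa [d.isConj_t_iff.1 hb, sq] at this
    have hmem : a * (a * b) * a⁻¹ ∈ K := by
      have h1 : a * (a * b) * a⁻¹ = (a * b)⁻¹ := by
        rw [_root_.mul_inv_rev, ← mul_assoc, haa, one_mul, inv_eq_of_mul_eq_one_right hbb]
      rw [h1]; exact inv_mem hk
    have hat : a * t = t * a := d.ti a _ hk hk1 hmem
    have haK : a ∉ K := by
      intro haK
      have hbK : b ∈ K := by
        have := mul_mem (inv_mem haK) hk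
        rwa [inv_mul_cancel_left] at this
      have ea : a = t := (d.sq_one a haK haa).resolve_left fun e => by
        have := d.isConj_t_iff.1 ha
        simp [e] at this
      have eb : b = t := (d.sq_one b hbK hbb).resolve_left fun e => by
        have := d.isConj_t_iff.1 hb
        simp [e] at this
      exact hk1 (by rw [ea, eb, d.t_sq])
    have has := ((d.mem_cases a).1 hat).resolve_left haK
    have hsa : s * a ∈ K := by
      have h1 : s * a = s * (a * s) * s := by simp [mul_assoc, d.s_sq]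
      rw [h1, d.inv' has]
      exact inv_mem has
    refine ⟨⟨s * a, hsa⟩, Subtype.ext (Prod.ext ?_ ?_)⟩
    · show s * (s * a) = a
      rw [← mul_assoc, d.s_sq, one_mul]
    · show s * (s * a) * (a * b) = b
      rw [← mul_assoc s s, d.s_sq, one_mul, ← mul_assoc, haa, one_mul]

/-- The order equation attached to a linear character. -/
theorem BSW.order_eq {μ : K →* ℂˣ} (hμ : μ ≠ 1) :
    (Nat.card G : ℂ) * (Nat.card K : ℂ) = (Nat.card {x : G // IsConj t x} : ℂ) ^ 2 *
      ∑ χ : Cfsg.IrrCharacter G, (coef K χ μ : ℂ) * (χ.1 t * χ.1 t / χ.1 1) := by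
  classical
  have : Fintype K := Fintype.ofFinite _
  set θ : K → ℂ := fun a => 1 - ((μ a : ℂˣ) : ℂ) with hθ
  have h := H38.sum_class_pair (phi K μ) (isClassFunction_phi μ) t t
  simp only [classInner_phi] at h
  rw [Nat.card_eq_fintype_card (α := {x : G // IsConj t x}), Fintype.card_subtype, sq, ← h]
  set I := Finset.univ.filter (IsConj t) with hI
  have hphi : ∀ z : G, phi K μ z = (Nat.card K : ℂ)⁻¹ *
      ∑ g : G, Cfsg.extendByZero K θ (g⁻¹ * z * g) := fun z => H25.indFun_apply _ _ z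
  simp only [hphi, ← Finset.mul_sum]
  have hswap : ∑ a ∈ I, ∑ b ∈ I, ∑ g : G, Cfsg.extendByZero K θ (g⁻¹ * (a * b) * g) =
      (Nat.card G : ℂ) * ∑ a ∈ I, ∑ b ∈ I, Cfsg.extendByZero K θ (a * b) := by
    rw [Finset.sum_congr rfl fun a _ => Finset.sum_comm, Finset.sum_comm]
    have hg : ∀ g : G, ∑ a ∈ I, ∑ b ∈ I, Cfsg.extendByZero K θ (g⁻¹ * (a * b) * g) =
        ∑ a ∈ I, ∑ b ∈ I, Cfsg.extendByZero K θ (a * b) := by
      intro g
      have hI' : ∀ a : G, a ∈ I ↔ (MulAut.conj g⁻¹).toEquiv a ∈ I := by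
        intro a
        simp only [hI, Finset.mem_filter, Finset.mem_univ, true_and]
        exact ⟨fun k => k.trans (isConj_iff.mpr ⟨g⁻¹, rfl⟩),
          fun k => k.trans (isConj_iff.mpr ⟨g⁻¹, rfl⟩).symm⟩
      refine Finset.sum_equiv (MulAut.conj g⁻¹).toEquiv hI' fun a _ => ?_
      refine Finset.sum_equiv (MulAut.conj g⁻¹).toEquiv hI' fun b _ => ?_
      congr 1
      simp [MulAut.conj_apply, mul_assoc]
    rw [Finset.sum_congr rfl fun g _ => hg g, Finset.sum_const, nsmul_eq_mul, Finset.card_univ,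
      ← Nat.card_eq_fintype_card]
  rw [hswap]
  have hcount : ∑ a ∈ I, ∑ b ∈ I, Cfsg.extendByZero K θ (a * b) =
      ∑ k : K, (d.inv2 k : ℂ) * θ k := by
    have hext : ∀ z : G, Cfsg.extendByZero K θ z = ∑ k : K, if z = k then θ k else 0 := by
      intro z
      by_cases hz : z ∈ K
      · rw [H25.extendByZero_of_mem _ _ hz,
          Finset.sum_eq_single ⟨z, hz⟩ (fun b _ hb => if_neg fun e => hb (Subtype.ext e.symm))
            (by simp), if_pos rfl]
      · rw [H25.extendByZero_of_notMem _ _ hz,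
          Finset.sum_eq_zero fun b _ => if_neg fun e => hz (by rw [e]; exact b.2)]
    simp only [hext]
    rw [Finset.sum_congr rfl fun a _ => Finset.sum_comm, Finset.sum_comm]
    refine Finset.sum_congr rfl fun k _ => ?_
    rw [← Finset.sum_product', ← Finset.sum_filter, Finset.sum_const, nsmul_eq_mul]
    congr 2
    rw [BSW.inv2, Nat.card_eq_fintype_card, Fintype.card_subtype]
    congr 1
    ext p
    simp [hI, and_assoc]
  rw [hcount]
  have hval : ∑ k : K, (d.inv2 k : ℂ) * θ k = (Nat.card K : ℂ) * ∑ k : K, θ k := by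
    rw [Finset.mul_sum]
    refine Finset.sum_congr rfl fun k _ => ?_
    by_cases hk : k = 1
    · subst hk; simp [hθ]
    · rw [d.inv2_K k.2 fun e => hk (Subtype.ext e)]
  rw [hval]
  have hsum : ∑ k : K, θ k = (Nat.card K : ℂ) := by
    simp [hθ, Finset.sum_sub_distrib, sum_linear_indicator, hμ, Nat.card_eq_fintype_card]
  rw [hsum]
  have hK : (Nat.card K : ℂ) ≠ 0 := Nat.cast_ne_zero.2 Nat.card_pos.ne'
  field_simp

/-- The sign of a linear character at `t`. -/
noncomputable def BSW.sgn (d : BSW t K s) (μ : K →* ℂˣ) : ℤ :=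
  open Classical in if μ ⟨t, d.t_mem⟩ = 1 then 1 else -1

theorem BSW.sgn_cast (μ : K →* ℂˣ) :
    ((d.sgn μ : ℤ) : ℂ) = ((μ ⟨t, d.t_mem⟩ : ℂˣ) : ℂ) := by
  have h : ((μ ⟨t, d.t_mem⟩ : ℂˣ) : ℂ) * ((μ ⟨t, d.t_mem⟩ : ℂˣ) : ℂ) = 1 := by
    rw [← Units.val_mul, ← map_mul, show (⟨t, d.t_mem⟩ : K) * ⟨t, d.t_mem⟩ = 1 from
      Subtype.ext d.t_sq, map_one, Units.val_one]
  unfold BSW.sgn
  split_ifs with hh
  · simp [hh]
  · rcases mul_self_eq_one_iff.1 h with e | e
    · exact absurd (Units.ext e) hh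
    · simp [e]

omit [Fintype G] in
theorem BSW.sgn_eq (μ : K →* ℂˣ) : d.sgn μ = 1 ∨ d.sgn μ = -1 := by
  unfold BSW.sgn
  split_ifs <;> simp

omit [Fintype G] in
theorem BSW.sgn_sq (μ : K →* ℂˣ) : d.sgn μ * d.sgn μ = 1 := by
  rcases d.sgn_eq μ with e | e <;> simp [e]

omit [Fintype G] in
theorem BSW.sgn_one : d.sgn 1 = 1 := by simp [BSW.sgn]

theorem BSW.sgn_inv (μ : K →* ℂˣ) : d.sgn μ⁻¹ = d.sgn μ := by
  have h : μ⁻¹ ⟨t, d.t_mem⟩ = μ ⟨t, d.t_mem⟩ := by
    rw [MonoidHom.inv_apply, ← map_inv]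
    exact congrArg μ (Subtype.ext (inv_eq_of_mul_eq_one_right d.t_sq))
  unfold BSW.sgn
  rw [h]

theorem BSW.sum_sgn : ∑ μ : K →* ℂˣ, d.sgn μ = 0 := by
  classical
  haveI := d.isMulCommutative
  have h : ((∑ μ : K →* ℂˣ, d.sgn μ : ℤ) : ℂ) = 0 := by
    push_cast
    simp only [d.sgn_cast]
    rw [H27.sum_linear_apply, if_neg fun e => d.t_ne_one (congrArg Subtype.val e)]
  exact_mod_cast h

/-- The values of `χ` at `t`. -/
theorem BSW.irr_apply_t (χ : Cfsg.IrrCharacter G) :
    χ.1 t = ((-∑ μ : K →* ℂˣ, coef K χ μ * d.sgn μ : ℤ) : ℂ) := by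
  rw [d.irr_apply_ne χ (k := ⟨t, d.t_mem⟩) fun e => d.t_ne_one (congrArg Subtype.val e)]
  push_cast
  simp only [d.sgn_cast]

/-- There is exactly one nontrivial linear character of order two. -/
theorem BSW.exists_eta : ∃ η : K →* ℂˣ, η ≠ 1 ∧ ∀ μ : K →* ℂˣ, μ⁻¹ = μ ↔ μ = 1 ∨ μ = η := by
  classical
  haveI := d.isMulCommutative
  letI : CommGroup K := { (inferInstance : Group K) with mul_comm := mul_comm' }
  haveI : NeZero (Monoid.exponent K) := ⟨Monoid.exponent_ne_zero_of_finite⟩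
  obtain ⟨e⟩ := CommGroup.monoidHom_mulEquiv_of_hasEnoughRootsOfUnity K ℂ
  set τ : K := ⟨t, d.t_mem⟩ with hτ
  have hτ1 : τ ≠ 1 := fun h => d.t_ne_one (congrArg Subtype.val h)
  have hτi : τ⁻¹ = τ := Subtype.ext (inv_eq_of_mul_eq_one_right d.t_sq)
  refine ⟨e.symm τ, fun h => hτ1 ?_, fun μ => ⟨fun h => ?_, ?_⟩⟩
  · simpa using congrArg e h
  · have h2 : e μ * e μ = 1 := by
      rw [← map_mul]
      nth_rewrite 1 [← h]
      rw [inv_mul_cancel, map_one]
    rcases d.sq_one (e μ : G) (e μ).2 (congrArg Subtype.val h2) with h3 | h3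
    · exact Or.inl (e.injective (by rw [map_one]; exact Subtype.ext h3))
    · exact Or.inr (e.injective (by rw [MulEquiv.apply_symm_apply]; exact Subtype.ext h3))
  · rintro (rfl | rfl)
    · exact MonoidHom.ext fun k => inv_one
    · have h2 : e.symm τ * e.symm τ = 1 := by
        apply e.injective
        simp only [map_mul, map_one, MulEquiv.apply_symm_apply]
        exact Subtype.ext d.t_sq
      exact MonoidHom.ext fun k => inv_eq_of_mul_eq_one_right (DFunLike.congr_fun h2 k)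

theorem BSW.card_dual : Fintype.card (K →* ℂˣ) = Nat.card K := by
  haveI := d.isMulCommutative
  rw [← Nat.card_eq_fintype_card, H27.card_linear]

end Cfsg.Agent.H77
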