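import Cfsg.Agent.H77.BSW.Char

/-!
# Coherence of the virtual characters of the Brauer–Suzuki–Wall setting
-/

set_option autoImplicit false

namespace Cfsg.Agent.H77

section Vectors

variable {α : Type*} [Fintype α] [DecidableEq α]

theorem sq_eq_one_of_sum {f : α → ℤ} (hf : ∑ x, f x * f x ≤ 3) {x : α} (hx : f x ≠ 0) :
    f x * f x = 1 := by
  have h := Finset.single_le_sum (f := fun x => f x * f x) (fun i _ => mul_self_nonneg (f i))
    (Finset.mem_univ x)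
  have h1 : -1 ≤ f x ∧ f x ≤ 1 := ⟨by nlinarith, by nlinarith⟩
  rcases (show f x = 1 ∨ f x = -1 by omega) with e | e <;> rw [e] <;> norm_num

/-- An integral vector of norm two. -/
theorem two_supp {f : α → ℤ} (hf : ∑ x, f x * f x = 2) {x : α} (hx : f x ≠ 0) :
    ∃ y, y ≠ x ∧ f y * f y = 1 ∧ ∀ z, z ≠ x → z ≠ y → f z = 0 := by
  have hxx := sq_eq_one_of_sum (hf.le.trans (by norm_num)) hx
  have h1 := Finset.add_sum_erase Finset.univ (fun x => f x * f x) (Finset.mem_univ x)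
  simp only [hxx, hf] at h1
  obtain ⟨y, hy, hy0⟩ : ∃ y ∈ Finset.univ.erase x, f y * f y ≠ 0 :=
    Finset.exists_ne_zero_of_sum_ne_zero (by omega)
  have hyy := sq_eq_one_of_sum (hf.le.trans (by norm_num)) (left_ne_zero_of_mul hy0)
  refine ⟨y, (Finset.mem_erase.1 hy).1, hyy, fun z hzx hzy => ?_⟩
  have h2 := Finset.add_sum_erase (Finset.univ.erase x) (fun x => f x * f x) hy
  simp only [hyy] at h2
  have h3 := Finset.single_le_sum (f := fun x => f x * f x) (fun i _ => mul_self_nonneg (f i))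
    (Finset.mem_erase.2 ⟨hzy, Finset.mem_erase.2 ⟨hzx, Finset.mem_univ z⟩⟩)
  have h4 : f z * f z = 0 := le_antisymm (by omega) (mul_self_nonneg _)
  exact mul_self_eq_zero.1 h4

/-- An integral vector of norm three. -/
theorem three_supp {f : α → ℤ} (hf : ∑ x, f x * f x = 3) {x : α} (hx : f x ≠ 0) :
    ∃ y z, y ≠ x ∧ z ≠ x ∧ y ≠ z ∧ f y * f y = 1 ∧ f z * f z = 1 ∧
      ∀ w, w ≠ x → w ≠ y → w ≠ z → f w = 0 := by
  have hxx := sq_eq_one_of_sum hf.le hx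
  have h1 := Finset.add_sum_erase Finset.univ (fun x => f x * f x) (Finset.mem_univ x)
  simp only [hxx, hf] at h1
  have h0 : ∑ w, (if w = x then 0 else f w) * (if w = x then 0 else f w) = 2 := by
    rw [← Finset.add_sum_erase _ _ (Finset.mem_univ x)]
    simp only [if_true, mul_zero, zero_add]
    rw [Finset.sum_congr rfl (fun w hw => by rw [if_neg (Finset.mem_erase.1 hw).1])]
    omega
  obtain ⟨y, -, hy⟩ : ∃ y ∈ Finset.univ, (if y = x then 0 else f y) * (if y = x then 0 else f y) ≠ 0 :=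
    Finset.exists_ne_zero_of_sum_ne_zero (by omega)
  obtain ⟨z, hzy, hz, hrest⟩ := two_supp h0 (left_ne_zero_of_mul hy)
  have hyx : y ≠ x := fun e => hy (by simp [e])
  have hzx : z ≠ x := fun e => by simp [e] at hz
  refine ⟨y, z, hyx, hzx, hzy.symm, ?_, by simpa [hzx] using hz, fun w h1 h2 h3 => by
    simpa [h1] using hrest w h2 h3⟩
  exact sq_eq_one_of_sum hf.le (by simpa [hyx] using left_ne_zero_of_mul hy)

theorem sum_two {β : Type*} [NonUnitalNonAssocSemiring β] {f g : α → β} {x y : α} (hxy : x ≠ y)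
    (h : ∀ z, z ≠ x → z ≠ y → f z = 0) : ∑ z, f z * g z = f x * g x + f y * g y := by
  rw [← Finset.sum_pair (f := fun z => f z * g z) hxy]
  refine (Finset.sum_subset (Finset.subset_univ _) fun z _ hz => ?_).symm
  simp only [Finset.mem_insert, Finset.mem_singleton, not_or] at hz
  rw [h z hz.1 hz.2, zero_mul]

theorem sum_three {β : Type*} [NonUnitalNonAssocSemiring β] {f g : α → β} {x y z : α} (hxy : x ≠ y)
    (hxz : x ≠ z) (hyz : y ≠ z) (h : ∀ w, w ≠ x → w ≠ y → w ≠ z → f w = 0) :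
    ∑ w, f w * g w = f x * g x + f y * g y + f z * g z := by
  have hs : ({x, y, z} : Finset α).sum (fun w => f w * g w) = f x * g x + f y * g y + f z * g z := by
    rw [Finset.sum_insert (by simp [hxy, hxz]), Finset.sum_pair hyz, add_assoc]
  rw [← hs]
  refine (Finset.sum_subset (Finset.subset_univ _) fun w _ hw => ?_).symm
  simp only [Finset.mem_insert, Finset.mem_singleton, not_or] at hw
  rw [h w hw.1 hw.2.1 hw.2.2, zero_mul]

/-- Two vectors of norm two with inner product one meeting at `x`. -/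
theorem pair_meet {f g : α → ℤ} (hf : ∑ x, f x * f x = 2) (hg : ∑ x, g x * g x = 2)
    (hfg : ∑ x, f x * g x = 1) {x : α} (hfx : f x ≠ 0) :
    (g x = f x ∧ ∀ y, y ≠ x → f y ≠ 0 → g y = 0) ∨ (g x = 0 ∧ ∀ y, y ≠ x → f y ≠ 0 → g y = f y) := by
  obtain ⟨y, hyx, hfy, hrest⟩ := two_supp hf hfx
  have hs := sum_two (g := g) hyx.symm hrest
  rw [hfg] at hs
  have hgx : g x = 0 ∨ g x * g x = 1 := (em (g x = 0)).imp_right (sq_eq_one_of_sum (hg.le.trans (by norm_num)))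
  have hgy : g y = 0 ∨ g y * g y = 1 := (em (g y = 0)).imp_right (sq_eq_one_of_sum (hg.le.trans (by norm_num)))
  have hfxx := sq_eq_one_of_sum (hf.le.trans (by norm_num)) hfx
  have e1 : f x = 1 ∨ f x = -1 := mul_self_eq_one_iff.1 hfxx
  have e2 : f y = 1 ∨ f y = -1 := mul_self_eq_one_iff.1 hfy
  have e3 : g x = 0 ∨ g x = 1 ∨ g x = -1 := hgx.imp_right mul_self_eq_one_iff.1
  have e4 : g y = 0 ∨ g y = 1 ∨ g y = -1 := hgy.imp_right mul_self_eq_one_iff.1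
  have key : ∀ z, z ≠ x → f z ≠ 0 → z = y := fun z hz hz' => by
    by_contra hzy
    exact hz' (hrest z hz hzy)
  rcases e1 with h1 | h1 <;> rcases e2 with h2 | h2 <;> rcases e3 with h3 | h3 | h3 <;>
    rcases e4 with h4 | h4 | h4 <;> rw [h1, h2, h3, h4] at hs <;>
    first
    | (norm_num at hs; done)
    | exact Or.inl ⟨h3.trans h1.symm, fun z hz hz' => (congrArg g (key z hz hz')).trans h4⟩
    | exact Or.inr ⟨h3, fun z hz hz' => (congrArg g (key z hz hz')).trans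
        (h4.trans (h2.symm.trans (congrArg f (key z hz hz')).symm))⟩

end Vectors

variable {G : Type*} [Group G] [Fintype G] {t s : G} {K : Subgroup G}

/-- The coefficient away from the principal character. -/
noncomputable def coef' (K : Subgroup G) (μ : K →* ℂˣ) (χ : Cfsg.IrrCharacter G) : ℤ :=
  open Classical in if χ = H26.oneIrr G then 0 else coef K χ μ

theorem coef'_of_ne {μ : K →* ℂˣ} {χ : Cfsg.IrrCharacter G} (h : χ ≠ H26.oneIrr G) :
    coef' K μ χ = coef K χ μ := if_neg h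

theorem ne_oneIrr_of_coef' {μ : K →* ℂˣ} {χ : Cfsg.IrrCharacter G} (h : coef' K μ χ ≠ 0) :
    χ ≠ H26.oneIrr G := fun e => h (if_pos e)

/-- The degree as an integer. -/
noncomputable def ideg (χ : Cfsg.IrrCharacter G) : ℤ :=
  (H26.exists_nat_char_one (H26.irr_isCharacter χ)).choose

theorem ideg_cast (χ : Cfsg.IrrCharacter G) : (ideg χ : ℂ) = χ.1 1 := by
  rw [(H26.exists_nat_char_one (H26.irr_isCharacter χ)).choose_spec, ideg, Int.cast_natCast]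

theorem ideg_ne_zero (χ : Cfsg.IrrCharacter G) : ideg χ ≠ 0 := fun h =>
  H26.irr_one_ne_zero χ (by rw [← ideg_cast, h, Int.cast_zero])

theorem hom_inv_inv {C : Type*} [Group C] (μ : C →* ℂˣ) : μ⁻¹⁻¹ = μ :=
  MonoidHom.ext fun _ => inv_inv _

variable (d : BSW t K s) (η : K →* ℂˣ)
include d

/-- The coherence data. -/
structure BSW.Coh (_d : BSW t K s) (η : K →* ℂˣ) where
  a : Cfsg.IrrCharacter G
  σ : ℤ
  σ_sq : σ * σ = 1
  a_ne : a ≠ H26.oneIrr G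
  ha : ∀ μ, μ ≠ 1 → coef K a μ = σ
  b : (K →* ℂˣ) → Cfsg.IrrCharacter G
  b_ne_one : ∀ μ, μ ≠ 1 → μ ≠ η → b μ ≠ H26.oneIrr G
  b_ne_a : ∀ μ, μ ≠ 1 → μ ≠ η → b μ ≠ a
  hb : ∀ μ, μ ≠ 1 → μ ≠ η → coef K (b μ) μ * coef K (b μ) μ = 1
  hb_supp : ∀ μ, μ ≠ 1 → μ ≠ η → ∀ χ, χ ≠ H26.oneIrr G → χ ≠ a → χ ≠ b μ → coef K χ μ = 0
  hb_inj : ∀ μ ν, μ ≠ 1 → μ ≠ η → ν ≠ 1 → ν ≠ η → b μ = b ν → ν = μ ∨ ν = μ⁻¹
  hb_eta : ∀ μ, μ ≠ 1 → μ ≠ η → coef K (b μ) η = 0
  y₁ : Cfsg.IrrCharacter G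
  y₂ : Cfsg.IrrCharacter G
  y_ne : y₁ ≠ y₂
  y₁_ne_one : y₁ ≠ H26.oneIrr G
  y₂_ne_one : y₂ ≠ H26.oneIrr G
  y₁_ne_a : y₁ ≠ a
  y₂_ne_a : y₂ ≠ a
  hy₁ : coef K y₁ η * coef K y₁ η = 1
  hy₂ : coef K y₂ η * coef K y₂ η = 1
  hy_supp : ∀ χ, χ ≠ H26.oneIrr G → χ ≠ a → χ ≠ y₁ → χ ≠ y₂ → coef K χ η = 0

theorem BSW.sum_coef' {μ : K →* ℂˣ} (hμ : μ ≠ 1) :
    ∑ χ : Cfsg.IrrCharacter G, coef' K μ χ * ideg χ = -1 := by
  classical
  have h : ((∑ χ : Cfsg.IrrCharacter G, coef K χ μ * ideg χ : ℤ) : ℂ) = 0 := by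
    push_cast
    simp only [ideg_cast, sum_coef_degree]
  rw [Int.cast_eq_zero] at h
  have hone : ideg (H26.oneIrr G) = 1 := by
    have := ideg_cast (H26.oneIrr G)
    rw [H26.oneIrr_val] at this
    exact_mod_cast this
  have e : ∀ χ, coef' K μ χ * ideg χ =
      coef K χ μ * ideg χ - if χ = H26.oneIrr G then 1 else 0 := by
    intro χ
    by_cases hχ : χ = H26.oneIrr G
    · subst hχ; simp [coef', coef_oneIrr hμ, hone]
    · simp [coef'_of_ne hχ, hχ]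
  simp only [e, Finset.sum_sub_distrib, h, Finset.sum_ite_eq', Finset.mem_univ, if_true]
  norm_num

open Classical in
theorem BSW.sum_coef'_mul {μ ν : K →* ℂˣ} (hμ : μ ≠ 1) (hν : ν ≠ 1) :
    ∑ χ : Cfsg.IrrCharacter G, coef' K μ χ * coef' K ν χ =
      1 + (if μ = ν then 1 else 0) + (if μ * ν = 1 then 1 else 0) := by
  have h := d.sum_coef_mul hμ hν
  have e : ∀ χ, coef' K μ χ * coef' K ν χ =
      coef K χ μ * coef K χ ν - if χ = H26.oneIrr G then 1 else 0 := by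
    intro χ
    by_cases hχ : χ = H26.oneIrr G
    · subst hχ; simp [coef', coef_oneIrr hμ, coef_oneIrr hν]
    · simp [coef'_of_ne hχ, hχ]
  simp only [e, Finset.sum_sub_distrib, h, Finset.sum_ite_eq', Finset.mem_univ, if_true]
  ring

/-- There is a constituent common to all the functions, with a constant sign. -/
theorem BSW.exists_common (hη1 : η ≠ 1) (hη : ∀ μ : K →* ℂˣ, μ⁻¹ = μ ↔ μ = 1 ∨ μ = η)
    (h4 : 2 < Nat.card K) :
    ∃ a σ, σ ≠ 0 ∧ ∀ μ : K →* ℂˣ, μ ≠ 1 → coef' K μ a = σ := by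
  classical
  set w := coef' K (G := G) with hw
  have hinv1 : ∀ {μ : K →* ℂˣ}, μ ≠ 1 → μ⁻¹ ≠ 1 := fun {μ} h e =>
    h (MonoidHom.ext fun k => inv_eq_one.1 (DFunLike.congr_fun e k))
  have hmul : ∀ μ ν : K →* ℂˣ, μ * ν = 1 ↔ ν = μ⁻¹ := fun μ ν =>
    ⟨fun h => MonoidHom.ext fun k => (inv_eq_of_mul_eq_one_right (DFunLike.congr_fun h k)).symm,
      fun h => MonoidHom.ext fun k => by rw [h]; exact mul_inv_cancel _⟩
  have hn2 : ∀ μ : K →* ℂˣ, μ ≠ 1 → μ ≠ η → ∑ χ, w μ χ * w μ χ = 2 := by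
    intro μ h1 h2
    rw [d.sum_coef'_mul h1 h1, if_pos rfl, if_neg]
    · norm_num
    · rw [hmul]
      exact fun e => ((hη μ).1 e.symm).elim h1 h2
  have hn3 : ∑ χ, w η χ * w η χ = 3 := by
    rw [d.sum_coef'_mul hη1 hη1, if_pos rfl, if_pos ((hmul η η).2 ((hη η).2 (Or.inr rfl)).symm)]
    norm_num
  have hip : ∀ μ ν : K →* ℂˣ, μ ≠ 1 → ν ≠ 1 → ν ≠ μ → ν ≠ μ⁻¹ → ∑ χ, w μ χ * w ν χ = 1 := by
    intro μ ν h1 h1' h2 h3
    rw [d.sum_coef'_mul h1 h1', if_neg (Ne.symm h2), if_neg (fun e => h3 ((hmul μ ν).1 e))]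
    norm_num
  have hie : ∀ μ : K →* ℂˣ, μ ≠ 1 → μ ≠ η → ∑ χ, w μ χ * w η χ = 1 := by
    intro μ h1 h2
    refine hip μ η h1 hη1 (Ne.symm h2) fun e => ?_
    have h5 := (hη η).2 (Or.inr rfl)
    rw [e, hom_inv_inv] at h5
    exact h2 (h5.trans e.symm)
  have hwinv : ∀ μ χ, w μ⁻¹ χ = w μ χ := fun μ χ => by simp [hw, coef', d.coef_inv]
  obtain ⟨μ, hμ⟩ : ∃ μ : K →* ℂˣ, μ ∉ ({1, η} : Finset (K →* ℂˣ)) := by
    by_contra h
    push_neg at h
    have h2 := (Finset.card_le_card (s := Finset.univ) (fun x _ => h x)).trans Finset.card_le_two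
    rw [Finset.card_univ, d.card_dual] at h2
    omega
  simp only [Finset.mem_insert, Finset.mem_singleton, not_or] at hμ
  obtain ⟨hμ1, hμη⟩ := hμ
  obtain ⟨p, -, hp⟩ : ∃ p ∈ Finset.univ, w μ p * w μ p ≠ 0 :=
    Finset.exists_ne_zero_of_sum_ne_zero (by rw [hn2 μ hμ1 hμη]; norm_num)
  obtain ⟨q, hqp, hq, hrest⟩ := two_supp (hn2 μ hμ1 hμη) (left_ne_zero_of_mul hp)
  have hp0 := left_ne_zero_of_mul hp
  have hq0 : w μ q ≠ 0 := left_ne_zero_of_mul (hq ▸ one_ne_zero)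
  -- the constituent shared with `η`
  obtain ⟨a, c, hca, ha0, hc0, hηa, hηc, hrest⟩ : ∃ a c, c ≠ a ∧ w μ a ≠ 0 ∧ w μ c ≠ 0 ∧
      w η a = w μ a ∧ w η c = 0 ∧ ∀ z, z ≠ a → z ≠ c → w μ z = 0 := by
    have hs := sum_two (g := w η) hqp.symm hrest
    rw [hie μ hμ1 hμη] at hs
    have e1 := mul_self_eq_one_iff.1 (sq_eq_one_of_sum (hn2 μ hμ1 hμη |>.le.trans (by norm_num)) hp0)
    have e2 := mul_self_eq_one_iff.1 hq
    have e3 : ∀ x, w η x = 0 ∨ w η x = 1 ∨ w η x = -1 := fun x =>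
      (em (w η x = 0)).imp_right fun h => mul_self_eq_one_iff.1 (sq_eq_one_of_sum hn3.le h)
    rcases e1 with h1 | h1 <;> rcases e2 with h2 | h2 <;> rcases e3 p with h3 | h3 | h3 <;>
      rcases e3 q with h4 | h4 | h4 <;> rw [h1, h2, h3, h4] at hs <;>
      first
      | (norm_num at hs; done)
      | exact ⟨p, q, hqp, hp0, hq0, h3.trans h1.symm, h4, hrest⟩
      | exact ⟨q, p, hqp.symm, hq0, hp0, h4.trans h2.symm, h3, fun z h h' => hrest z h' h⟩
  by_cases hall : ∀ ν : K →* ℂˣ, ν ≠ 1 → ν ≠ η → w ν a = w μ a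
  · refine ⟨a, w μ a, ha0, fun ν hν => ?_⟩
    by_cases hνη : ν = η
    · rw [hνη]; exact hηa
    · exact hall ν hν hνη
  exfalso
  push_neg at hall
  obtain ⟨ν, hν1, hνη, hνa⟩ := hall
  have hνμ : ν ≠ μ ∧ ν ≠ μ⁻¹ := ⟨fun e => hνa (by rw [e]), fun e => hνa (by rw [e, hwinv])⟩
  obtain ⟨hνa0, hνc⟩ := (pair_meet (hn2 μ hμ1 hμη) (hn2 ν hν1 hνη)
    (hip μ ν hμ1 hν1 hνμ.1 hνμ.2) ha0).resolve_left fun h => hνa h.1
  have hνc' : w ν c = w μ c := hνc c hca hc0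
  obtain ⟨e, hec, he, hνrest⟩ := two_supp (hn2 ν hν1 hνη) (hνc' ▸ hc0)
  have he0 : w ν e ≠ 0 := left_ne_zero_of_mul (he ▸ one_ne_zero)
  have hea : e ≠ a := fun h => he0 (h ▸ hνa0)
  have hηe : w η e = w ν e := by
    have hs := sum_two (g := w η) hec.symm hνrest
    rw [hie ν hν1 hνη, hηc, mul_zero, zero_add] at hs
    calc w η e = (w ν e * w ν e) * w η e := by rw [he, one_mul]
      _ = w ν e * (w ν e * w η e) := by ring
      _ = w ν e := by rw [← hs, mul_one]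
  -- signed degrees
  have dμ : w μ a * ideg a + w μ c * ideg c = -1 := by
    rw [← d.sum_coef' hμ1]; exact (sum_two (g := ideg) hca.symm hrest).symm
  have dν : w μ c * ideg c + w ν e * ideg e = -1 := by
    rw [← hνc', ← d.sum_coef' hν1]; exact (sum_two (g := ideg) hec.symm hνrest).symm
  by_cases h3 : ∃ ρ : K →* ℂˣ, ρ ≠ 1 ∧ ρ ≠ η ∧ ρ ≠ μ ∧ ρ ≠ μ⁻¹ ∧ ρ ≠ ν ∧ ρ ≠ ν⁻¹
  · obtain ⟨ρ, hρ1, hρη, hρμ, hρμ', hρν, hρν'⟩ := h3
    rcases pair_meet (hn2 μ hμ1 hμη) (hn2 ρ hρ1 hρη) (hip μ ρ hμ1 hρ1 hρμ hρμ') hc0 with ⟨hρc, hρa⟩ | ⟨hρc, hρa⟩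
    · -- `ρ` contains `c`
      obtain ⟨f, hfc, hf, hρrest⟩ := two_supp (hn2 ρ hρ1 hρη) (hρc ▸ hc0)
      have hf0 : w ρ f ≠ 0 := left_ne_zero_of_mul (hf ▸ one_ne_zero)
      have hfa : f ≠ a := fun h => hf0 (h ▸ hρa a hca.symm ha0)
      have hfe : f ≠ e := by
        rcases pair_meet (hn2 ν hν1 hνη) (hn2 ρ hρ1 hρη) (hip ν ρ hν1 hρ1 hρν hρν') (hνc' ▸ hc0) with
          ⟨-, h⟩ | ⟨h, -⟩
        · exact fun hh => hf0 (hh ▸ h e hec he0)
        · exact absurd (h ▸ hρc).symm hc0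
      have hηf : w η f = w ρ f := by
        have hs := sum_two (g := w η) hfc.symm hρrest
        rw [hie ρ hρ1 hρη, hηc, mul_zero, zero_add] at hs
        calc w η f = (w ρ f * w ρ f) * w η f := by rw [hf, one_mul]
          _ = w ρ f * (w ρ f * w η f) := by ring
          _ = w ρ f := by rw [← hs, mul_one]
      have dρ : w μ c * ideg c + w ρ f * ideg f = -1 := by
        rw [← hρc, ← d.sum_coef' hρ1]; exact (sum_two (g := ideg) hfc.symm hρrest).symm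
      obtain ⟨y, z, hya, hza, hyz, -, -, hηrest⟩ := three_supp hn3 (hηa ▸ ha0)
      have hem : e = y ∨ e = z := by
        by_contra h; push_neg at h
        exact he0 (hηe ▸ hηrest e hea h.1 h.2)
      have hfm : f = y ∨ f = z := by
        by_contra h; push_neg at h
        exact hf0 (hηf ▸ hηrest f hfa h.1 h.2)
      have hrest' : ∀ x, x ≠ a → x ≠ e → x ≠ f → w η x = 0 := by
        intro x h1 h2 h4
        rcases hem with rfl | rfl <;> rcases hfm with rfl | rfl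
        · exact absurd rfl hfe
        · exact hηrest x h1 h2 h4
        · exact hηrest x h1 h4 h2
        · exact absurd rfl hfe
      have dη := (sum_three (g := ideg) hea.symm hfa.symm hfe.symm hrest').symm.trans (d.sum_coef' hη1)
      rw [hηa, hηe, hηf] at dη
      omega
    · -- a triangle
      have hρa' : w ρ a = w μ a := hρa a hca.symm ha0
      have hρe : w ρ e = w ν e := by
        rcases pair_meet (hn2 ν hν1 hνη) (hn2 ρ hρ1 hρη) (hip ν ρ hν1 hρ1 hρν hρν') (hνc' ▸ hc0) with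
          ⟨h, -⟩ | ⟨-, h⟩
        · exact absurd (h ▸ hρc) (hνc' ▸ hc0)
        · exact h e hec he0
      obtain ⟨f, hfa, -, hρrest⟩ := two_supp (hn2 ρ hρ1 hρη) (hρa' ▸ ha0)
      obtain rfl : e = f := by
        by_contra h
        exact he0 (hρe ▸ hρrest e hea h)
      have dρ := (sum_two (g := ideg) hea.symm hρrest).symm.trans (d.sum_coef' hρ1)
      rw [hρa', hρe] at dρ
      omega
  · -- exactly two pairs
    push_neg at h3
    set m₀ := d.sgn μ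
    set m₁ := d.sgn ν
    set ε := d.sgn η
    have hμi : μ⁻¹ ≠ μ := fun h => ((hη μ).1 h).elim hμ1 hμη
    have hνi : ν⁻¹ ≠ ν := fun h => ((hη ν).1 h).elim hν1 hνη
    have hηi : η⁻¹ = η := (hη η).2 (Or.inr rfl)
    have hη' : ∀ {ρ : K →* ℂˣ}, ρ ≠ η → ρ⁻¹ ≠ η := fun {ρ} h e' => h (by
      have := congrArg Inv.inv e'
      rwa [hom_inv_inv, hηi] at this)
    have huniv : (Finset.univ : Finset (K →* ℂˣ)) = {1, η, μ, μ⁻¹, ν, ν⁻¹} := by
      ext ρ
      simp only [Finset.mem_univ, Finset.mem_insert, Finset.mem_singleton, true_iff]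
      by_contra h
      simp only [not_or] at h
      exact h.2.2.2.2.2 (h3 ρ h.1 h.2.1 h.2.2.1 h.2.2.2.1 h.2.2.2.2.1)
    have hν' : ν⁻¹ ≠ μ := fun h => hνμ.2 (by rw [← h, hom_inv_inv])
    have hν'' : ν⁻¹ ≠ μ⁻¹ := fun h => hνμ.1 (inv_injective h)
    have hsum : ∀ F : (K →* ℂˣ) → ℤ, (∀ ρ, F ρ⁻¹ = F ρ) →
        ∑ ρ, F ρ = F 1 + F η + 2 * F μ + 2 * F ν := by
      intro F hF
      rw [huniv, Finset.sum_insert (by simp [hη1.symm, Ne.symm hμ1, (hinv1 hμ1).symm, Ne.symm hν1,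
        (hinv1 hν1).symm]), Finset.sum_insert (by simp [Ne.symm hμη, (hη' hμη).symm, Ne.symm hνη,
        (hη' hνη).symm]), Finset.sum_insert (by simp [hμi.symm, hνμ.1.symm, hν'.symm]),
        Finset.sum_insert (by simp [hνμ.2.symm, hν''.symm]), Finset.sum_pair hνi.symm, hF μ, hF ν]
      ring
    have h0 : 1 + ε + 2 * m₀ + 2 * m₁ = 0 := by
      have := d.sum_sgn
      rwa [hsum _ d.sgn_inv, d.sgn_one] at this
    have hval : ∀ χ : Cfsg.IrrCharacter G, χ ≠ H26.oneIrr G →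
        χ.1 t = ((-(w η χ * ε + 2 * (w μ χ * m₀) + 2 * (w ν χ * m₁)) : ℤ) : ℂ) := by
      intro χ hχ
      rw [d.irr_apply_t χ, hsum _ (fun ρ => by rw [d.coef_inv, d.sgn_inv])]
      simp only [coef_one, zero_mul, zero_add, hw, coef'_of_ne hχ]
      rfl
    have ha1 := ne_oneIrr_of_coef' (μ := μ) ha0
    have he1 := ne_oneIrr_of_coef' (μ := ν) he0
    have hμe : w μ e = 0 := hrest e hea hec
    have hνa' : w ν a = 0 := hνa0
    set u := a.1 t * a.1 t with hu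
    set v := e.1 t * e.1 t with hv
    have hua : u = (((-(w μ a * (ε + 2 * m₀))) * (-(w μ a * (ε + 2 * m₀))) : ℤ) : ℂ) := by
      rw [hu, hval a ha1, hηa, hνa']; push_cast; ring
    have hve : v = (((-(w ν e * (ε + 2 * m₁))) * (-(w ν e * (ε + 2 * m₁))) : ℤ) : ℂ) := by
      rw [hv, hval e he1, hηe, hμe]; push_cast; ring
    have hord : ∀ ρ : K →* ℂˣ, ρ ≠ 1 → (Nat.card G : ℂ) * (Nat.card K : ℂ) =
        (Nat.card {x : G // IsConj t x} : ℂ) ^ 2 *
          (1 + ∑ χ, (w ρ χ : ℂ) * (χ.1 t * χ.1 t / χ.1 1)) := by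
      intro ρ hρ
      rw [d.order_eq hρ]
      congr 1
      have : ∀ χ, (coef K χ ρ : ℂ) * (χ.1 t * χ.1 t / χ.1 1) =
          (if χ = H26.oneIrr G then 1 else 0) + (w ρ χ : ℂ) * (χ.1 t * χ.1 t / χ.1 1) := by
        intro χ
        by_cases hχ : χ = H26.oneIrr G
        · subst hχ; simp [hw, coef', coef_oneIrr hρ, H26.oneIrr_val]
        · simp [hw, coef'_of_ne hχ, hχ]
      simp only [this, Finset.sum_add_distrib, Finset.sum_ite_eq', Finset.mem_univ, if_true]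
    have hN : (Nat.card {x : G // IsConj t x} : ℂ) ^ 2 ≠ 0 := by
      haveI : Nonempty {x : G // IsConj t x} := ⟨⟨t, IsConj.refl t⟩⟩
      exact pow_ne_zero _ (Nat.cast_ne_zero.2 Nat.card_pos.ne')
    have heq := add_left_cancel (mul_left_cancel₀ hN ((hord μ hμ1).symm.trans (hord ν hν1)))
    rw [sum_two (f := fun χ => (w μ χ : ℂ)) hca.symm (fun z h h' => by simp [hrest z h h']),
      sum_two (f := fun χ => (w ν χ : ℂ)) hec.symm (fun z h h' => by simp [hνrest z h h']),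
      hνc', add_comm] at heq
    have heq' : (w μ a : ℂ) * (u / a.1 1) = (w ν e : ℂ) * (v / e.1 1) := add_left_cancel heq
    have hS : (w μ a : ℂ) * a.1 1 = (w ν e : ℂ) * e.1 1 := by
      rw [← ideg_cast, ← ideg_cast]
      exact_mod_cast (show w μ a * ideg a = w ν e * ideg e by omega)
    have hSne : (w μ a : ℂ) * a.1 1 ≠ 0 :=
      mul_ne_zero (Int.cast_ne_zero.2 ha0) (H26.irr_one_ne_zero a)
    have hsa : (w μ a : ℂ) * (w μ a : ℂ) = 1 := by
      exact_mod_cast sq_eq_one_of_sum ((hn2 μ hμ1 hμη).le.trans (by norm_num)) ha0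
    have hse : (w ν e : ℂ) * (w ν e : ℂ) = 1 := by exact_mod_cast he
    have key : ∀ (r x u : ℂ), r * r = 1 → r * (u / x) = u / (r * x) := by
      intro r x u hr
      rw [div_mul_eq_div_div, mul_div_assoc', eq_comm, show u / r = r * u by
        field_simp [left_ne_zero_of_mul (hr ▸ one_ne_zero)]
        linear_combination (-u) * hr]
    rw [key _ _ u hsa, key _ _ v hse, ← hS] at heq'
    have huv : u = v := (div_left_inj' hSne).1 heq'
    rw [hua, hve] at huv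
    have huv' := Int.cast_injective huv
    have e1 : w μ a * w μ a = 1 := by exact_mod_cast hsa
    have hsq : (ε + 2 * m₀) * (ε + 2 * m₀) = (ε + 2 * m₁) * (ε + 2 * m₁) := by
      linear_combination huv' - (ε + 2 * m₀) * (ε + 2 * m₀) * e1 + (ε + 2 * m₁) * (ε + 2 * m₁) * he
    rcases d.sgn_eq η with h | h <;> rcases d.sgn_eq μ with h' | h' <;>
      rcases d.sgn_eq ν with h'' | h'' <;> simp only [ε, m₀, m₁, h, h', h''] at h0 hsq <;> omega

/-- Coherence. -/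
theorem BSW.exists_coh (hη1 : η ≠ 1) (hη : ∀ μ : K →* ℂˣ, μ⁻¹ = μ ↔ μ = 1 ∨ μ = η)
    (h4 : 2 < Nat.card K) : Nonempty (d.Coh η) := by
  classical
  obtain ⟨a, σ, hσ, ha⟩ := d.exists_common η hη1 hη h4
  have ha1 : a ≠ H26.oneIrr G := ne_oneIrr_of_coef' (μ := η) ((ha η hη1).symm ▸ hσ)
  have hmul : ∀ μ ν : K →* ℂˣ, μ * ν = 1 ↔ ν = μ⁻¹ := fun μ ν =>
    ⟨fun h => MonoidHom.ext fun k => (inv_eq_of_mul_eq_one_right (DFunLike.congr_fun h k)).symm,
      fun h => MonoidHom.ext fun k => by rw [h]; exact mul_inv_cancel _⟩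
  have hn2 : ∀ μ : K →* ℂˣ, μ ≠ 1 → μ ≠ η → ∑ χ, coef' K μ χ * coef' K μ χ = 2 := by
    intro μ h1 h2
    rw [d.sum_coef'_mul h1 h1, if_pos rfl, if_neg]
    · norm_num
    · rw [hmul]
      exact fun e => ((hη μ).1 e.symm).elim h1 h2
  have hn3 : ∑ χ, coef' K η χ * coef' K η χ = 3 := by
    rw [d.sum_coef'_mul hη1 hη1, if_pos rfl, if_pos ((hmul η η).2 ((hη η).2 (Or.inr rfl)).symm)]
    norm_num
  have hσσ : σ * σ = 1 := ha η hη1 ▸ sq_eq_one_of_sum hn3.le ((ha η hη1).symm ▸ hσ)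
  have hb : ∀ μ : K →* ℂˣ, ∃ b, μ ≠ 1 → μ ≠ η → b ≠ a ∧ coef' K μ b * coef' K μ b = 1 ∧
      ∀ z, z ≠ a → z ≠ b → coef' K μ z = 0 := by
    intro μ
    by_cases h : μ ≠ 1 ∧ μ ≠ η
    · obtain ⟨b, hb⟩ := two_supp (hn2 μ h.1 h.2) ((ha μ h.1).symm ▸ hσ)
      exact ⟨b, fun _ _ => hb⟩
    · exact ⟨a, fun h1 h2 => absurd ⟨h1, h2⟩ h⟩
  choose b hb using hb
  have hb1 : ∀ μ, μ ≠ 1 → μ ≠ η → b μ ≠ H26.oneIrr G := fun μ h h' =>
    ne_oneIrr_of_coef' (μ := μ) (left_ne_zero_of_mul ((hb μ h h').2.1 ▸ one_ne_zero))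
  obtain ⟨y₁, y₂, hy1a, hy2a, hyy, hy1, hy2, hyrest⟩ := three_supp hn3 ((ha η hη1).symm ▸ hσ)
  have hy11 := ne_oneIrr_of_coef' (μ := η) (left_ne_zero_of_mul (hy1 ▸ one_ne_zero))
  have hy21 := ne_oneIrr_of_coef' (μ := η) (left_ne_zero_of_mul (hy2 ▸ one_ne_zero))
  refine ⟨{
    a := a, σ := σ, σ_sq := hσσ, a_ne := ha1
    ha := fun μ hμ => by rw [← coef'_of_ne ha1, ha μ hμ]
    b := b, b_ne_one := hb1, b_ne_a := fun μ h h' => (hb μ h h').1
    hb := fun μ h h' => by rw [← coef'_of_ne (hb1 μ h h')]; exact (hb μ h h').2.1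
    hb_supp := fun μ h h' χ hχ hχa hχb => by rw [← coef'_of_ne hχ]; exact (hb μ h h').2.2 χ hχa hχb
    hb_inj := ?_
    hb_eta := ?_
    y₁ := y₁, y₂ := y₂, y_ne := hyy, y₁_ne_one := hy11, y₂_ne_one := hy21
    y₁_ne_a := hy1a, y₂_ne_a := hy2a
    hy₁ := by rw [← coef'_of_ne hy11]; exact hy1
    hy₂ := by rw [← coef'_of_ne hy21]; exact hy2
    hy_supp := fun χ hχ hχa h1 h2 => by rw [← coef'_of_ne hχ]; exact hyrest χ hχa h1 h2 }⟩
  · intro μ ν h1 h1' h2 h2' hbb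
    by_contra hne
    rw [not_or] at hne
    have hip : ∑ χ, coef' K μ χ * coef' K ν χ = 1 := by
      rw [d.sum_coef'_mul h1 h2, if_neg (Ne.symm hne.1), if_neg (fun e => hne.2 ((hmul μ ν).1 e))]
      norm_num
    rcases pair_meet (hn2 μ h1 h1') (hn2 ν h2 h2') hip ((ha μ h1).symm ▸ hσ) with ⟨-, h⟩ | ⟨h, -⟩
    · have h5 := h (b μ) (hb μ h1 h1').1 (left_ne_zero_of_mul ((hb μ h1 h1').2.1 ▸ one_ne_zero))
      rw [hbb] at h5
      exact one_ne_zero ((hb ν h2 h2').2.1.symm.trans (by rw [h5, mul_zero]))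
    · exact hσ (ha ν h2 ▸ h)
  · intro μ h1 h1'
    have hip : ∑ χ, coef' K μ χ * coef' K η χ = 1 := by
      rw [d.sum_coef'_mul h1 hη1, if_neg h1', if_neg]
      · norm_num
      · rw [hmul]
        intro e
        have h5 := (hη η).2 (Or.inr rfl)
        rw [e, hom_inv_inv] at h5
        exact h1' (h5.trans e.symm)
    rw [sum_two (g := coef' K η) (hb μ h1 h1').1.symm (hb μ h1 h1').2.2, ha μ h1, ha η hη1, hσσ,
      add_eq_left, coef'_of_ne (hb1 μ h1 h1'), coef'_of_ne (hb1 μ h1 h1'), mul_eq_zero] at hip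
    refine hip.resolve_left ?_
    rw [← coef'_of_ne (hb1 μ h1 h1')]
    exact left_ne_zero_of_mul ((hb μ h1 h1').2.1 ▸ one_ne_zero)

end Cfsg.Agent.H77
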