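import Cfsg.Agent.H77.BSW.Basic
import Cfsg.Agent.H28.Counting

/-!
# Group theory of the Brauer–Suzuki–Wall setting

Elements with no conjugate in `K`, the elements inverting them, and their centralizers.
-/

set_option autoImplicit false

namespace Cfsg.Agent.H77

open Subgroup

variable {G : Type*} [Group G]

/-- `x` has a conjugate in `K`. -/
def ConjInto (K : Subgroup G) (x : G) : Prop := ∃ g : G, g * x * g⁻¹ ∈ K

theorem ConjInto.conj {K : Subgroup G} {x : G} (h : ConjInto K x) (g : G) :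
    ConjInto K (g * x * g⁻¹) := by
  obtain ⟨a, ha⟩ := h
  exact ⟨a * g⁻¹, by simpa [mul_assoc] using ha⟩

theorem conjInto_conj_iff {K : Subgroup G} {x : G} (g : G) :
    ConjInto K (g * x * g⁻¹) ↔ ConjInto K x :=
  ⟨fun h => by simpa [mul_assoc] using h.conj g⁻¹, fun h => h.conj g⟩

theorem conjInto_of_mem {K : Subgroup G} {x : G} (h : x ∈ K) : ConjInto K x :=
  ⟨1, by simpa using h⟩

theorem ne_one_of_not_conjInto {K : Subgroup G} {x : G} (h : ¬ConjInto K x) : x ≠ 1 := fun e =>
  h (conjInto_of_mem (e ▸ one_mem K))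

/-- Elements conjugate into a subgroup `A` whose fusion is controlled by `M`. -/
theorem card_conjInto [Finite G] (A M : Subgroup G)
    (hfus : ∀ g : G, ∀ h ∈ A, h ≠ 1 → g * h * g⁻¹ ∈ A → g ∈ M)
    (hnorm : ∀ g ∈ M, ∀ h ∈ A, g * h * g⁻¹ ∈ A) :
    Nat.card {y : G // y ≠ 1 ∧ ConjInto A y} = M.index * (Nat.card A - 1) := by
  classical
  have : Fintype A := Fintype.ofFinite _
  have hc : Nat.card {h : A // h ≠ 1} = Nat.card A - 1 := by
    rw [Nat.card_eq_fintype_card, Fintype.card_subtype_compl, Fintype.card_subtype_eq,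
      Nat.card_eq_fintype_card]
  rw [← hc, Subgroup.index_eq_card, ← Nat.card_prod]
  symm
  refine Nat.card_congr (Equiv.ofBijective (fun p =>
    ⟨p.1.out * (p.2.1 : G) * p.1.out⁻¹, fun h => p.2.2 (Subtype.ext (by simpa using conj_eq_one_iff.1 h)),
      ⟨p.1.out⁻¹, by simp [mul_assoc]⟩⟩) ⟨?_, ?_⟩)
  · rintro ⟨x, h⟩ ⟨x', h'⟩ e
    have e' : x.out * (h.1 : G) * x.out⁻¹ = x'.out * (h'.1 : G) * x'.out⁻¹ := congrArg Subtype.val e
    have e2 : (x'.out⁻¹ * x.out) * (h.1 : G) * (x'.out⁻¹ * x.out)⁻¹ = h'.1 := by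
      calc _ = x'.out⁻¹ * (x.out * (h.1 : G) * x.out⁻¹) * x'.out := by group
        _ = _ := by rw [e']; group
    have hx : x'.out⁻¹ * x.out ∈ M :=
      hfus _ _ h.1.2 (fun h1 => h.2 (Subtype.ext h1)) (e2.symm ▸ h'.1.2)
    have hxx : x' = x := by
      rw [← QuotientGroup.out_eq' x', ← QuotientGroup.out_eq' x, QuotientGroup.eq]; exact hx
    subst hxx
    simp only [inv_mul_cancel, one_mul, inv_one, mul_one] at e2
    rw [Subtype.ext (Subtype.ext e2) (a1 := h) (a2 := h')]
  · rintro ⟨y, hy1, g, hg⟩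
    set x : G ⧸ M := ((g⁻¹ : G) : G ⧸ M)
    have hm : g * x.out ∈ M := by
      have h := QuotientGroup.out_eq' x
      rw [QuotientGroup.eq] at h
      have h2 := inv_mem h
      simpa [mul_assoc] using h2
    have hA : x.out⁻¹ * y * x.out ∈ A := by
      have h := hnorm _ (inv_mem hm) _ hg
      simpa [mul_assoc] using h
    refine ⟨(x, ⟨⟨_, hA⟩, fun e => hy1 ?_⟩), Subtype.ext ?_⟩
    · have e' : x.out⁻¹ * y * x.out = 1 := congrArg Subtype.val e
      calc y = x.out * (x.out⁻¹ * y * x.out) * x.out⁻¹ := by group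
        _ = 1 := by rw [e']; group
    · show x.out * (x.out⁻¹ * y * x.out) * x.out⁻¹ = y
      group

/-- A group acting freely on a finite type has order dividing its cardinality. -/
theorem card_dvd_of_free {A X : Type*} [Group A] [Finite A] [MulAction A X] [Finite X]
    (h : ∀ (a : A) (x : X), a • x = x → a = 1) : Nat.card A ∣ Nat.card X := by
  have hs : ∀ x : X, MulAction.stabilizer A x = ⊥ := fun x =>
    (eq_bot_iff_forall _).2 fun a ha => h a x ha
  rw [Nat.card_congr (MulAction.selfEquivOrbitsQuotientProd hs), Nat.card_prod]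
  exact dvd_mul_left _ _

variable [Finite G] {t s : G} {K : Subgroup G} (d : BSW t K s)
include d

theorem BSW.isConj_t_iff {x : G} : IsConj t x ↔ orderOf x = 2 :=
  ⟨fun h => by obtain ⟨g, rfl⟩ := isConj_iff.1 h; rw [← MulAut.conj_apply, MulEquiv.orderOf_eq, d.t_order],
    d.conj_t x⟩

omit [Finite G] in
/-- Fusion in `K` is inversion. -/
theorem BSW.conj_cases {a g : G} (ha : a ∈ K) (ha1 : a ≠ 1) (h : g * a * g⁻¹ ∈ K) :
    g * a * g⁻¹ = a ∨ g * a * g⁻¹ = a⁻¹ := by
  have hgt := d.ti g a ha ha1 h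
  by_cases hg : g ∈ K
  · exact Or.inl (by rw [d.comm g hg a ha, mul_inv_cancel_right])
  · exact Or.inr ((d.outside hgt hg).2.2 a ha)

omit [Finite G] in
/-- `C(t)` normalizes `K`. -/
theorem BSW.conj_mem {a g : G} (ha : a ∈ K) (hg : g * t = t * g) : g * a * g⁻¹ ∈ K := by
  by_cases hgK : g ∈ K
  · exact mul_mem (mul_mem hgK ha) (inv_mem hgK)
  · rw [(d.outside hg hgK).2.2 a ha]; exact inv_mem ha

theorem BSW.two_dvd : 2 ∣ Nat.card K := by
  have h := orderOf_dvd_natCard (⟨t, d.t_mem⟩ : K)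
  rwa [← Subgroup.orderOf_coe, d.t_order] at h

theorem BSW.card_eq :
    Nat.card G = 2 * Nat.card K * Nat.card {x : G // IsConj t x} := by
  rw [← H28.card_isConj_mul_card_centralizer t, d.card_centralizer, mul_comm]

theorem BSW.odd_class : Odd (Nat.card {x : G // IsConj t x}) := by
  haveI : Fact (Nat.Prime 2) := ⟨Nat.prime_two⟩
  obtain ⟨S⟩ : Nonempty (Sylow 2 G) := inferInstance
  have h2g : 2 ∣ Nat.card G := by
    rw [d.card_eq]; exact (dvd_mul_right 2 _).mul_right _
  haveI : Nontrivial (S : Subgroup G) :=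
    (Subgroup.nontrivial_iff_ne_bot _).2 fun e => S.ne_bot_of_dvd_card h2g e
  haveI := IsPGroup.center_nontrivial S.2
  obtain ⟨z, hz⟩ : ∃ z : Subgroup.center (S : Subgroup G), orderOf z = 2 := by
    obtain ⟨k, hk0, hk⟩ :=
      (IsPGroup.nontrivial_iff_card (S.2.to_subgroup (Subgroup.center (S : Subgroup G)))).1 inferInstance
    exact exists_prime_orderOf_dvd_card' 2 (hk ▸ dvd_pow_self 2 hk0.ne')
  set w : G := ((z : (S : Subgroup G)) : G) with hw
  have hwo : orderOf w = 2 := by rw [hw, Subgroup.orderOf_coe, Subgroup.orderOf_coe, hz]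
  have hle : (S : Subgroup G) ≤ Subgroup.centralizer ({w} : Set G) := fun a ha =>
    Subgroup.mem_centralizer_singleton_iff.2
      (congrArg Subtype.val (Subgroup.mem_center_iff.1 z.2 ⟨a, ha⟩))
  have hcls : Nat.card {x : G // IsConj w x} = Nat.card {x : G // IsConj t x} :=
    Nat.card_congr (Equiv.subtypeEquivRight fun x =>
      ⟨(d.conj_t w hwo).trans, (d.conj_t w hwo).symm.trans⟩)
  rw [← hcls, H28.card_isConj_eq_index, ← Nat.not_even_iff_odd, even_iff_two_dvd]
  exact fun h => S.not_dvd_index (h.trans (Subgroup.index_dvd_of_le hle))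

/-- An element commuting with an involution has a conjugate in `K`. -/
theorem BSW.conjInto_of_comm {x i : G} (hi : orderOf i = 2) (h : x * i = i * x) : ConjInto K x := by
  obtain ⟨g, rfl⟩ := isConj_iff.1 (d.conj_t i hi)
  have hy : (g⁻¹ * x * g) * t = t * (g⁻¹ * x * g) := by
    calc (g⁻¹ * x * g) * t = g⁻¹ * (x * (g * t * g⁻¹)) * g := by group
      _ = g⁻¹ * ((g * t * g⁻¹) * x) * g := by rw [h]
      _ = _ := by group
  by_cases hK : g⁻¹ * x * g ∈ K
  · exact ⟨g⁻¹, by simpa using hK⟩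
  · obtain ⟨g', hg'⟩ := isConj_iff.1 (d.conj_t _ (d.outside hy hK).2.1)
    exact (conjInto_conj_iff g⁻¹).1 ⟨g'⁻¹, by simp [← hg', mul_assoc, d.t_mem]⟩

/-- An involution has a conjugate in `K`. -/
theorem BSW.conjInto_of_involution {i : G} (hi : orderOf i = 2) : ConjInto K i :=
  d.conjInto_of_comm hi rfl

theorem BSW.odd_centralizer {x : G} (hx : ¬ConjInto K x) :
    Odd (Nat.card ↥(Subgroup.centralizer ({x} : Set G))) := by
  rw [← Nat.not_even_iff_odd, even_iff_two_dvd]
  intro h
  obtain ⟨i, hi⟩ := exists_prime_orderOf_dvd_card' 2 h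
  exact hx (d.conjInto_of_comm (i := i) (by rw [Subgroup.orderOf_coe, hi])
    (Subgroup.mem_centralizer_singleton_iff.1 i.2).symm)

/-- An odd-order element commuting with a non-identity element of `K` lies in `K`. -/
theorem BSW.mem_of_comm_odd {a y : G} (hy : y ∈ K) (hy1 : y ≠ 1) (hodd : Odd (orderOf y))
    (h : a * y = y * a) : a ∈ K :=
  d.mem_of_comm hy hy1 (fun e => by rw [e, d.t_order] at hodd; exact absurd hodd (by decide)) h

/-- In the centralizer of an element with no conjugate in `K` no non-identity element has one. -/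
theorem BSW.not_conjInto_of_mem_centralizer {x y : G} (hx : ¬ConjInto K x)
    (hy : y ∈ Subgroup.centralizer ({x} : Set G)) (hy1 : y ≠ 1) : ¬ConjInto K y := by
  rintro ⟨g, hg⟩
  have hodd : Odd (orderOf (g * y * g⁻¹)) := by
    rw [← MulAut.conj_apply, MulEquiv.orderOf_eq, ← Subgroup.orderOf_mk y hy]
    exact Odd.of_dvd_nat (d.odd_centralizer hx) (orderOf_dvd_natCard _)
  refine hx ⟨g, d.mem_of_comm_odd hg (fun e => hy1 (conj_eq_one_iff.1 e)) hodd ?_⟩
  have h := Subgroup.mem_centralizer_singleton_iff.1 hy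
  calc g * x * g⁻¹ * (g * y * g⁻¹) = g * (x * y) * g⁻¹ := by group
    _ = g * (y * x) * g⁻¹ := by rw [h]
    _ = _ := by group

/-- An element with no conjugate in `K` which is inverted by `t` has an abelian centralizer
inverted by `t`. -/
theorem BSW.t_inverts_centralizer {x : G} (hx : ¬ConjInto K x) (hinv : t * x * t⁻¹ = x⁻¹) {c : G}
    (hc : c ∈ Subgroup.centralizer ({x} : Set G)) : t * c * t⁻¹ = c⁻¹ := by
  set A := Subgroup.centralizer ({x} : Set G) with hA
  have hmap : ∀ a : G, a ∈ A → t * a * t⁻¹ ∈ A := by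
    intro a ha
    rw [hA, Subgroup.mem_centralizer_singleton_iff] at ha ⊢
    have e : x = t * x⁻¹ * t⁻¹ := by
      rw [← hinv]
      simp [inv_eq_of_mul_eq_one_right d.t_sq, mul_assoc, d.t_sq, ← mul_assoc t t]
    have ha' : a * x⁻¹ = x⁻¹ * a := (Commute.inv_right ha).eq
    rw [e]
    calc t * a * t⁻¹ * (t * x⁻¹ * t⁻¹) = t * (a * x⁻¹) * t⁻¹ := by group
      _ = t * (x⁻¹ * a) * t⁻¹ := by rw [ha']
      _ = _ := by group
  let φ : A →* A :=
    { toFun := fun a => ⟨t * (a : G) * t⁻¹, hmap a a.2⟩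
      map_one' := Subtype.ext (by simp)
      map_mul' := fun a b => Subtype.ext (by simp [mul_assoc]) }
  have hfp : MonoidHom.FixedPointFree φ := by
    intro a ha
    by_contra ha1
    have hcomm : (a : G) * t = t * a := by
      have := congrArg Subtype.val ha
      simp only [φ, MonoidHom.coe_mk, OneHom.coe_mk] at this
      rw [mul_inv_eq_iff_eq_mul] at this
      exact this.symm
    exact d.not_conjInto_of_mem_centralizer hx a.2 (fun e => ha1 (Subtype.ext e))
      (d.conjInto_of_comm d.t_order hcomm)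
  have h2 : Function.Involutive φ := fun a => Subtype.ext (by
    simp [φ, inv_eq_of_mul_eq_one_right d.t_sq, mul_assoc, d.t_sq, ← mul_assoc t t])
  exact congrArg Subtype.val (congrFun (hfp.coe_eq_inv_of_involutive h2) ⟨c, hc⟩)

/-- The centralizer of a real element with no conjugate in `K` is abelian. -/
theorem BSW.comm_centralizer {x : G} (hx : ¬ConjInto K x) (hinv : t * x * t⁻¹ = x⁻¹) {a b : G}
    (ha : a ∈ Subgroup.centralizer ({x} : Set G)) (hb : b ∈ Subgroup.centralizer ({x} : Set G)) :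
    a * b = b * a := by
  have hab := d.t_inverts_centralizer hx hinv (mul_mem ha hb)
  have e : t * (a * b) * t⁻¹ = (t * a * t⁻¹) * (t * b * t⁻¹) := by group
  rw [e, d.t_inverts_centralizer hx hinv ha, d.t_inverts_centralizer hx hinv hb] at hab
  have := congrArg (·⁻¹) hab
  simpa using this.symm

/-- Every non-identity element of that centralizer has the same centralizer. -/
theorem BSW.centralizer_eq {x y : G} (hx : ¬ConjInto K x) (hinv : t * x * t⁻¹ = x⁻¹)
    (hy : y ∈ Subgroup.centralizer ({x} : Set G)) (hy1 : y ≠ 1) :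
    Subgroup.centralizer ({y} : Set G) = Subgroup.centralizer ({x} : Set G) := by
  have hy' := d.not_conjInto_of_mem_centralizer hx hy hy1
  have hinv' := d.t_inverts_centralizer hx hinv hy
  have hxy : x ∈ Subgroup.centralizer ({y} : Set G) :=
    Subgroup.mem_centralizer_singleton_iff.2 (Subgroup.mem_centralizer_singleton_iff.1 hy).symm
  ext a
  constructor <;> intro ha <;> rw [Subgroup.mem_centralizer_singleton_iff]
  · exact d.comm_centralizer hy' hinv' ha hxy
  · exact d.comm_centralizer hx hinv ha hy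

/-- A conjugate of the centralizer meeting it nontrivially equals it. -/
theorem BSW.mem_normalizer_of_meet {x y g : G} (hx : ¬ConjInto K x) (hinv : t * x * t⁻¹ = x⁻¹)
    (hy : y ∈ Subgroup.centralizer ({x} : Set G)) (hy1 : y ≠ 1)
    (hg : g * y * g⁻¹ ∈ Subgroup.centralizer ({x} : Set G)) :
    g ∈ Subgroup.normalizer (Subgroup.centralizer ({x} : Set G) : Set G) := by
  have e1 := d.centralizer_eq hx hinv hy hy1
  have e2 := d.centralizer_eq hx hinv hg (fun e => hy1 (conj_eq_one_iff.1 e))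
  rw [Subgroup.mem_normalizer_iff]
  intro a
  conv_lhs => rw [← e1]
  conv_rhs => rw [← e2]
  rw [Subgroup.mem_centralizer_singleton_iff, Subgroup.mem_centralizer_singleton_iff]
  constructor <;> intro h
  · calc g * a * g⁻¹ * (g * y * g⁻¹) = g * (a * y) * g⁻¹ := by group
      _ = g * (y * a) * g⁻¹ := by rw [h]
      _ = _ := by group
  · calc a * y = g⁻¹ * (g * a * g⁻¹ * (g * y * g⁻¹)) * g := by group
      _ = g⁻¹ * (g * y * g⁻¹ * (g * a * g⁻¹)) * g := by rw [h]
      _ = _ := by group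

/-- An element of `C(x)` is a product `r * r`. -/
theorem BSW.exists_sqrt {x c : G} (hx : ¬ConjInto K x)
    (hc : c ∈ Subgroup.centralizer ({x} : Set G)) :
    ∃ r ∈ Subgroup.centralizer ({x} : Set G), r * r = c := by
  obtain ⟨k, hk⟩ := d.odd_centralizer hx
  refine ⟨c ^ (k + 1), pow_mem hc _, ?_⟩
  have h1 : c ^ (2 * k + 1) = 1 := by
    have := congrArg Subtype.val (pow_card_eq_one' (x := (⟨c, hc⟩ : Subgroup.centralizer ({x} : Set G))))
    rwa [hk, SubgroupClass.coe_pow, OneMemClass.coe_one] at this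
  rw [← pow_add, show k + 1 + (k + 1) = (2 * k + 1) + 1 by ring, pow_succ, h1, one_mul]

/-- The part of the normalizer of `C(x)` centralizing `t`. -/
def BSW.normPart (_d : BSW t K s) (x : G) : Subgroup G :=
  Subgroup.normalizer (Subgroup.centralizer ({x} : Set G) : Set G) ⊓
    Subgroup.centralizer ({t} : Set G)

theorem BSW.t_mem_normPart {x : G} (hx : ¬ConjInto K x) (hinv : t * x * t⁻¹ = x⁻¹) :
    t ∈ d.normPart x := by
  refine ⟨?_, Subgroup.mem_centralizer_singleton_iff.2 rfl⟩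
  show t ∈ Subgroup.normalizer (Subgroup.centralizer ({x} : Set G) : Set G)
  rw [Subgroup.mem_normalizer_iff]
  intro c
  constructor <;> intro hc
  · rw [d.t_inverts_centralizer hx hinv hc]; exact inv_mem hc
  · have h := d.t_inverts_centralizer hx hinv hc
    have e : c = t * (t * c * t⁻¹) * t⁻¹ := by
      simp [inv_eq_of_mul_eq_one_right d.t_sq, mul_assoc, d.t_sq, ← mul_assoc t t]
    rw [e, h]; exact inv_mem hc

/-- `N(C(x)) = C(x) (N(C(x)) ∩ C(t))`. -/
theorem BSW.normalizer_cases {x h : G} (hx : ¬ConjInto K x) (hinv : t * x * t⁻¹ = x⁻¹)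
    (hh : h ∈ Subgroup.normalizer (Subgroup.centralizer ({x} : Set G) : Set G)) :
    ∃ c ∈ Subgroup.centralizer ({x} : Set G), ∃ e ∈ d.normPart x, h = c * e := by
  set A := Subgroup.centralizer ({x} : Set G) with hA
  have hinvA : ∀ a ∈ A, (h * t * h⁻¹) * a * (h * t * h⁻¹)⁻¹ = a⁻¹ := by
    intro a ha
    have h1 : h⁻¹ * a * h ∈ A := by
      have h2 := (Subgroup.mem_normalizer_iff.1 (inv_mem hh) a).1 ha
      simpa using h2
    have h3 := d.t_inverts_centralizer hx hinv h1
    calc h * t * h⁻¹ * a * (h * t * h⁻¹)⁻¹ = h * (t * (h⁻¹ * a * h) * t⁻¹) * h⁻¹ := by group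
      _ = h * (h⁻¹ * a * h)⁻¹ * h⁻¹ := by rw [h3]
      _ = a⁻¹ := by group
  have hc0 : t⁻¹ * (h * t * h⁻¹) ∈ A := by
    have hxA : x ∈ A := Subgroup.mem_centralizer_singleton_iff.2 rfl
    have h1 := (hinvA x hxA).trans hinv.symm
    rw [hA, Subgroup.mem_centralizer_singleton_iff]
    calc t⁻¹ * (h * t * h⁻¹) * x = t⁻¹ * ((h * t * h⁻¹) * x * (h * t * h⁻¹)⁻¹) * (h * t * h⁻¹) := by
          group
      _ = t⁻¹ * (t * x * t⁻¹) * (h * t * h⁻¹) := by rw [h1]
      _ = _ := by group
  obtain ⟨r, hr, hr2⟩ := d.exists_sqrt hx hc0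
  refine ⟨r⁻¹, inv_mem hr, r * h, ?_, by group⟩
  refine ⟨mul_mem (Subgroup.le_normalizer hr) hh, Subgroup.mem_centralizer_singleton_iff.2 ?_⟩
  have hti := d.t_inverts_centralizer hx hinv hr
  have e1 : r * t = t * r⁻¹ := by
    rw [← hti]
    simp [inv_eq_of_mul_eq_one_right d.t_sq, mul_assoc, d.t_sq, ← mul_assoc t t]
  calc r * h * t = r * (t * (t⁻¹ * (h * t * h⁻¹))) * h := by group
    _ = r * (t * (r * r)) * h := by rw [hr2]
    _ = (r * t) * (r * r) * h := by group
    _ = t * (r * h) := by rw [e1]; group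

/-- The complement acts without fixed points. -/
theorem BSW.normPart_inf {x : G} (hx : ¬ConjInto K x) :
    Disjoint (Subgroup.centralizer ({x} : Set G)) (d.normPart x) := by
  rw [Subgroup.disjoint_def]
  intro c hc he
  by_contra hc1
  exact d.not_conjInto_of_mem_centralizer hx hc hc1
    (d.conjInto_of_comm d.t_order (Subgroup.mem_centralizer_singleton_iff.1 he.2))

theorem BSW.normPart_le {x : G} (hx : ¬ConjInto K x) (hinv : t * x * t⁻¹ = x⁻¹) :
    d.normPart x ≤ K := by
  intro e he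
  by_contra heK
  obtain ⟨h2, -, -⟩ := d.outside (Subgroup.mem_centralizer_singleton_iff.1 he.2) heK
  set A := Subgroup.centralizer ({x} : Set G) with hA
  have hxA : x ∈ A := Subgroup.mem_centralizer_singleton_iff.2 rfl
  have hy : e * x * e⁻¹ ∈ A := (Subgroup.mem_normalizer_iff.1 he.1 x).1 hxA
  have hcomm : (e * x * e⁻¹) * x = x * (e * x * e⁻¹) := Subgroup.mem_centralizer_singleton_iff.1 hy
  have hw : x * (e * x * e⁻¹) ∈ A := mul_mem hxA hy
  by_cases hw1 : x * (e * x * e⁻¹) = 1
  · -- `e` inverts `x`, so `t⁻¹ * e` centralizes it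
    have h3 : e * x * e⁻¹ = x⁻¹ := (inv_eq_of_mul_eq_one_right hw1).symm
    have h4 : t⁻¹ * e ∈ A := by
      rw [hA, Subgroup.mem_centralizer_singleton_iff]
      calc t⁻¹ * e * x = t⁻¹ * (e * x * e⁻¹) * e := by group
        _ = t⁻¹ * (t * x * t⁻¹) * e := by rw [h3, hinv]
        _ = _ := by group
    have := Subgroup.disjoint_def.1 (d.normPart_inf hx) h4
      (mul_mem (inv_mem (d.t_mem_normPart hx hinv)) he)
    exact heK (inv_mul_eq_one.1 this ▸ d.t_mem)
  · -- `e` centralizes a nontrivial element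
    have h5 : e * (x * (e * x * e⁻¹)) = (x * (e * x * e⁻¹)) * e := by
      have e2 : e⁻¹ = e := inv_eq_of_mul_eq_one_right h2
      calc e * (x * (e * x * e⁻¹)) = (e * x * e⁻¹) * (e * e) * x * e⁻¹ := by group
        _ = (e * x * e⁻¹) * x * e := by rw [h2, e2]; group
        _ = _ := by rw [hcomm]
    exact d.not_conjInto_of_mem_centralizer hx hw hw1
      (d.conjInto_of_comm (d.outside (Subgroup.mem_centralizer_singleton_iff.1 he.2) heK).2.1 h5.symm)

theorem BSW.card_normalizer {x : G} (hx : ¬ConjInto K x) (hinv : t * x * t⁻¹ = x⁻¹) :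
    Nat.card ↥(Subgroup.normalizer (Subgroup.centralizer ({x} : Set G) : Set G)) =
      Nat.card ↥(Subgroup.centralizer ({x} : Set G)) * Nat.card ↥(d.normPart x) := by
  rw [← Nat.card_prod]
  symm
  refine Nat.card_eq_of_bijective (fun p => (⟨(p.1 : G) * p.2,
    mul_mem (Subgroup.le_normalizer p.1.2) p.2.2.1⟩ :
      ↥(Subgroup.normalizer (Subgroup.centralizer ({x} : Set G) : Set G)))) ⟨?_, ?_⟩
  · intro p q h
    exact Subgroup.mul_injective_of_disjoint (d.normPart_inf hx) (congrArg Subtype.val h)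
  · rintro ⟨h, hh⟩
    obtain ⟨c, hc, e, he, rfl⟩ := d.normalizer_cases hx hinv hh
    exact ⟨(⟨c, hc⟩, ⟨e, he⟩), rfl⟩

theorem BSW.normalizer_eq_sup {x : G} (hx : ¬ConjInto K x) (hinv : t * x * t⁻¹ = x⁻¹) :
    Subgroup.normalizer (Subgroup.centralizer ({x} : Set G) : Set G) =
      Subgroup.centralizer ({x} : Set G) ⊔ d.normPart x := by
  refine le_antisymm (fun h hh => ?_) (sup_le Subgroup.le_normalizer inf_le_left)
  obtain ⟨c, hc, e, he, rfl⟩ := d.normalizer_cases hx hinv hh
  exact mul_mem (Subgroup.mem_sup_left hc) (Subgroup.mem_sup_right he)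

theorem BSW.two_dvd_normPart {x : G} (hx : ¬ConjInto K x) (hinv : t * x * t⁻¹ = x⁻¹) :
    2 ∣ Nat.card ↥(d.normPart x) := by
  have h := orderOf_dvd_natCard (⟨t, d.t_mem_normPart hx hinv⟩ : d.normPart x)
  rwa [← Subgroup.orderOf_coe, d.t_order] at h

theorem BSW.normPart_dvd_sub_one {x : G} (hx : ¬ConjInto K x) (hinv : t * x * t⁻¹ = x⁻¹) :
    Nat.card ↥(d.normPart x) ∣ Nat.card ↥(Subgroup.centralizer ({x} : Set G)) - 1 := by
  classical
  set A := Subgroup.centralizer ({x} : Set G) with hA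
  have hN : ∀ (e : d.normPart x) (a : G), a ∈ A → (e : G) * a * (e : G)⁻¹ ∈ A := fun e a ha =>
    (Subgroup.mem_normalizer_iff.1 e.2.1 a).1 ha
  letI : MulAction (d.normPart x) {a : A // a ≠ 1} :=
    { smul := fun e a => ⟨⟨(e : G) * (a.1 : G) * (e : G)⁻¹, hN e _ a.1.2⟩, fun h =>
        a.2 (Subtype.ext (conj_eq_one_iff.1 (congrArg Subtype.val h)))⟩
      one_smul := fun a => Subtype.ext (Subtype.ext (show (1 : G) * (a.1 : G) * (1 : G)⁻¹ = a.1 by simp))
      mul_smul := fun e f a => Subtype.ext (Subtype.ext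
        (show ((e : G) * f) * (a.1 : G) * ((e : G) * f)⁻¹ =
          (e : G) * ((f : G) * (a.1 : G) * (f : G)⁻¹) * (e : G)⁻¹ by group)) }
  have h := card_dvd_of_free (A := d.normPart x) (X := {a : A // a ≠ 1}) (fun e a h => by
    have h1 : (e : G) * (a.1 : G) * (e : G)⁻¹ = a.1 :=
      congrArg (fun z : {a : A // a ≠ 1} => (z.1 : G)) h
    rw [mul_inv_eq_iff_eq_mul] at h1
    have h2 : (e : G) ∈ Subgroup.centralizer ({(a.1 : G)} : Set G) :=
      Subgroup.mem_centralizer_singleton_iff.2 h1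
    rw [d.centralizer_eq hx hinv a.1.2 (fun e1 => a.2 (Subtype.ext e1))] at h2
    exact Subtype.ext (Subgroup.disjoint_def.1 (d.normPart_inf hx) h2 e.2))
  have : Fintype A := Fintype.ofFinite _
  rwa [show Nat.card {a : A // a ≠ 1} = Nat.card A - 1 by
    rw [Nat.card_eq_fintype_card, Fintype.card_subtype_compl, Fintype.card_subtype_eq,
      Nat.card_eq_fintype_card]] at h

/-- The number of conjugates of `C(x)` is congruent to `1` modulo its order, if the order is prime
to that of the complement. -/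
theorem BSW.index_normalizer_mod {x : G} (hx : ¬ConjInto K x) (hinv : t * x * t⁻¹ = x⁻¹)
    (hco : Nat.Coprime (Nat.card ↥(Subgroup.centralizer ({x} : Set G))) (Nat.card ↥(d.normPart x))) :
    Nat.card ↥(Subgroup.centralizer ({x} : Set G)) ∣
      (Subgroup.normalizer (Subgroup.centralizer ({x} : Set G) : Set G)).index - 1 := by
  classical
  set A := Subgroup.centralizer ({x} : Set G) with hA
  set M := Subgroup.normalizer (A : Set G) with hM
  have hfix : ∀ (a : A) (g : G), g⁻¹ * ((a : G) * g) ∈ M → a = 1 ∨ g ∈ M := by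
    intro a g hag
    by_cases ha1 : a = 1
    · exact Or.inl ha1
    have hy : g⁻¹ * (a : G) * g ∈ M := by rwa [mul_assoc]
    obtain ⟨c, hc, e, he, hce⟩ := d.normalizer_cases hx hinv hy
    set f : A := a with hf
    have hpow : (g⁻¹ * (a : G) * g) ^ Nat.card A = 1 := by
      have := congrArg Subtype.val (pow_card_eq_one' (x := a))
      rw [SubgroupClass.coe_pow, OneMemClass.coe_one] at this
      have e' : (g⁻¹ * (a : G) * g) = MulAut.conj g⁻¹ (a : G) := by simp
      rw [e', ← map_pow, this, map_one]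
    -- the image in `M ⧸ A` is killed by two coprime numbers
    haveI : (A.subgroupOf M).Normal := Subgroup.normal_in_normalizer
    let π := QuotientGroup.mk' (A.subgroupOf M)
    have heq : π ⟨_, hy⟩ = π ⟨e, he.1⟩ := by
      have hmk : (⟨_, hy⟩ : M) = ⟨c, Subgroup.le_normalizer hc⟩ * ⟨e, he.1⟩ := Subtype.ext hce
      rw [hmk, map_mul, show π ⟨c, Subgroup.le_normalizer hc⟩ = 1 from
        (QuotientGroup.eq_one_iff _).2 hc, one_mul]
    have h1 : π ⟨_, hy⟩ ^ Nat.card A = 1 := by
      rw [← map_pow, show (⟨_, hy⟩ : M) ^ Nat.card A = 1 from Subtype.ext hpow, map_one]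
    have h2 : π ⟨_, hy⟩ ^ Nat.card (d.normPart x) = 1 := by
      rw [heq, ← map_pow, show (⟨e, he.1⟩ : M) ^ Nat.card (d.normPart x) = 1 from Subtype.ext ?_,
        map_one]
      have h4 : e ^ Nat.card (d.normPart x) = 1 := by
        rw [← orderOf_dvd_iff_pow_eq_one, ← Subgroup.orderOf_mk e he]
        exact orderOf_dvd_natCard _
      exact h4
    have h3 : π ⟨_, hy⟩ = 1 := by
      have := pow_gcd_eq_one.2 ⟨h1, h2⟩
      rwa [hco.gcd_eq_one, pow_one] at this
    have hyA : g⁻¹ * (a : G) * g ∈ A := by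
      have := (QuotientGroup.eq_one_iff _).1 h3
      exact Subgroup.mem_subgroupOf.1 this
    have := d.mem_normalizer_of_meet hx hinv (g := g⁻¹) a.2 (fun e => ha1 (Subtype.ext e))
      (by rwa [inv_inv])
    exact Or.inr (inv_inv g ▸ inv_mem this)
  set X := {q : G ⧸ M // q ≠ ((1 : G) : G ⧸ M)} with hX
  have hstab : ∀ (a : A) (q : G ⧸ M), q ≠ ((1 : G) : G ⧸ M) → (a : G) • q ≠ ((1 : G) : G ⧸ M) := by
    intro a q hq h
    refine hq ?_
    calc q = (a : G)⁻¹ • ((a : G) • q) := (inv_smul_smul _ _).symm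
      _ = (a : G)⁻¹ • ((1 : G) : G ⧸ M) := by rw [h]
      _ = ((1 : G) : G ⧸ M) := by
        rw [MulAction.Quotient.smul_coe, QuotientGroup.eq]
        simpa using Subgroup.le_normalizer a.2
  letI : MulAction A X :=
    { smul := fun a q => ⟨(a : G) • q.1, hstab a q.1 q.2⟩
      one_smul := fun q => Subtype.ext (one_smul G q.1)
      mul_smul := fun a b q => Subtype.ext (mul_smul (a : G) (b : G) q.1) }
  have h := card_dvd_of_free (A := A) (X := X) (fun a q h => by
    obtain ⟨q, hq⟩ := q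
    induction q using QuotientGroup.induction_on with
    | H g =>
      have h1 : ((a : G) * g : G ⧸ M) = (g : G ⧸ M) := congrArg Subtype.val h
      rcases hfix a g (QuotientGroup.eq.1 h1.symm) with h2 | h2
      · exact h2
      · exact absurd (QuotientGroup.eq.2 (by simpa using inv_mem h2)) hq)
  have : Fintype (G ⧸ M) := Fintype.ofFinite _
  rwa [show Nat.card X = M.index - 1 by
    rw [Subgroup.index_eq_card, Nat.card_eq_fintype_card, Nat.card_eq_fintype_card]
    simp only [hX, Fintype.card_subtype_compl, Fintype.card_subtype_eq]] at h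

/-- Number of factorizations into two involutions. -/
noncomputable def BSW.inv2 (_d : BSW t K s) (x : G) : ℕ :=
  Nat.card {p : G × G // IsConj t p.1 ∧ IsConj t p.2 ∧ p.1 * p.2 = x}

theorem BSW.inv2_eq_card {x : G} (hx : ¬ConjInto K x) (hinv : t * x * t⁻¹ = x⁻¹) :
    d.inv2 x = Nat.card ↥(Subgroup.centralizer ({x} : Set G)) := by
  set A := Subgroup.centralizer ({x} : Set G) with hA
  symm
  have hp : ∀ c : A, IsConj t (t * (c : G)) ∧ IsConj t (t * (c : G) * x) := by
    intro c
    have key : ∀ b : G, b ∈ A → orderOf (t * b) = 2 := by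
      intro b hb
      refine orderOf_eq_prime ?_ fun e => ?_
      · rw [sq]
        have h := d.t_inverts_centralizer hx hinv hb
        rw [inv_eq_of_mul_eq_one_right d.t_sq] at h
        rw [← mul_assoc, h, inv_mul_cancel]
      · have hb' : b = t := by
          rw [← inv_eq_of_mul_eq_one_right e, inv_eq_of_mul_eq_one_right d.t_sq]
        exact hx (d.conjInto_of_comm d.t_order
          (Subgroup.mem_centralizer_singleton_iff.1 (hb' ▸ hb)).symm)
    refine ⟨d.conj_t _ (key c c.2), d.conj_t _ ?_⟩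
    rw [mul_assoc]
    exact key _ (mul_mem c.2 (Subgroup.mem_centralizer_singleton_iff.2 rfl))
  refine Nat.card_congr (Equiv.ofBijective (fun c : A => (⟨(t * (c : G), t * (c : G) * x),
    (hp c).1, (hp c).2, ?_⟩ :
      {p : G × G // IsConj t p.1 ∧ IsConj t p.2 ∧ p.1 * p.2 = x})) ⟨?_, ?_⟩)
  · have h : (t * (c : G)) * (t * (c : G)) = 1 := by
      have := pow_orderOf_eq_one (t * (c : G))
      rwa [d.isConj_t_iff.1 (hp c).1, sq] at this
    show t * (c : G) * (t * (c : G) * x) = x
    rw [← mul_assoc, h, one_mul]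
  · intro c c' h
    exact Subtype.ext (mul_left_cancel (congrArg (fun p => p.1.1) h))
  · rintro ⟨⟨a, b⟩, ha, hb, rfl⟩
    have haa : a * a = 1 := by
      have := pow_orderOf_eq_one a
      rwa [d.isConj_t_iff.1 ha, sq] at this
    have hbb : b * b = 1 := by
      have := pow_orderOf_eq_one b
      rwa [d.isConj_t_iff.1 hb, sq] at this
    have hc : t⁻¹ * a ∈ Subgroup.centralizer ({a * b} : Set G) := by
      rw [Subgroup.mem_centralizer_singleton_iff]
      have h1 : a * (a * b) * a⁻¹ = (a * b)⁻¹ := by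
        rw [_root_.mul_inv_rev, ← mul_assoc, haa, one_mul, inv_eq_of_mul_eq_one_right hbb]
      calc t⁻¹ * a * (a * b) = t⁻¹ * (a * (a * b) * a⁻¹) * a := by group
        _ = t⁻¹ * (t * (a * b) * t⁻¹) * a := by rw [h1, hinv]
        _ = _ := by group
    refine ⟨⟨t⁻¹ * a, hc⟩, Subtype.ext (Prod.ext ?_ ?_)⟩
    · exact mul_inv_cancel_left t a
    · show t * (t⁻¹ * a) * (a * b) = b
      rw [mul_inv_cancel_left, ← mul_assoc, haa, one_mul]

/-- A product of two involutions without conjugates in `K` has a conjugate inverted by `t`. -/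
theorem BSW.exists_inverted {x : G} (h : 0 < d.inv2 x) :
    ∃ g : G, t * (g * x * g⁻¹) * t⁻¹ = (g * x * g⁻¹)⁻¹ := by
  obtain ⟨⟨⟨a, b⟩, ha, hb, rfl⟩⟩ := (Nat.card_pos_iff.1 h).1
  have hbb : b * b = 1 := by
    have := pow_orderOf_eq_one b
    rwa [d.isConj_t_iff.1 hb, sq] at this
  have haa : a * a = 1 := by
    have := pow_orderOf_eq_one a
    rwa [d.isConj_t_iff.1 ha, sq] at this
  obtain ⟨g, hg⟩ := isConj_iff.1 ha
  refine ⟨g⁻¹, ?_⟩
  have h1 : a * (a * b) * a⁻¹ = (a * b)⁻¹ := by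
    rw [_root_.mul_inv_rev, ← mul_assoc, haa, one_mul, inv_eq_of_mul_eq_one_right hbb]
  calc t * (g⁻¹ * (a * b) * g⁻¹⁻¹) * t⁻¹ = g⁻¹ * ((g * t * g⁻¹) * (a * b) * (g * t * g⁻¹)⁻¹) * g := by
        group
    _ = g⁻¹ * (a * b)⁻¹ * g := by rw [hg, h1]
    _ = _ := by group

end Cfsg.Agent.H77
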