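import Cfsg.Agent.H77.BSW.Values

/-!
# Factorizations and centralizer bound for elements without conjugates in `K`
-/

set_option autoImplicit false

open scoped ComplexConjugate

namespace Cfsg.Agent.H77

variable {G : Type*} [Group G] [Fintype G] {t s : G} {K : Subgroup G}
variable (d : BSW t K s)
include d

/-- The numerical consequences of the character theory. -/
theorem BSW.numbers (h4 : 2 < Nat.card K) :
    ∃ e : ℤ, (e = 1 ∨ e = -1) ∧
      (Nat.card {x : G // IsConj t x} : ℤ) = (1 + 2 * e * Nat.card K) * (1 + e * Nat.card K) ∧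
      ∀ x : G, ¬ConjInto K x → ∃ k : ℤ,
        2 * (d.inv2 x : ℤ) = 2 * (Nat.card K + e) - k * (1 - e + 2 * e * Nat.card K) ∧
        2 + 2 * ((1 + k) * (1 + k)) + ((Nat.card K : ℤ) - 1) * (k * k) ≤
          2 * Nat.card ↥(Subgroup.centralizer ({x} : Set G)) := by
  classical
  obtain ⟨η, hη1, hη⟩ := d.exists_eta
  obtain ⟨C⟩ := d.exists_coh η hη1 hη h4
  obtain ⟨e, he, hN, hA, hB, hY₁, hY₂⟩ := C.degrees hη1 hη h4
  refine ⟨e, he, hN, fun x hx => ?_⟩
  haveI := d.isMulCommutative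
  obtain ⟨n, hn⟩ : ∃ n : ℕ, Nat.card K = n := ⟨_, rfl⟩
  simp only [hn] at hN hA hB hY₁ hY₂ h4 ⊢
  set A : ℤ := 1 + 2 * e * n with hAdef
  set Y : ℤ := 1 + e * n with hYdef
  have hA0 : A ≠ 0 := hA ▸ mul_ne_zero (left_ne_zero_of_mul (C.σ_sq ▸ one_ne_zero)) (ideg_ne_zero _)
  have hY0 : Y ≠ 0 := neg_ne_zero.1
    (hY₁ ▸ mul_ne_zero (left_ne_zero_of_mul (C.hy₁ ▸ one_ne_zero)) (ideg_ne_zero _))
  have hAc : (A : ℂ) ≠ 0 := Int.cast_ne_zero.2 hA0
  have hYc : (Y : ℂ) ≠ 0 := Int.cast_ne_zero.2 hY0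
  set α : ℂ := (C.σ : ℂ) * C.a.1 x with hα
  set β : ℂ := -1 - α with hβ
  -- the functions `phi` vanish at `x`
  have hbx : ∀ μ, μ ≠ 1 → μ ≠ η → (coef K (C.b μ) μ : ℂ) * (C.b μ).1 x = β := by
    intro μ h1 h2
    have h := phi_eq_zero μ hx
    rw [phi_expand, C.sum_b h1 h2 fun χ => χ.1 x, H26.oneIrr_val] at h
    rw [hβ, hα]
    linear_combination h
  have hyx : (coef K C.y₁ η : ℂ) * C.y₁.1 x + (coef K C.y₂ η : ℂ) * C.y₂.1 x = β := by
    have h := phi_eq_zero η hx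
    rw [phi_expand, C.sum_eta hη1 fun χ => χ.1 x, H26.oneIrr_val] at h
    rw [hβ, hα]
    linear_combination h
  -- the weights
  set F : Cfsg.IrrCharacter G → ℂ := fun χ => χ.1 t * conj (χ.1 x) / χ.1 1 with hF
  have hdiv : ∀ (c D : ℤ) (k u : ℂ), c * c = 1 → D ≠ 0 →
      (c : ℂ) * (k * (c : ℂ) * u / (D : ℂ)) = k * ((c : ℂ) * u) / ((c * D : ℤ) : ℂ) := by
    intro c D k u hc hD
    have hc' : (c : ℂ) * c = 1 := by exact_mod_cast hc
    have hc0 : (c : ℂ) ≠ 0 := left_ne_zero_of_mul (hc' ▸ one_ne_zero)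
    have hD0 : (D : ℂ) ≠ 0 := Int.cast_ne_zero.2 hD
    push_cast
    field_simp
    linear_combination (k * u) * hc'
  have hFone : F (H26.oneIrr G) = 1 := by simp [hF, H26.oneIrr_val]
  have hFa : (C.σ : ℂ) * F C.a = conj α / (A : ℂ) := by
    rw [hF]
    simp only [C.a_apply hη1 d.t_mem d.t_ne_one, ← ideg_cast]
    have h := hdiv C.σ (ideg C.a) 1 (conj (C.a.1 x)) C.σ_sq (ideg_ne_zero _)
    rw [← hA, hα, map_mul, map_intCast]
    linear_combination h
  have hT : ∀ ν : K →* ℂˣ, ν ≠ 1 → ∑ χ, (coef K χ ν : ℂ) * F χ =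
      (1 + conj α / (A : ℂ)) + (d.sgn ν : ℂ) * (conj β / (Y : ℂ)) := by
    intro ν h1
    by_cases h2 : ν = η
    · subst h2
      rw [C.sum_eta hη1 F, hFone, hFa, ← hyx]
      simp only [map_add, map_mul, map_intCast]
      simp only [hF, C.y_apply_t hη1 hη (Or.inl rfl), C.y_apply_t hη1 hη (Or.inr rfl), ← ideg_cast,
        Int.cast_neg, Int.cast_mul]
      rw [show -((coef K C.y₁ ν : ℂ) * (d.sgn ν : ℂ)) * conj (C.y₁.1 x) / (ideg C.y₁ : ℂ) =
          (-(d.sgn ν : ℂ)) * (coef K C.y₁ ν : ℂ) * conj (C.y₁.1 x) / (ideg C.y₁ : ℂ) by ring,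
        show -((coef K C.y₂ ν : ℂ) * (d.sgn ν : ℂ)) * conj (C.y₂.1 x) / (ideg C.y₂ : ℂ) =
          (-(d.sgn ν : ℂ)) * (coef K C.y₂ ν : ℂ) * conj (C.y₂.1 x) / (ideg C.y₂ : ℂ) by ring,
        hdiv _ _ _ _ C.hy₁ (ideg_ne_zero _), hdiv _ _ _ _ C.hy₂ (ideg_ne_zero _), hY₁, hY₂]
      push_cast
      field_simp
    · rw [C.sum_b h1 h2 F, hFone, hFa, ← hbx ν h1 h2]
      simp only [map_mul, map_intCast]
      simp only [hF, C.b_apply_t hη1 hη h1 h2, ← ideg_cast, Int.cast_neg, Int.cast_mul, Int.cast_ofNat]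
      rw [show -(2 * ((coef K (C.b ν) ν : ℂ) * (d.sgn ν : ℂ))) * conj ((C.b ν).1 x) / (ideg (C.b ν) : ℂ) =
          (-(2 * (d.sgn ν : ℂ))) * (coef K (C.b ν) ν : ℂ) * conj ((C.b ν).1 x) / (ideg (C.b ν) : ℂ)
          by ring, hdiv _ _ _ _ (C.hb ν h1 h2) (ideg_ne_zero _), hB ν h1 h2]
      push_cast
      field_simp
  -- the class multiplication coefficient
  have hsumF : ∑ χ : Cfsg.IrrCharacter G, χ.1 t * χ.1 t * conj (χ.1 x) / χ.1 1 =
      1 + conj α / (A : ℂ) - ((n : ℂ) - 1) * (conj β / (Y : ℂ)) := by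
    have e1 : ∀ χ : Cfsg.IrrCharacter G, χ.1 t * χ.1 t * conj (χ.1 x) / χ.1 1 =
        -∑ ν : K →* ℂˣ, (d.sgn ν : ℂ) * ((coef K χ ν : ℂ) * F χ) := by
      intro χ
      have h := d.irr_apply_t χ
      push_cast at h
      calc χ.1 t * χ.1 t * conj (χ.1 x) / χ.1 1 = χ.1 t * F χ := by rw [hF]; ring
        _ = (-∑ ν : K →* ℂˣ, (coef K χ ν : ℂ) * (d.sgn ν : ℂ)) * F χ := by rw [← h]
        _ = _ := by
          rw [neg_mul, Finset.sum_mul]
          congr 1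
          exact Finset.sum_congr rfl fun ν _ => by ring
    simp only [e1, Finset.sum_neg_distrib]
    rw [Finset.sum_comm]
    simp only [← Finset.mul_sum]
    have e2 : ∀ ν : K →* ℂˣ, (d.sgn ν : ℂ) * ∑ χ, (coef K χ ν : ℂ) * F χ =
        (d.sgn ν : ℂ) * (1 + conj α / (A : ℂ)) + conj β / (Y : ℂ) -
          if ν = 1 then 1 + conj α / (A : ℂ) + conj β / (Y : ℂ) else 0 := by
      intro ν
      by_cases hν : ν = 1
      · subst hν; simp [coef_one, d.sgn_one]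
      · have hs : (d.sgn ν : ℂ) * (d.sgn ν : ℂ) = 1 := by exact_mod_cast d.sgn_sq ν
        rw [hT ν hν, if_neg hν, sub_zero, mul_add, ← mul_assoc, hs, one_mul]
    have e3 : (∑ ν : K →* ℂˣ, (d.sgn ν : ℂ)) = 0 := by exact_mod_cast d.sum_sgn
    simp only [e2, Finset.sum_sub_distrib, Finset.sum_add_distrib, ← Finset.sum_mul, e3, zero_mul,
      Finset.sum_ite_eq', Finset.mem_univ, if_true, Finset.sum_const, Finset.card_univ,
      d.card_dual, hn, nsmul_eq_mul]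
    ring
  have hg : (Nat.card G : ℂ) = 2 * n * (Nat.card {x : G // IsConj t x} : ℂ) := by
    rw [d.card_eq, hn]; push_cast; rfl
  have hNc : (Nat.card {x : G // IsConj t x} : ℂ) = (A : ℂ) * (Y : ℂ) := by
    rw [← Int.cast_natCast, hN]; push_cast; rfl
  have hf := H38.class_coeff t t x
  rw [hsumF, hg, hNc] at hf
  have hn0 : (n : ℂ) ≠ 0 := Nat.cast_ne_zero.2 (by omega)
  have hαβ : conj α = -1 - conj β := by rw [hβ]; simp
  have hf2 : 2 * (d.inv2 x : ℂ) =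
      2 * ((n : ℂ) + e) - conj β * (1 - (e : ℂ) + 2 * e * n) := by
    have h : (d.inv2 x : ℂ) = _ := hf
    rw [h, hαβ]
    field_simp
    simp only [hAdef, hYdef]
    push_cast
    have hee : (e : ℂ) * e = 1 := by rcases he with rfl | rfl <;> norm_num
    linear_combination (2 * (n : ℂ) ^ 2) * hee
  set D : ℤ := 1 - e + 2 * e * n with hD
  have hD0 : D ≠ 0 := by rcases he with rfl | rfl <;> omega
  have hβi : IsIntegral ℤ β := by
    rw [hβ, hα]
    exact (isIntegral_one.neg).sub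
      ((isIntegral_algebraMap (R := ℤ) (A := ℂ) (x := C.σ)).mul (isIntegral_irr C.a x))
  have hDc : (D : ℂ) ≠ 0 := Int.cast_ne_zero.2 hD0
  have hcβ : conj β = ((((2 * (n + e) - 2 * (d.inv2 x : ℤ)) : ℤ) : ℚ) / (D : ℚ) : ℚ) := by
    rw [Rat.cast_div, Rat.cast_intCast, Rat.cast_intCast, eq_div_iff hDc, hD]
    push_cast
    linear_combination hf2
  obtain ⟨k, hk⟩ : ∃ k : ℤ, β = k := by
    have hβq := congrArg conj hcβ
    rw [Complex.conj_conj, map_ratCast] at hβq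
    have h := hβi
    rw [hβq, show ((((((2 * (n + e) - 2 * (d.inv2 x : ℤ)) : ℤ) : ℚ) / (D : ℚ)) : ℚ) : ℂ) =
      algebraMap ℚ ℂ ((((2 * (n + e) - 2 * (d.inv2 x : ℤ)) : ℤ) : ℚ) / (D : ℚ)) from rfl,
      isIntegral_algebraMap_iff (algebraMap ℚ ℂ).injective] at h
    obtain ⟨k, hk⟩ := IsIntegrallyClosed.isIntegral_iff.1 h
    refine ⟨k, ?_⟩
    rw [hβq, ← hk]
    simp
  refine ⟨k, ?_, ?_⟩
  · rw [hk, map_intCast] at hf2
    exact_mod_cast hf2
  -- column orthogonality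
  have hαk : Complex.normSq (C.a.1 x) = ((1 + k) * (1 + k) : ℤ) := by
    have hσ : (C.σ : ℂ) * C.σ = 1 := by exact_mod_cast C.σ_sq
    have h : C.a.1 x = ((C.σ * (-1 - k) : ℤ) : ℂ) := by
      push_cast
      rw [← hk, hβ, hα]
      linear_combination (-(C.a.1 x)) * hσ
    rw [h, show ((C.σ * (-1 - k) : ℤ) : ℂ) = (((C.σ * (-1 - k) : ℤ) : ℝ) : ℂ) by push_cast; rfl,
      Complex.normSq_ofReal, ← Int.cast_mul]
    congr 1
    linear_combination (1 + k) * (1 + k) * C.σ_sq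
  have hbk : ∀ μ, μ ≠ 1 → μ ≠ η → Complex.normSq ((C.b μ).1 x) = ((k * k : ℤ) : ℝ) := by
    intro μ h1 h2
    have h := congrArg Complex.normSq ((hbx μ h1 h2).trans hk)
    rw [map_mul, show ((coef K (C.b μ) μ : ℤ) : ℂ) = (((coef K (C.b μ) μ : ℤ) : ℝ) : ℂ) by norm_cast,
      show (k : ℂ) = ((k : ℝ) : ℂ) by norm_cast, Complex.normSq_ofReal, Complex.normSq_ofReal,
      ← Int.cast_mul, C.hb μ h1 h2, Int.cast_one, one_mul] at h
    rw [h, Int.cast_mul]
  have hyk : ((k * k : ℤ) : ℝ) ≤ 2 * (Complex.normSq (C.y₁.1 x) + Complex.normSq (C.y₂.1 x)) := by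
    have h : Complex.normSq ((k : ℤ) : ℂ) ≤ 2 * (Complex.normSq ((coef K C.y₁ η : ℂ) * C.y₁.1 x) +
        Complex.normSq ((coef K C.y₂ η : ℂ) * C.y₂.1 x)) := by
      rw [← hk, ← hyx]
      set u := (coef K C.y₁ η : ℂ) * C.y₁.1 x
      set v := (coef K C.y₂ η : ℂ) * C.y₂.1 x
      have h1 := Complex.normSq_nonneg (u - v)
      rw [Complex.normSq_sub] at h1
      rw [Complex.normSq_add]
      linarith
    rw [map_mul, map_mul, show ((coef K C.y₁ η : ℤ) : ℂ) = (((coef K C.y₁ η : ℤ) : ℝ) : ℂ) by norm_cast,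
      show ((coef K C.y₂ η : ℤ) : ℂ) = (((coef K C.y₂ η : ℤ) : ℝ) : ℂ) by norm_cast,
      show (k : ℂ) = ((k : ℝ) : ℂ) by norm_cast, Complex.normSq_ofReal, Complex.normSq_ofReal,
      Complex.normSq_ofReal, ← Int.cast_mul, ← Int.cast_mul, ← Int.cast_mul, C.hy₁, C.hy₂,
      Int.cast_one, one_mul, one_mul] at h
    exact h
  set P : Finset (K →* ℂˣ) := Finset.univ \ {1, η} with hP
  have hPcard : P.card = n - 2 := by
    rw [hP, Finset.card_univ_diff, d.card_dual, hn, Finset.card_pair hη1.symm]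
  have hPmem : ∀ μ, μ ∈ P → μ ≠ 1 ∧ μ ≠ η := fun μ h => by
    simpa [hP] using h
  set S := P.image C.b with hS
  have hScard : 2 * S.card = n - 2 := by
    rw [← hPcard, Finset.card_eq_sum_card_image C.b P, ← hS]
    have : ∀ χ ∈ S, (P.filter fun a => C.b a = χ).card = 2 := by
      intro χ hχ
      obtain ⟨μ, hμ, rfl⟩ := Finset.mem_image.1 hχ
      obtain ⟨h1, h2⟩ := hPmem μ hμ
      obtain ⟨hi, hi1, hiη⟩ := d.inv_ne hη h1 h2
      rw [show (P.filter fun a => C.b a = C.b μ) = {μ, μ⁻¹} from ?_, Finset.card_pair hi.symm]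
      ext ν
      simp only [Finset.mem_filter, Finset.mem_insert, Finset.mem_singleton]
      constructor
      · rintro ⟨hν, hb⟩
        obtain ⟨h1', h2'⟩ := hPmem ν hν
        exact C.hb_inj μ ν h1 h2 h1' h2' hb.symm
      · rintro (rfl | rfl)
        · exact ⟨hμ, rfl⟩
        · refine ⟨by simp [hP, hi1, hiη], ?_⟩
          by_contra hne
          have hsupp := C.hb_supp μ h1 h2 (C.b μ⁻¹) (C.b_ne_one _ hi1 hiη) (C.b_ne_a _ hi1 hiη) hne
          rw [← d.coef_inv] at hsupp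
          exact one_ne_zero ((C.hb μ⁻¹ hi1 hiη).symm.trans (by rw [hsupp, mul_zero]))
    rw [Finset.sum_congr rfl this, Finset.sum_const, smul_eq_mul, mul_comm]
  have hdisj : Disjoint ({H26.oneIrr G, C.a, C.y₁, C.y₂} : Finset _) S := by
    rw [Finset.disjoint_right]
    intro χ hχ h'
    obtain ⟨μ, hμ, rfl⟩ := Finset.mem_image.1 hχ
    obtain ⟨h1, h2⟩ := hPmem μ hμ
    simp only [Finset.mem_insert, Finset.mem_singleton] at h'
    rcases h' with h | h | h | h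
    · exact C.b_ne_one μ h1 h2 h
    · exact C.b_ne_a μ h1 h2 h
    · exact one_ne_zero (C.hy₁.symm.trans (by rw [← h, C.hb_eta μ h1 h2, mul_zero]))
    · exact one_ne_zero (C.hy₂.symm.trans (by rw [← h, C.hb_eta μ h1 h2, mul_zero]))
  have hcol : ∑ χ : Cfsg.IrrCharacter G, Complex.normSq (χ.1 x) =
      (Nat.card ↥(Subgroup.centralizer ({x} : Set G)) : ℝ) := by
    have h := H26.column_orthogonality x x
    simp only [H26.classIndicator, if_pos (IsConj.refl x), mul_one, Complex.mul_conj] at h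
    exact_mod_cast h
  have hle := Finset.sum_le_sum_of_subset_of_nonneg
    (Finset.subset_univ (({H26.oneIrr G, C.a, C.y₁, C.y₂} : Finset _) ∪ S))
    (fun χ _ _ => Complex.normSq_nonneg (χ.1 x))
  rw [hcol, Finset.sum_union hdisj,
    Finset.sum_insert (by simp [C.a_ne.symm, C.y₁_ne_one.symm, C.y₂_ne_one.symm]),
    Finset.sum_insert (by simp [C.y₁_ne_a.symm, C.y₂_ne_a.symm]), Finset.sum_pair C.y_ne,
    H26.oneIrr_val, map_one, hαk,
    show ∑ χ ∈ S, Complex.normSq (χ.1 x) = ∑ _χ ∈ S, ((k * k : ℤ) : ℝ) from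
      Finset.sum_congr rfl (fun χ hχ => by
        obtain ⟨μ, hμ, rfl⟩ := Finset.mem_image.1 hχ
        exact hbk μ (hPmem μ hμ).1 (hPmem μ hμ).2), Finset.sum_const, nsmul_eq_mul] at hle
  have hS' : 2 * (S.card : ℝ) = (n : ℝ) - 2 := by
    have h : 2 * S.card + 2 = n := by omega
    have : ((2 * S.card + 2 : ℕ) : ℝ) = n := by rw [h]
    push_cast at this
    linarith
  have hfin : ((2 + 2 * ((1 + k) * (1 + k)) + ((n : ℤ) - 1) * (k * k) : ℤ) : ℝ) ≤
      ((2 * Nat.card ↥(Subgroup.centralizer ({x} : Set G)) : ℤ) : ℝ) := by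
    push_cast at hle hyk ⊢
    linear_combination 2 * hle + hyk + (-((k : ℝ) * k)) * hS'
  exact_mod_cast hfin

end Cfsg.Agent.H77
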