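import Cfsg.Agent.H77.BSW.Numbers

/-!
# The case `|G| = 2n(2n+1)(n+1)` of the Brauer–Suzuki–Wall theorem
-/

set_option autoImplicit false

namespace Cfsg.Agent.H77

open Subgroup

/-- The conclusion of the abstract Brauer–Suzuki–Wall theorem. -/
def BSWConcl (G : Type*) [Group G] : Prop :=
  ∃ Q D : Subgroup G, 2 * Nat.card G = Nat.card ↥Q * (Nat.card ↥Q + 1) * (Nat.card ↥Q - 1) ∧
    (∀ x ∈ Q, x ≠ 1 → Subgroup.centralizer ({x} : Set G) = Q) ∧
    IsMulCommutative ↥D ∧ 2 * Nat.card ↥D + 1 = Nat.card ↥Q ∧ Q ⊓ D = ⊥ ∧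
    Subgroup.normalizer (Q : Set G) = Q ⊔ D ∧
    ∀ X : Subgroup G, X ≤ D → X ≠ ⊥ →
      Subgroup.normalizer (X : Set G) = Subgroup.normalizer (D : Set G) ∧
      ∃ u : G, orderOf u = 2 ∧ u ∉ D ∧ (∀ d ∈ D, u * d * u⁻¹ = d⁻¹) ∧
        Subgroup.normalizer (D : Set G) = D ⊔ Subgroup.zpowers u

variable {G : Type*} [Group G] [Finite G] {t s : G} {K : Subgroup G} (d : BSW t K s)
include d

/-- Orders of elements with a conjugate in `K`. -/
theorem BSW.orderOf_dvd {y : G} (h : ConjInto K y) : orderOf y ∣ Nat.card K := by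
  obtain ⟨g, hg⟩ := h
  rw [← MulEquiv.orderOf_eq (MulAut.conj g) y, ← Subgroup.orderOf_mk (MulAut.conj g y) hg]
  exact orderOf_dvd_natCard _

/-- The normalizer of a nontrivial subgroup of `K` is `C(t)`. -/
theorem BSW.normalizer_of_le {X : Subgroup G} (hX : X ≤ K) (hne : X ≠ ⊥) :
    Subgroup.normalizer (X : Set G) = Subgroup.centralizer ({t} : Set G) := by
  ext g
  rw [Subgroup.mem_centralizer_singleton_iff]
  constructor
  · intro hg
    obtain ⟨a, ha, ha1⟩ := X.bot_or_exists_ne_one.resolve_left hne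
    exact d.ti g a (hX ha) ha1
      (hX ((Subgroup.mem_normalizer_iff.1 hg a).1 ha))
  · intro hg
    have key : ∀ h : G, h * t = t * h → ∀ a ∈ X, h * a * h⁻¹ ∈ X := by
      intro h hh a ha
      by_cases hK : h ∈ K
      · rwa [d.comm h hK a (hX ha), mul_inv_cancel_right]
      · rw [(d.outside hh hK).2.2 a (hX ha)]; exact inv_mem ha
    rw [Subgroup.mem_normalizer_iff]
    refine fun a => ⟨key g hg a, fun h => ?_⟩
    have := key g⁻¹ (Commute.inv_left hg).eq _ h
    simpa [mul_assoc] using this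

/-- `C(t) = K⟨s⟩`. -/
theorem BSW.centralizer_eq_sup :
    Subgroup.centralizer ({t} : Set G) = K ⊔ Subgroup.zpowers s := by
  refine le_antisymm (fun g hg => ?_) (sup_le (fun a ha => ?_) (Subgroup.zpowers_le.2 ?_))
  · rcases (d.mem_cases g).1 (Subgroup.mem_centralizer_singleton_iff.1 hg) with h | h
    · exact Subgroup.mem_sup_left h
    · have := mul_mem (Subgroup.mem_sup_left (T := Subgroup.zpowers s) h)
        (Subgroup.mem_sup_right (S := K) (inv_mem (Subgroup.mem_zpowers s)))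
      rwa [mul_inv_cancel_right] at this
  · exact Subgroup.mem_centralizer_singleton_iff.2 ((d.mem_cases a).2 (Or.inl ha))
  · exact Subgroup.mem_centralizer_singleton_iff.2
      ((d.mem_cases s).2 (Or.inr (d.s_sq ▸ one_mem K)))

/-- The case `|G| = 2n(2n+1)(n+1)`. -/
theorem BSW.concl_plus (hn4 : 4 ≤ Nat.card K)
    (hN : (Nat.card {x : G // IsConj t x} : ℤ) = (1 + 2 * Nat.card K) * (1 + Nat.card K))
    (hnum : ∀ x : G, ¬ConjInto K x → ∃ k : ℤ,
      (d.inv2 x : ℤ) = Nat.card K + 1 - k * Nat.card K ∧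
      2 + 2 * ((1 + k) * (1 + k)) + ((Nat.card K : ℤ) - 1) * (k * k) ≤
        2 * Nat.card ↥(Subgroup.centralizer ({x} : Set G))) : BSWConcl G := by
  obtain ⟨n, hn⟩ : ∃ n, Nat.card K = n := ⟨_, rfl⟩
  simp only [hn] at hN hnum hn4
  have hg : Nat.card G = 2 * n * ((1 + 2 * n) * (1 + n)) := by
    rw [d.card_eq, hn]
    congr 1
    exact_mod_cast hN
  obtain ⟨p, hp, hpq⟩ := Nat.exists_prime_and_dvd (n := 2 * n + 1) (by omega)
  haveI : Fact p.Prime := ⟨hp⟩
  have hpn : ¬ p ∣ n := fun h => hp.one_lt.ne' (Nat.dvd_one.1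
    ((Nat.dvd_add_right (h.mul_left 2)).1 hpq))
  obtain ⟨x₀, hx₀⟩ := exists_prime_orderOf_dvd_card' (G := G) p (by
    rw [hg, show 1 + 2 * n = 2 * n + 1 by ring]
    exact ((hpq.mul_right _).mul_left _))
  have hfree₀ : ¬ConjInto K x₀ := fun h => hpn (hn ▸ hx₀ ▸ d.orderOf_dvd h)
  have hf₀ : 0 < d.inv2 x₀ := by
    obtain ⟨k, hk, -⟩ := hnum x₀ hfree₀
    refine Nat.pos_of_ne_zero fun h => ?_
    rw [h, Nat.cast_zero] at hk
    have hdvd : (n : ℤ) ∣ 1 := ⟨k - 1, by linear_combination -hk⟩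
    have := Int.le_of_dvd one_pos hdvd
    omega
  obtain ⟨g, hinv⟩ := d.exists_inverted hf₀
  set x := g * x₀ * g⁻¹ with hx
  have hfree : ¬ConjInto K x := fun h => hfree₀ ((conjInto_conj_iff g).1 h)
  have hord : orderOf x = p := by rw [hx, ← MulAut.conj_apply, MulEquiv.orderOf_eq, hx₀]
  set Q := Subgroup.centralizer ({x} : Set G) with hQ
  have hpc : p ∣ Nat.card Q := by
    rw [← hord, ← Subgroup.orderOf_mk x (Subgroup.mem_centralizer_singleton_iff.2 rfl : x ∈ Q)]
    exact orderOf_dvd_natCard _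
  obtain ⟨k, hk, hb⟩ := hnum x hfree
  rw [d.inv2_eq_card hfree hinv] at hk
  obtain ⟨c, hc⟩ : ∃ c, Nat.card Q = c := ⟨_, rfl⟩
  rw [← hQ, hc] at hk hb
  have hc0 : 0 < c := hc ▸ Nat.card_pos
  have hk1 : k ≤ 1 := by
    by_contra h
    nlinarith
  have hk2 : -2 ≤ k := by
    by_contra h
    nlinarith
  have hcq : c = 2 * n + 1 := by
    interval_cases k
    · exfalso
      have hc' : c = 3 * n + 1 := by omega
      have hodd : Odd c := hc ▸ d.odd_centralizer hfree
      have hdvd : c ∣ 2 * n * ((1 + 2 * n) * (1 + n)) := hg ▸ hc ▸ Subgroup.card_subgroup_dvd_card Q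
      have key : ∀ r : ℕ, r.Prime → r ∣ c → r ∣ 2 * n * ((1 + 2 * n) * (1 + n)) → False := by
        intro r hr h1 h2
        have hr2 : r ≠ 2 := fun e => by
          rw [e] at h1
          exact Nat.not_even_iff_odd.2 hodd (even_iff_two_dvd.2 h1)
        have hrn : ¬ r ∣ n := fun h => hr.one_lt.ne' (Nat.dvd_one.1
          ((Nat.dvd_add_right (h.mul_left 3)).1 (hc' ▸ h1)))
        rcases (Nat.Prime.dvd_mul hr).1 h2 with h | h
        · rcases (Nat.Prime.dvd_mul hr).1 h with h | h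
          · exact hr2 ((Nat.prime_dvd_prime_iff_eq hr Nat.prime_two).1 h)
          · exact hrn h
        · rcases (Nat.Prime.dvd_mul hr).1 h with h | h
          · refine hrn ?_
            have h' : r ∣ 3 * n + 1 := hc' ▸ h1
            have : r ∣ (3 * n + 1) - (1 + 2 * n) := Nat.dvd_sub h' h
            rwa [show (3 * n + 1) - (1 + 2 * n) = n by omega] at this
          · refine hr2 ((Nat.prime_dvd_prime_iff_eq hr Nat.prime_two).1 ?_)
            have h' : r ∣ 3 * (1 + n) - (3 * n + 1) := Nat.dvd_sub (h.mul_left 3) (hc' ▸ h1)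
            rwa [show 3 * (1 + n) - (3 * n + 1) = 2 by omega] at h'
      obtain ⟨r, hr, hrc⟩ := Nat.exists_prime_and_dvd (n := c) (by omega)
      exact key r hr hrc (hrc.trans hdvd)
    · omega
    · exfalso
      have hc' : c = n + 1 := by omega
      have h' : p ∣ 2 * (n + 1) - (2 * n + 1) := Nat.dvd_sub ((hc' ▸ hc ▸ hpc).mul_left 2) hpq
      rw [show 2 * (n + 1) - (2 * n + 1) = 1 by omega] at h'
      exact hp.one_lt.ne' (Nat.dvd_one.1 h')
    · exfalso
      nlinarith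
  have he : Nat.card (d.normPart x) ∣ n := hn ▸ Subgroup.card_dvd_of_le (d.normPart_le hfree hinv)
  have hco : Nat.Coprime (Nat.card Q) (Nat.card (d.normPart x)) := by
    rw [hc, hcq]
    refine Nat.Coprime.coprime_dvd_right he ?_
    rw [mul_comm 2 n, Nat.coprime_mul_left_add_left]
    exact Nat.coprime_one_left n
  obtain ⟨r, hr⟩ := d.index_normalizer_mod hfree hinv hco
  rw [← hQ, hc, hcq] at hr
  have hidx : (Subgroup.normalizer (Q : Set G)).index * Nat.card (d.normPart x) =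
      2 * n * (n + 1) := by
    have h := Subgroup.index_mul_card (Subgroup.normalizer (Q : Set G))
    rw [d.card_normalizer hfree hinv, ← hQ, hc, hcq, hg] at h
    apply Nat.eq_of_mul_eq_mul_left (show 0 < 2 * n + 1 by omega)
    linarith
  have hi0 : 0 < (Subgroup.normalizer (Q : Set G)).index := Nat.pos_of_ne_zero Subgroup.index_ne_zero_of_finite
  obtain ⟨i, hi⟩ : ∃ i, (Subgroup.normalizer (Q : Set G)).index = i + 1 := ⟨_, (Nat.sub_add_cancel hi0).symm⟩
  rw [hi, Nat.add_sub_cancel] at hr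
  rw [hi, hr] at hidx
  have hfull : Nat.card (d.normPart x) = n := by
    obtain ⟨e, hee⟩ : ∃ e, Nat.card (d.normPart x) = e := ⟨_, rfl⟩
    rw [hee] at hidx he ⊢
    have h1 : (2 * n + 1 : ℤ) ∣ 2 * e + 1 := by
      refine ⟨2 * n + 1 - 2 * e * r, ?_⟩
      have h2 : (((2 * n + 1) * r + 1) * e : ℤ) = 2 * n * (n + 1) := by exact_mod_cast hidx
      linear_combination 2 * h2
    have h3 := Int.le_of_dvd (by omega) h1
    have h4 := Nat.le_of_dvd (by omega) he
    omega
  have hK : d.normPart x = K := Subgroup.eq_of_le_of_card_ge (d.normPart_le hfree hinv) (by rw [hn, hfull])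
  refine ⟨Q, K, ?_, ?_, ⟨⟨fun a b => Subtype.ext (d.comm a a.2 b b.2)⟩⟩, by rw [hn, hc, hcq], ?_, ?_, ?_⟩
  · rw [hg, hc, hcq, show 2 * n + 1 - 1 = 2 * n by omega]; ring
  · exact fun y hy hy1 => d.centralizer_eq hfree hinv hy hy1
  · rw [← hK]; exact disjoint_iff.1 (d.normPart_inf hfree)
  · rw [← hK]; exact d.normalizer_eq_sup hfree hinv
  · intro X hX hne
    have hKne : K ≠ ⊥ := fun e => d.t_ne_one (by simpa [e] using d.t_mem)
    refine ⟨by rw [d.normalizer_of_le hX hne, d.normalizer_of_le le_rfl hKne], s, d.s_order,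
      d.s_notMem, d.inv, ?_⟩
    rw [d.normalizer_of_le le_rfl hKne, d.centralizer_eq_sup]

end Cfsg.Agent.H77
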