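import Cfsg.Agent.H77.BSW.Coherence
import Cfsg.Agent.H25.CharValues

/-!
# The order of a group in the Brauer–Suzuki–Wall setting and the number of factorizations
-/

set_option autoImplicit false

open scoped ComplexConjugate

namespace Cfsg.Agent.H77

variable {G : Type*} [Group G] [Fintype G] {t s : G} {K : Subgroup G}

theorem isIntegral_irr (χ : Cfsg.IrrCharacter G) (g : G) : IsIntegral ℤ (χ.1 g) := by
  obtain ⟨n, ρ, -, e⟩ := χ.2
  rw [← e]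
  exact H25.isIntegral_char ρ g

variable (d : BSW t K s) {η : K →* ℂˣ} (hη1 : η ≠ 1)
  (hη : ∀ μ : K →* ℂˣ, μ⁻¹ = μ ↔ μ = 1 ∨ μ = η) (C : d.Coh η)
include d

omit [Fintype G] in
theorem BSW.inv_ne {μ : K →* ℂˣ} {η' : K →* ℂˣ}
    (h : ∀ μ : K →* ℂˣ, μ⁻¹ = μ ↔ μ = 1 ∨ μ = η') (h1 : μ ≠ 1) (h2 : μ ≠ η') :
    μ⁻¹ ≠ μ ∧ μ⁻¹ ≠ 1 ∧ μ⁻¹ ≠ η' := by
  refine ⟨fun e => ((h μ).1 e).elim h1 h2, fun e => ?_, fun e => ?_⟩
  · exact h1 (MonoidHom.ext fun k => inv_eq_one.1 (DFunLike.congr_fun e k))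
  · refine h2 ?_
    rw [← hom_inv_inv μ, e]
    exact (h η').2 (Or.inr rfl)

variable {d}

theorem BSW.Coh.sum_b {μ : K →* ℂˣ} (h1 : μ ≠ 1) (h2 : μ ≠ η) (F : Cfsg.IrrCharacter G → ℂ) :
    ∑ χ, (coef K χ μ : ℂ) * F χ =
      F (H26.oneIrr G) + (C.σ : ℂ) * F C.a + (coef K (C.b μ) μ : ℂ) * F (C.b μ) := by
  classical
  rw [sum_three (f := fun χ => (coef K χ μ : ℂ)) C.a_ne.symm (C.b_ne_one μ h1 h2).symm
    (C.b_ne_a μ h1 h2).symm (fun χ ha hb hc => by simp [C.hb_supp μ h1 h2 χ ha hb hc])]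
  simp [coef_oneIrr h1, C.ha μ h1]

include hη1 in
theorem BSW.Coh.sum_eta (F : Cfsg.IrrCharacter G → ℂ) :
    ∑ χ, (coef K χ η : ℂ) * F χ = F (H26.oneIrr G) + (C.σ : ℂ) * F C.a +
      ((coef K C.y₁ η : ℂ) * F C.y₁ + (coef K C.y₂ η : ℂ) * F C.y₂) := by
  classical
  have hsupp : ∀ χ, χ ∉ ({H26.oneIrr G, C.a, C.y₁, C.y₂} : Finset _) → (coef K χ η : ℂ) * F χ = 0 := by
    intro χ h
    simp only [Finset.mem_insert, Finset.mem_singleton, not_or] at h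
    rw [C.hy_supp χ h.1 h.2.1 h.2.2.1 h.2.2.2, Int.cast_zero, zero_mul]
  rw [← Finset.sum_subset (Finset.subset_univ _) fun χ _ h => hsupp χ h,
    Finset.sum_insert (by simp [C.a_ne.symm, C.y₁_ne_one.symm, C.y₂_ne_one.symm]),
    Finset.sum_insert (by simp [C.y₁_ne_a.symm, C.y₂_ne_a.symm]), Finset.sum_pair C.y_ne,
    coef_oneIrr hη1, C.ha η hη1, Int.cast_one, one_mul, add_assoc]

include hη hη1 in
theorem BSW.Coh.b_apply_t {μ : K →* ℂˣ} (h1 : μ ≠ 1) (h2 : μ ≠ η) :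
    (C.b μ).1 t = ((-(2 * (coef K (C.b μ) μ * d.sgn μ)) : ℤ) : ℂ) := by
  classical
  rw [d.irr_apply_t]
  congr 2
  obtain ⟨hi, hi1, hiη⟩ := d.inv_ne hη h1 h2
  rw [sum_two (f := fun ν => coef K (C.b μ) ν) hi.symm ?_, d.coef_inv, d.sgn_inv, two_mul]
  intro ν hν hν'
  by_cases e1 : ν = 1
  · rw [e1, coef_one]
  by_cases e2 : ν = η
  · rw [e2]; exact C.hb_eta μ h1 h2
  refine C.hb_supp ν e1 e2 _ (C.b_ne_one μ h1 h2) (C.b_ne_a μ h1 h2) fun e => ?_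
  exact (C.hb_inj μ ν h1 h2 e1 e2 e).elim hν hν'

include hη hη1 in
theorem BSW.Coh.y_apply_t {y : Cfsg.IrrCharacter G} (hy : y = C.y₁ ∨ y = C.y₂) :
    y.1 t = ((-(coef K y η * d.sgn η) : ℤ) : ℂ) := by
  classical
  rw [d.irr_apply_t]
  congr 2
  have hne : coef K y η ≠ 0 := by
    rcases hy with rfl | rfl
    · exact left_ne_zero_of_mul (C.hy₁ ▸ one_ne_zero)
    · exact left_ne_zero_of_mul (C.hy₂ ▸ one_ne_zero)
  refine Finset.sum_eq_single η (fun ν _ hν => ?_) (by simp)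
  by_cases e1 : ν = 1
  · rw [e1, coef_one, zero_mul]
  rw [C.hb_supp ν e1 hν y ?_ ?_ fun e => hne (e ▸ C.hb_eta ν e1 hν), zero_mul]
  · rcases hy with rfl | rfl
    exacts [C.y₁_ne_one, C.y₂_ne_one]
  · rcases hy with rfl | rfl
    exacts [C.y₁_ne_a, C.y₂_ne_a]

include hη1 in
theorem BSW.Coh.a_apply {k : G} (hk : k ∈ K) (hk1 : k ≠ 1) : C.a.1 k = (C.σ : ℂ) := by
  classical
  haveI := d.isMulCommutative
  have hk1' : (⟨k, hk⟩ : K) ≠ 1 := fun e => hk1 (congrArg Subtype.val e)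
  rw [show C.a.1 k = _ from d.irr_apply_ne C.a hk1']
  have : ∀ μ : K →* ℂˣ, (coef K C.a μ : ℂ) * ((μ ⟨k, hk⟩ : ℂˣ) : ℂ) =
      (C.σ : ℂ) * ((μ ⟨k, hk⟩ : ℂˣ) : ℂ) - if μ = 1 then (C.σ : ℂ) else 0 := by
    intro μ
    by_cases hμ : μ = 1
    · subst hμ; simp [coef_one]
    · simp [C.ha μ hμ, hμ]
  simp only [this, Finset.sum_sub_distrib, ← Finset.mul_sum, H27.sum_linear_apply, if_neg hk1',
    Finset.sum_ite_eq', Finset.mem_univ, if_true]
  ring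

include hη hη1 in
/-- The order of the group and the signed degrees. -/
theorem BSW.Coh.degrees (h4 : 2 < Nat.card K) :
    ∃ e : ℤ, (e = 1 ∨ e = -1) ∧
      (Nat.card {x : G // IsConj t x} : ℤ) =
        (1 + 2 * e * Nat.card K) * (1 + e * Nat.card K) ∧
      C.σ * ideg C.a = 1 + 2 * e * Nat.card K ∧
      (∀ μ, μ ≠ 1 → μ ≠ η → coef K (C.b μ) μ * ideg (C.b μ) = -(2 * (1 + e * Nat.card K))) ∧
      coef K C.y₁ η * ideg C.y₁ = -(1 + e * Nat.card K) ∧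
      coef K C.y₂ η * ideg C.y₂ = -(1 + e * Nat.card K) := by
  classical
  haveI := d.isMulCommutative
  have : Fintype K := Fintype.ofFinite _
  obtain ⟨n, hn⟩ : ∃ n : ℕ, Nat.card K = n := ⟨_, rfl⟩
  obtain ⟨N, hN⟩ : ∃ N : ℕ, Nat.card {x : G // IsConj t x} = N := ⟨_, rfl⟩
  have hNodd : Odd N := hN ▸ d.odd_class
  have hN0 : (N : ℂ) ≠ 0 := Nat.cast_ne_zero.2 fun h => by simp [h] at hNodd
  have hn0 : (n : ℤ) ≠ 0 := by rw [← hn]; exact Nat.cast_ne_zero.2 Nat.card_pos.ne'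
  have hg : (Nat.card G : ℂ) = 2 * n * N := by
    rw [d.card_eq, hn, hN]; push_cast; rfl
  set A : ℤ := C.σ * ideg C.a with hA
  have hσ0 : C.σ ≠ 0 := left_ne_zero_of_mul (C.σ_sq ▸ one_ne_zero)
  have hσc : (C.σ : ℂ) * C.σ = 1 := by exact_mod_cast C.σ_sq
  have hA0 : A ≠ 0 := mul_ne_zero hσ0 (ideg_ne_zero _)
  have key : ∀ (c D : ℤ) (k : ℂ), c * c = 1 → D ≠ 0 →
      (c : ℂ) * (k * ((c : ℂ) * c) / (D : ℂ)) = k / ((c * D : ℤ) : ℂ) := by
    intro c D k hc hD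
    have hc' : (c : ℂ) * c = 1 := by exact_mod_cast hc
    have hc0 : (c : ℂ) ≠ 0 := left_ne_zero_of_mul (hc' ▸ one_ne_zero)
    have hD0 : (D : ℂ) ≠ 0 := Int.cast_ne_zero.2 hD
    push_cast
    rw [hc', mul_one]
    field_simp
    linear_combination k * hc'
  have hat := C.a_apply hη1 d.t_mem d.t_ne_one
  have hFa : (C.σ : ℂ) * (C.a.1 t * C.a.1 t / C.a.1 1) = 1 / (A : ℂ) := by
    rw [hat, ← ideg_cast, ← key C.σ (ideg C.a) 1 C.σ_sq (ideg_ne_zero _), one_mul]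
  have hB : ∀ μ, μ ≠ 1 → μ ≠ η →
      coef K (C.b μ) μ * ideg (C.b μ) ≠ 0 ∧ 1 + A + coef K (C.b μ) μ * ideg (C.b μ) = 0 ∧
      (2 : ℤ) * n * n * A * (coef K (C.b μ) μ * ideg (C.b μ)) =
        N * (A * (coef K (C.b μ) μ * ideg (C.b μ)) + coef K (C.b μ) μ * ideg (C.b μ) + 4 * A) := by
    intro μ h1 h2
    set c := coef K (C.b μ) μ with hc
    have hcc : c * c = 1 := C.hb μ h1 h2
    have hB0 : c * ideg (C.b μ) ≠ 0 :=
      mul_ne_zero (left_ne_zero_of_mul (hcc ▸ one_ne_zero)) (ideg_ne_zero _)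
    refine ⟨hB0, ?_, ?_⟩
    · have h := sum_coef_degree (K := K) (G := G) μ
      rw [C.sum_b h1 h2 fun χ => χ.1 1, H26.oneIrr_val, ← ideg_cast, ← ideg_cast] at h
      exact_mod_cast h
    · have h := d.order_eq h1
      rw [C.sum_b h1 h2, hFa, H26.oneIrr_val, H26.oneIrr_val, C.b_apply_t hη1 hη h1 h2,
        ← ideg_cast (C.b μ), hg, hn, hN] at h
      have hsq : (((-(2 * (c * d.sgn μ))) : ℤ) : ℂ) * (((-(2 * (c * d.sgn μ))) : ℤ) : ℂ) =
          4 * ((c : ℂ) * c) := by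
        have := d.sgn_sq μ
        rw [← Int.cast_mul, show (-(2 * (c * d.sgn μ))) * (-(2 * (c * d.sgn μ))) =
          4 * (c * c) * (d.sgn μ * d.sgn μ) by ring, this]
        push_cast
        ring
      rw [hsq, key c _ 4 hcc (ideg_ne_zero _)] at h
      have hAc : (A : ℂ) ≠ 0 := Int.cast_ne_zero.2 hA0
      obtain ⟨B, hB'⟩ : ∃ B, c * ideg (C.b μ) = B := ⟨_, rfl⟩
      rw [hB'] at h hB0 ⊢
      have hBc : (B : ℂ) ≠ 0 := Int.cast_ne_zero.2 hB0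
      have h' : ((2 * n * n * A * B : ℤ) : ℂ) = ((N * (A * B + B + 4 * A) : ℤ) : ℂ) := by
        push_cast
        field_simp at h
        linear_combination h
      exact Int.cast_injective h'
  set Y₁ := coef K C.y₁ η * ideg C.y₁ with hY₁
  set Y₂ := coef K C.y₂ η * ideg C.y₂ with hY₂
  have hY₁0 : Y₁ ≠ 0 := mul_ne_zero (left_ne_zero_of_mul (C.hy₁ ▸ one_ne_zero)) (ideg_ne_zero _)
  have hY₂0 : Y₂ ≠ 0 := mul_ne_zero (left_ne_zero_of_mul (C.hy₂ ▸ one_ne_zero)) (ideg_ne_zero _)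
  have hYdeg : 1 + A + (Y₁ + Y₂) = 0 := by
    have h := sum_coef_degree (K := K) (G := G) η
    rw [C.sum_eta hη1 fun χ => χ.1 1, H26.oneIrr_val, ← ideg_cast, ← ideg_cast, ← ideg_cast] at h
    exact_mod_cast h
  have hYord : (2 : ℤ) * n * n * A * (Y₁ * Y₂) =
      N * (A * (Y₁ * Y₂) + Y₁ * Y₂ + A * (Y₁ + Y₂)) := by
    have h := d.order_eq hη1
    rw [C.sum_eta hη1, hFa, H26.oneIrr_val, H26.oneIrr_val, C.y_apply_t hη1 hη (Or.inl rfl),
      C.y_apply_t hη1 hη (Or.inr rfl), ← ideg_cast C.y₁, ← ideg_cast C.y₂, hg, hn, hN] at h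
    have hsq : ∀ c : ℤ, (((-(c * d.sgn η)) : ℤ) : ℂ) * (((-(c * d.sgn η)) : ℤ) : ℂ) =
        1 * ((c : ℂ) * c) := by
      intro c
      rw [← Int.cast_mul, show (-(c * d.sgn η)) * (-(c * d.sgn η)) =
        (c * c) * (d.sgn η * d.sgn η) by ring, d.sgn_sq η]
      push_cast
      ring
    rw [hsq, hsq, key _ _ 1 C.hy₁ (ideg_ne_zero _), key _ _ 1 C.hy₂ (ideg_ne_zero _), ← hY₁,
      ← hY₂] at h
    have hAc : (A : ℂ) ≠ 0 := Int.cast_ne_zero.2 hA0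
    have hY₁c : (Y₁ : ℂ) ≠ 0 := Int.cast_ne_zero.2 hY₁0
    have hY₂c : (Y₂ : ℂ) ≠ 0 := Int.cast_ne_zero.2 hY₂0
    have h' : ((2 * n * n * A * (Y₁ * Y₂) : ℤ) : ℂ) =
        ((N * (A * (Y₁ * Y₂) + Y₁ * Y₂ + A * (Y₁ + Y₂)) : ℤ) : ℂ) := by
      push_cast
      field_simp at h
      linear_combination h
    exact Int.cast_injective h'
  obtain ⟨μ, hμ⟩ : ∃ μ : K →* ℂˣ, μ ∉ ({1, η} : Finset (K →* ℂˣ)) := by
    by_contra h
    push_neg at h
    have h2 := (Finset.card_le_card (s := Finset.univ) (fun x _ => h x)).trans Finset.card_le_two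
    rw [Finset.card_univ, d.card_dual] at h2
    omega
  simp only [Finset.mem_insert, Finset.mem_singleton, not_or] at hμ
  obtain ⟨hB0, hBdeg, hBord⟩ := hB μ hμ.1 hμ.2
  set B := coef K (C.b μ) μ * ideg (C.b μ) with hBdef
  -- the two constituents at `η` have equal degrees
  have hNz : (N : ℤ) ≠ 0 := fun h => by
    rw [Nat.cast_eq_zero.1 h] at hNodd
    simp at hNodd
  have hY : 4 * (Y₁ * Y₂) = B * (Y₁ + Y₂) := by
    have h : (N : ℤ) * (A * B + B + 4 * A) * (Y₁ * Y₂) =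
        N * (A * (Y₁ * Y₂) + Y₁ * Y₂ + A * (Y₁ + Y₂)) * B := by
      linear_combination (-(Y₁ * Y₂)) * hBord + B * hYord
    apply mul_left_cancel₀ (mul_ne_zero hNz hA0)
    linear_combination h
  have hYY : Y₁ = Y₂ := by
    have : (Y₁ - Y₂) * (Y₁ - Y₂) = 0 := by
      linear_combination (-1) * hY + (Y₁ + Y₂) * hYdeg - (Y₁ + Y₂) * hBdeg
    exact sub_eq_zero.1 (mul_self_eq_zero.1 this)
  have hkey : (N : ℤ) * ((A - 1) * (A - 1)) = 2 * n * n * A * (A + 1) := by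
    linear_combination hBord + ((N : ℤ) * (A + 1) - 2 * n * n * A) * hBdeg
  -- `n` divides `A - 1`
  have hdiv : (n : ℤ) * (C.σ * (mult K C.a 1 : ℤ) - 1) = A - 1 := by
    have h := mult_spec C.a (1 : K →* ℂˣ)
    rw [hn] at h
    have hsum : ∑ y : K, C.a.1 y * (((1 : K →* ℂˣ) y⁻¹ : ℂˣ) : ℂ) =
        (ideg C.a : ℂ) + ((n : ℂ) - 1) * C.σ := by
      have : ∀ y : K, C.a.1 y * (((1 : K →* ℂˣ) y⁻¹ : ℂˣ) : ℂ) =
          (C.σ : ℂ) + if y = 1 then (ideg C.a : ℂ) - C.σ else 0 := by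
        intro y
        by_cases hy : y = 1
        · subst hy; simp [ideg_cast]
        · simp [C.a_apply hη1 y.2 fun e => hy (Subtype.ext e), hy]
      simp only [this, Finset.sum_add_distrib, Finset.sum_const, Finset.card_univ,
        ← Nat.card_eq_fintype_card, hn, Finset.sum_ite_eq', Finset.mem_univ, if_true, nsmul_eq_mul]
      ring
    rw [hsum] at h
    have hnc : (n : ℂ) ≠ 0 := by exact_mod_cast hn0
    field_simp at h
    have h2 : ((n * (mult K C.a 1 : ℤ) : ℤ) : ℂ) = ((ideg C.a + (n - 1) * C.σ : ℤ) : ℂ) := by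
      push_cast
      linear_combination h
    have h3 := Int.cast_injective h2
    linear_combination C.σ * h3 + ((n : ℤ) - 1) * C.σ_sq
  set j := C.σ * (mult K C.a 1 : ℤ) - 1
  have hA' : A = 1 + j * n := by linear_combination (-1) * hdiv
  have hj : (N : ℤ) * (j * j) = 2 * ((1 + j * n) * (2 + j * n)) := by
    apply mul_left_cancel₀ (mul_ne_zero hn0 hn0)
    rw [hA'] at hkey
    linear_combination hkey
  obtain ⟨e, hje⟩ : (2 : ℤ) ∣ j := by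
    have h2 : (2 : ℤ) ∣ (N : ℤ) * (j * j) := hj ▸ dvd_mul_right 2 _
    rcases Int.prime_two.dvd_or_dvd h2 with h | h
    · exact absurd h (by obtain ⟨r, hr⟩ := hNodd; omega)
    · exact (Int.prime_two.dvd_or_dvd h).elim id id
  have he2 : (N : ℤ) * (e * e) = (1 + 2 * e * n) * (1 + e * n) := by
    rw [hje] at hj
    apply mul_left_cancel₀ (show (4 : ℤ) ≠ 0 by norm_num)
    linear_combination hj
  have he : e = 1 ∨ e = -1 := by
    have h1 : e ∣ (1 : ℤ) := ⟨N * e - 3 * n - 2 * e * n * n, by linear_combination -he2⟩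
    exact Int.isUnit_iff.1 (isUnit_of_dvd_one h1)
  have hee : e * e = 1 := by rcases he with h | h <;> simp [h]
  have hAe : A = 1 + 2 * e * n := by rw [hA', hje]
  refine ⟨e, he, ?_, ?_, fun ν h1 h2 => ?_, ?_, ?_⟩
  · rw [hN, hn]; linear_combination he2 - (N : ℤ) * hee
  · rw [hn]; exact hAe
  · obtain ⟨-, h, -⟩ := hB ν h1 h2
    rw [hn]; linear_combination h - hAe
  · rw [hn]; linarith
  · rw [hn]; linarith

end Cfsg.Agent.H77
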